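import Mathlib

set_option autoImplicit false

/-!
# Centralizers of normal subsystems.  Part A: an averaging lemma

A vanishing statement for the first cohomology of a cyclic group of order prime to the exponent of
the coefficient group, in the form needed to make a lift of an automorphism commute with a given
automorphism of coprime order.
-/

namespace Cfsg.Agent.Lib.Helper42.Cen

open Finset

/-- A cocycle of norm one for an endomorphism `θ` of an abelian group of exponent `q`, with `m`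
steps and `m` invertible modulo `q`, is a coboundary. -/
theorem h1_vanish {A : Type*} [CommGroup A] (θ : A →* A) (m q e : ℕ) (ζ₁ : A)
    (hq : ∀ x : A, x ^ q = 1) (hme : m * e ≡ 1 [MOD q])
    (hnorm : ∏ j ∈ range m, θ^[j] ζ₁ = 1) : ∃ ζ : A, ζ = ζ₁ * θ ζ := by
  have hstep : ∀ i : ℕ, ζ₁ * θ (∏ j ∈ range i, θ^[j] ζ₁) = ∏ j ∈ range (i + 1), θ^[j] ζ₁ := by
    intro i
    rw [map_prod, Finset.prod_range_succ' (fun j => θ^[j] ζ₁) i, mul_comm]
    congr 1
    apply Finset.prod_congr rfl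
    intro j _
    rw [Function.iterate_succ_apply']
  have hN1 : ζ₁ ^ m * θ (∏ i ∈ range m, ∏ j ∈ range i, θ^[j] ζ₁) =
      ∏ i ∈ range m, ∏ j ∈ range i, θ^[j] ζ₁ := by
    rw [map_prod]
    have h1 : ∏ i ∈ range m, (ζ₁ * θ (∏ j ∈ range i, θ^[j] ζ₁)) =
        ζ₁ ^ m * ∏ i ∈ range m, θ (∏ j ∈ range i, θ^[j] ζ₁) := by
      rw [Finset.prod_mul_distrib, Finset.prod_const, Finset.card_range]
    rw [← h1]
    have h2 : ∏ i ∈ range m, (ζ₁ * θ (∏ j ∈ range i, θ^[j] ζ₁)) =
        ∏ i ∈ range m, ∏ j ∈ range (i + 1), θ^[j] ζ₁ :=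
      Finset.prod_congr rfl (fun i _ => hstep i)
    rw [h2]
    have h3 := Finset.prod_range_succ' (fun i => ∏ j ∈ range i, θ^[j] ζ₁) m
    have h4 := Finset.prod_range_succ (fun i => ∏ j ∈ range i, θ^[j] ζ₁) m
    rw [h4, hnorm, mul_one] at h3
    simp only [Finset.range_zero, Finset.prod_empty, mul_one] at h3
    exact h3.symm
  refine ⟨(∏ i ∈ range m, ∏ j ∈ range i, θ^[j] ζ₁) ^ e, ?_⟩
  have h5 : ζ₁ ^ (m * e) = ζ₁ ^ 1 := by
    rw [pow_eq_pow_iff_modEq]
    exact hme.of_dvd (orderOf_dvd_of_pow_eq_one (hq ζ₁))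
  rw [pow_one] at h5
  rw [map_pow]
  conv_lhs => rw [← hN1]
  rw [mul_pow, ← pow_mul, h5]

/-- In a group, let `Z` be a commutative subgroup of exponent `q` normalized by an element `s`
with `s ^ m = 1`, where `m` is invertible modulo `q`.  If `a⁻¹ (s a s⁻¹) ∈ Z`, then some element
of the coset `a Z` commutes with `s`. -/
theorem comm_lift {G : Type*} [Group G] (Z : Subgroup G)
    (hZc : ∀ x ∈ Z, ∀ y ∈ Z, x * y = y * x) (s a : G) (m q e : ℕ) (hs : s ^ m = 1)
    (hnorm : ∀ x ∈ Z, s * x * s⁻¹ ∈ Z) (hq : ∀ x ∈ Z, x ^ q = 1) (hme : m * e ≡ 1 [MOD q])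
    (h1 : a⁻¹ * (s * a * s⁻¹) ∈ Z) : ∃ ζ ∈ Z, s * (a * ζ) * s⁻¹ = a * ζ := by
  letI : CommGroup Z :=
    { (inferInstance : Group Z) with
      mul_comm := fun x y => Subtype.ext (hZc x x.2 y y.2) }
  let θ : Z →* Z :=
    { toFun := fun x => ⟨s * x * s⁻¹, hnorm x x.2⟩
      map_one' := by
        apply Subtype.ext
        show s * ((1 : Z) : G) * s⁻¹ = ((1 : Z) : G)
        simp
      map_mul' := by
        intro x y
        apply Subtype.ext
        show s * ((x * y : Z) : G) * s⁻¹ = (s * (x : G) * s⁻¹) * (s * (y : G) * s⁻¹)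
        rw [Subgroup.coe_mul]
        group }
  have hθj : ∀ (j : ℕ) (x : Z), ((θ^[j] x : Z) : G) = s ^ j * x * (s ^ j)⁻¹ := by
    intro j
    induction j with
    | zero => intro x; simp
    | succ j ih =>
      intro x
      rw [Function.iterate_succ_apply']
      show s * ((θ^[j] x : Z) : G) * s⁻¹ = _
      rw [ih x, pow_succ']
      group
  have hprod : ∀ i : ℕ, ((∏ j ∈ range i, θ^[j] (⟨_, h1⟩ : Z) : Z) : G) =
      a⁻¹ * (s ^ i * a * (s ^ i)⁻¹) := by
    intro i
    induction i with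
    | zero => simp
    | succ i ih =>
      rw [Finset.prod_range_succ, Subgroup.coe_mul, ih, hθj, pow_succ']
      group
  obtain ⟨ζ, hζ⟩ := h1_vanish θ m q e (⟨_, h1⟩ : Z)
    (fun x => Subtype.ext (by rw [Subgroup.coe_pow]; exact hq x x.2)) hme
    (Subtype.ext (by rw [hprod, hs]; simp))
  refine ⟨ζ, ζ.2, ?_⟩
  have h2 : (ζ : G) = a⁻¹ * (s * a * s⁻¹) * (s * (ζ : G) * s⁻¹) := by
    have h3 := congrArg (fun z : Z => (z : G)) hζ
    exact h3
  calc s * (a * ζ) * s⁻¹ = a * (a⁻¹ * (s * a * s⁻¹) * (s * (ζ : G) * s⁻¹)) := by group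
    _ = a * ζ := by rw [← h2]

end Cfsg.Agent.Lib.Helper42.Cen
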