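import Mathlib
import Cfsg.Prelude.Def_FusionSystem
import Cfsg.Prelude.Def_FusionComponents
import Cfsg.Agent.Lib.Helper84.PPrimeRes2
import Cfsg.Agent.Lib.Helper88.FusWN

set_option autoImplicit false

/-!
# Towards: the `p'`-residual of a normal subsystem lies in every normal subsystem over the same
subgroup.  Part A: strong invariance and `p`-elements.
-/

namespace Cfsg.Agent.Lib.Helper42.PRes

open Cfsg Cfsg.FusionSystem
open Cfsg.Agent.Lib.Helper84 (autFun autFun_mem autFun_mem_R autFun_mul autFun_inv autFun_mor)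
open Cfsg.Agent.Lib.Helper88 (Mor extFun extFun_mem extFun_apply img mor_of_hom hom_of_mor
  mor_conj mor_id)

variable {Ω : Type*} [Group Ω] {S T : Subgroup Ω}

/-- Strong invariance of an invariant subsystem `D` of `F`: if `ψ` is a map of `F` on `P ≤ T`,
`χ` a map of `D` on `ψ(P)` and `g` a self-map of `P` with `ψ ∘ g = χ ∘ ψ`, then `g` is a map of
`D`. -/
theorem si_aut [Finite S] {F : FusionSystem S} {D : FusionSystem T} (hD : D.IsInvariantIn F)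
    {P : Subgroup Ω} (hPT : P ≤ T) {ψ χ g : Ω → Ω} (hψ : Mor F P ψ)
    (hχ : Mor D (img P ψ) χ)
    (hg : ∀ x ∈ P, g x ∈ P ∧ ψ (g x) = χ (ψ x)) : Mor D P g := by
  have hT := hD.2.1
  obtain ⟨a, f₀, ha, hf₀, hψa⟩ := Helper88.invariant_frattini hD hPT hψ
  obtain ⟨a', ha', haT, ha'T, ha'a, haa'⟩ := Helper88.aut_inverse hT ha
  have hP'T : img P ψ ≤ T := hχ.le
  have hχ₀ : Mor D (img (img P ψ) a') (fun y => a' (χ (a y))) :=
    Helper88.invariant_conj hD hP'T hχ ha' haa'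
  have hf₀T : ∀ x ∈ P, f₀ x ∈ T := fun x hx => hf₀.mem_S hx
  have hle : img P f₀ ≤ img (img P ψ) a' := by
    intro y hy
    obtain ⟨x, hx, rfl⟩ := hf₀.mem_img.mp hy
    have h1 : a' (ψ x) ∈ img (img P ψ) a' :=
      (ha'.res hP'T).apply_mem_img (hψ.apply_mem_img hx)
    rw [hψa x hx, ha'a _ (hf₀T x hx)] at h1
    exact h1
  have hχ₁ : Mor D (img P f₀) (fun y => a' (χ (a y))) := hχ₀.res hle
  obtain ⟨f₀', hf₀', hf₀'f⟩ := hf₀.exists_inv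
  have hval : ∀ x ∈ P, a' (χ (a (f₀ x))) = f₀ (g x) := by
    intro x hx
    obtain ⟨hgx, hgx'⟩ := hg x hx
    rw [← hψa x hx, ← hgx', hψa _ hgx, ha'a _ (hf₀T _ hgx)]
  have h2 : Mor D P (fun x => a' (χ (a (f₀ x)))) :=
    hf₀.comp hχ₁ (fun x hx => hf₀.apply_mem_img hx)
  have h3 : Mor D P (fun x => f₀' (a' (χ (a (f₀ x))))) :=
    h2.comp hf₀' (fun x hx => by
      show a' (χ (a (f₀ x))) ∈ img P f₀
      rw [hval x hx]; exact hf₀.apply_mem_img (hg x hx).1)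
  refine h3.congr (fun x hx => ?_)
  show f₀' (a' (χ (a (f₀ x)))) = g x
  rw [hval x hx, hf₀'f _ (hg x hx).1]

/-- An automorphism of `p`-power order of `R ≤ T` in a saturated subsystem `E ≤ F` over `T` lies
in every `F`-invariant subsystem `D` over `T`. -/
theorem pelt_mem [Finite S] {p : ℕ} [Fact p.Prime] (hS : IsPGroup p S) {F : FusionSystem S}
    {E D : FusionSystem T} (hEsat : E.IsSaturated p) (hEF : E.IsSubsystemOf F)
    (hD : D.IsInvariantIn F) {R : Subgroup Ω} {f₁ : Ω → Ω} (hf₁ : Mor E R f₁)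
    (hmaps : ∀ x ∈ R, f₁ x ∈ R) (hk : ∃ k : ℕ, ∀ x ∈ R, f₁^[p ^ k] x = x) : Mor D R f₁ := by
  have hTS : T ≤ S := hD.2.1.1
  have hRT : R ≤ T := hf₁.le
  haveI hfinT : Finite T := Finite.of_injective _ (Subgroup.inclusion_injective hTS)
  have hT : IsPGroup p T := hS.to_le hTS
  obtain ⟨Q, hconj, hfa, -⟩ := hEsat R hRT
  obtain ⟨ψ, hψ, himg⟩ := (Helper88.isConj_iff E).mp hconj
  obtain ⟨ψ', hψ', -, hψ'ψ, hψψ'⟩ := hψ.exists_inv_img himg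
  have hQT : Q ≤ T := hfa.1
  have hψQ : ∀ x ∈ R, ψ x ∈ Q := fun x hx => by rw [← himg]; exact hψ.apply_mem_img hx
  have hf₂ : Mor E Q (fun y => ψ (f₁ (ψ' y))) :=
    (hψ'.comp hf₁ (fun y hy => (hψψ' y hy).1)).comp hψ (fun y hy => hmaps _ (hψψ' y hy).1)
  have hf₂Q : ∀ y ∈ Q, ψ (f₁ (ψ' y)) ∈ Q := fun y hy => hψQ _ (hmaps _ (hψψ' y hy).1)
  obtain ⟨α, hα, hαf⟩ := hf₂.exists_aut hf₂Q
  obtain ⟨k, hk⟩ := hk
  have hiterR : ∀ n : ℕ, ∀ x ∈ R, f₁^[n] x ∈ R :=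
    fun n => Helper84.PPrimeRes.iterate_mem hmaps n
  have hiter : ∀ n : ℕ, ∀ y : Q, (((α ^ n) y : Q) : Ω) = ψ (f₁^[n] (ψ' y)) := by
    intro n
    induction n with
    | zero =>
      intro y
      show (y : Ω) = ψ (ψ' y)
      exact ((hψψ' y y.2).2).symm
    | succ n ih =>
      intro y
      rw [pow_succ']
      show ((α ((α ^ n) y) : Q) : Ω) = _
      rw [hαf, ih y, hψ'ψ _ (hiterR n _ (hψψ' y y.2).1), Function.iterate_succ_apply']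
  have hpowα : α ^ p ^ k = 1 := by
    apply MulEquiv.ext
    intro y
    apply Subtype.ext
    rw [hiter (p ^ k) y, hk _ (hψψ' y y.2).1]
    exact (hψψ' y y.2).2
  have hpow : (⟨α, hα⟩ : E.autGroup Q) ^ p ^ k = 1 := by
    apply Subtype.ext
    rw [Subgroup.coe_pow, Subgroup.coe_one]
    exact hpowα
  obtain ⟨R₀, hR₀⟩ := Helper88.fa_exists_sylow hfa
  haveI : Finite (E.autGroup Q) := Helper84.finite_autGroup E hQT
  have hK : IsPGroup p (Subgroup.zpowers (⟨α, hα⟩ : E.autGroup Q)) := by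
    rintro ⟨g, hg⟩
    obtain ⟨n, rfl⟩ := Subgroup.mem_zpowers_iff.mp hg
    refine ⟨k, Subtype.ext ?_⟩
    show ((⟨α, hα⟩ : E.autGroup Q) ^ n) ^ p ^ k = 1
    rw [← zpow_natCast, ← zpow_mul, mul_comm, zpow_mul, zpow_natCast, hpow, one_zpow]
  obtain ⟨δ, hδ⟩ := Helper88.sylow_conj_le R₀ _ hK
  have hmem := hδ _ (Subgroup.mem_zpowers (⟨α, hα⟩ : E.autGroup Q))
  obtain ⟨t, ht, htα⟩ := (hR₀ _).mp hmem
  -- the map `δ⁻¹ ∘ ψ`
  have hδm : Mor E Q (autFun ((δ⁻¹ : E.autGroup Q) : MulAut Q)) := autFun_mor E hQT (δ⁻¹).2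
  have hψ₂ : Mor E R (fun x => autFun ((δ⁻¹ : E.autGroup Q) : MulAut Q) (ψ x)) :=
    hψ.comp hδm hψQ
  have himg₂ : img R (fun x => autFun ((δ⁻¹ : E.autGroup Q) : MulAut Q) (ψ x)) = Q := by
    rw [Helper88.img_comp hψ hδm hψQ, himg]
    exact Helper84.SatCrit.img_autFun E hQT (δ⁻¹)
  have hχ : Mor D Q (fun y => t * y * t⁻¹) := mor_conj D hQT ht
  refine si_aut hD hRT (Helper88.subsystem_mor hEF hψ₂) (by rw [himg₂]; exact hχ) ?_
  intro x hx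
  refine ⟨hmaps x hx, ?_⟩
  show autFun ((δ⁻¹ : E.autGroup Q) : MulAut Q) (ψ (f₁ x)) =
    t * autFun ((δ⁻¹ : E.autGroup Q) : MulAut Q) (ψ x) * t⁻¹
  have hy : autFun ((δ⁻¹ : E.autGroup Q) : MulAut Q) (ψ x) ∈ Q := autFun_mem_R _ (hψQ x hx)
  have h1 := htα ⟨_, hy⟩
  rw [← h1]
  show _ = ((((δ⁻¹ : E.autGroup Q) : MulAut Q) (α ((δ : MulAut Q) ⟨_, hy⟩)) : Q) : Ω)
  have h2 : (δ : MulAut Q) ⟨_, hy⟩ = ⟨ψ x, hψQ x hx⟩ := by
    apply Subtype.ext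
    show (((δ : MulAut Q) ⟨autFun ((δ⁻¹ : E.autGroup Q) : MulAut Q) (ψ x), hy⟩ : Q) : Ω) = ψ x
    have h3 : (⟨autFun ((δ⁻¹ : E.autGroup Q) : MulAut Q) (ψ x), hy⟩ : Q) =
        ((δ⁻¹ : E.autGroup Q) : MulAut Q) ⟨ψ x, hψQ x hx⟩ := by
      apply Subtype.ext
      exact autFun_mem _ (hψQ x hx)
    rw [h3]
    simp
  rw [h2]
  have h4 : α ⟨ψ x, hψQ x hx⟩ = ⟨ψ (f₁ x), hψQ _ (hmaps x hx)⟩ := by
    apply Subtype.ext
    rw [hαf]
    show ψ (f₁ (ψ' (ψ x))) = ψ (f₁ x)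
    rw [hψ'ψ x hx]
  rw [h4]
  exact autFun_mem _ (hψQ _ (hmaps x hx))

end Cfsg.Agent.Lib.Helper42.PRes
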