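import Mathlib
import Cfsg.Agent.Lib.Helper42.PResA

set_option autoImplicit false

/-!
# Part B: automorphisms normalizing a saturated system (the power trick)

If an automorphism `a` of `T` normalizes the saturated system `D` over `T` and restricts to a
`D`-map on a subgroup `R` all of whose `F`-conjugates are `T`-centric, then some `p`-power
iterate of `a` is a `D`-automorphism of `T`.
-/

namespace Cfsg.Agent.Lib.Helper42.PRes

open Cfsg Cfsg.FusionSystem
open Cfsg.Agent.Lib.Helper84 (autFun autFun_mem autFun_mem_R autFun_mul autFun_inv autFun_mor)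
open Cfsg.Agent.Lib.Helper88 (Mor extFun extFun_mem extFun_apply img mor_of_hom hom_of_mor
  mor_conj mor_id)

variable {Ω : Type*} [Group Ω] {S T : Subgroup Ω}

/-- every `F`-conjugate of `R` contains its centralizer in `T`. -/
def TC (F : FusionSystem S) (T R : Subgroup Ω) : Prop :=
  ∀ f : Ω → Ω, Mor F R f → centralizerIn T (img R f) ≤ img R f

theorem TC.over {F : FusionSystem S} {R R₁ : Subgroup Ω} (h : TC F T R) (hRR₁ : R ≤ R₁) :
    TC F T R₁ := by
  intro f hf c hc
  have h1 := h f (hf.res hRR₁)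
  have hle := Helper88.img_mono hf hRR₁
  exact hle (h1 ⟨hc.1, Subgroup.centralizer_le hle hc.2⟩)

/-- `a` (with inverse `a'`) is an automorphism of `T` in `F` normalizing the system `D`. -/
structure NA (F : FusionSystem S) (D : FusionSystem T) (a a' : Ω → Ω) : Prop where
  mor : Mor F T a
  mor' : Mor F T a'
  maps : ∀ x ∈ T, a x ∈ T
  maps' : ∀ x ∈ T, a' x ∈ T
  left : ∀ x ∈ T, a' (a x) = x
  right : ∀ x ∈ T, a (a' x) = x
  conj : ∀ (P : Subgroup Ω) (f : Ω → Ω), Mor D P f → Mor D (img P a) (fun y => a (f (a' y)))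

theorem NA.iterate {F : FusionSystem S} {D : FusionSystem T} {a a' : Ω → Ω} (h : NA F D a a')
    (n : ℕ) : NA F D (a^[n]) (a'^[n]) := by
  have hTS : T ≤ S := h.mor.le
  induction n with
  | zero =>
    exact
      { mor := (mor_id F hTS).congr (fun x _ => rfl)
        mor' := (mor_id F hTS).congr (fun x _ => rfl)
        maps := fun x hx => hx
        maps' := fun x hx => hx
        left := fun x _ => rfl
        right := fun x _ => rfl
        conj := by
          intro P f hf
          have h1 : img P (a^[0]) = P := Helper88.img_id P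
          rw [h1]
          exact hf }
  | succ n ih =>
    have hm : ∀ x ∈ T, a^[n] x ∈ T := ih.maps
    have hm' : ∀ x ∈ T, a'^[n] x ∈ T := ih.maps'
    exact
      { mor := (h.mor.comp ih.mor h.maps).congr (fun x _ => by
          show a^[n] (a x) = a^[n + 1] x
          rw [Function.iterate_succ_apply])
        mor' := (h.mor'.comp ih.mor' h.maps').congr (fun x _ => by
          show a'^[n] (a' x) = a'^[n + 1] x
          rw [Function.iterate_succ_apply])
        maps := fun x hx => by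
          rw [Function.iterate_succ_apply]; exact hm _ (h.maps x hx)
        maps' := fun x hx => by
          rw [Function.iterate_succ_apply]; exact hm' _ (h.maps' x hx)
        left := fun x hx => by
          rw [Function.iterate_succ_apply' a, Function.iterate_succ_apply a',
            h.left _ (hm x hx), ih.left x hx]
        right := fun x hx => by
          rw [Function.iterate_succ_apply' a', Function.iterate_succ_apply a,
            h.right _ (hm' x hx), ih.right x hx]
        conj := by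
          intro P f hf
          have hPT : P ≤ T := hf.le
          have h1 := h.conj _ _ (ih.conj P f hf)
          have himg : img (img P (a^[n])) a = img P (a^[n + 1]) := by
            rw [← Helper88.img_comp (ih.mor.res hPT) h.mor (fun x hx => hm x (hPT hx))]
            exact Helper88.img_congr (fun x _ => by
              show a (a^[n] x) = a^[n + 1] x
              rw [Function.iterate_succ_apply'])
          rw [himg] at h1
          refine h1.congr (fun y _ => ?_)
          show a (a^[n] (f (a'^[n] (a' y)))) = a^[n + 1] (f (a'^[n + 1] y))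
          rw [Function.iterate_succ_apply' a, Function.iterate_succ_apply a'] }

/-- The step of the power trick: from `R` to its normalizer in `T`. -/
theorem na_step [Finite S] {p : ℕ} [Fact p.Prime] (hS : IsPGroup p S) {F : FusionSystem S}
    {D : FusionSystem T} (hDsat : D.IsSaturated p) (hDF : D.IsSubsystemOf F)
    {a a' : Ω → Ω} (h : NA F D a a') {R : Subgroup Ω} (hc : TC F T R) (hR : Mor D R a) :
    Mor D (normalizerIn T R) (a^[Nat.card T]) := by
  have hTS : T ≤ S := h.mor.le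
  have hRT : R ≤ T := hR.le
  haveI hfinT : Finite T := Finite.of_injective _ (Subgroup.inclusion_injective hTS)
  have hT : IsPGroup p T := hS.to_le hTS
  have hR₁T : normalizerIn T R ≤ T := inf_le_left
  have hRR₁ : R ≤ normalizerIn T R := le_inf hRT Subgroup.le_normalizer
  have hQT : img R a ≤ T := hR.img_le
  obtain ⟨Qst, hconj, hfa, hrec⟩ := hDsat (img R a) hQT
  obtain ⟨k, hk, hkimg⟩ := (Helper88.isConj_iff D).mp hconj
  obtain ⟨θ, hθ, hθimg⟩ := Helper88.lemma26a hT hfa hrec hk hkimg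
  have haT := h.mor
  -- `a` maps the normalizer of `R` into the normalizer of `a(R)`
  have haN : ∀ g ∈ normalizerIn T R, a g ∈ normalizerIn T (img R a) := by
    intro g hg
    refine Helper84.SatCrit.mem_normalizerIn_of_conj hQT (h.maps g (hR₁T hg)) ?_
    intro y hy
    obtain ⟨x, hx, rfl⟩ := hR.mem_img.mp hy
    rw [← Helper84.mor_conj_apply haT (hR₁T hg) (hRT hx)]
    exact hR.apply_mem_img (Helper84.SatCrit.conj_mem_of_mem_normalizerIn hg hx)
  have haQ : ∀ x ∈ R, a x ∈ normalizerIn T (img R a) := fun x hx => haN x (hRR₁ hx)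
  have hθa : Mor D R (fun x => θ (a x)) := hR.comp hθ haQ
  have himg₁ : img R (fun x => θ (a x)) = Qst := by
    rw [Helper88.img_comp hR hθ haQ]; exact hθimg
  have hconjeq : ∀ g ∈ normalizerIn T R, ∀ x ∈ R,
      θ (a (g * x * g⁻¹)) = θ (a g) * θ (a x) * (θ (a g))⁻¹ := by
    intro g hg x hx
    rw [Helper84.mor_conj_apply haT (hR₁T hg) (hRT hx),
      Helper84.mor_conj_apply hθ (haN g hg) (haQ x hx)]
  have hcond : ∀ g ∈ normalizerIn T R, g ∈ T ∧ g ∈ Subgroup.normalizer (R : Set Ω) ∧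
      ∃ h' ∈ T, ∀ x ∈ R, θ (a (g * x * g⁻¹)) = h' * θ (a x) * h'⁻¹ := by
    intro g hg
    exact ⟨hg.1, hg.2, θ (a g), hθ.mem_S (haN g hg), fun x hx => hconjeq g hg x hx⟩
  obtain ⟨ψ₂, hψ₂, hψ₂e⟩ := Helper88.receptive_extend hrec hθa himg₁ hcond hRR₁
  -- the key: ψ₂ g = θ (a (g z)) for some z ∈ R
  have hθaF : Mor F R (fun x => θ (a x)) := Helper88.subsystem_mor hDF hθa
  have hkey : ∀ g ∈ normalizerIn T R, ∃ z ∈ R, ψ₂ g = θ (a (g * z)) := by
    intro g hg
    have hcT : (θ (a g))⁻¹ * ψ₂ g ∈ T :=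
      T.mul_mem (T.inv_mem (hθ.mem_S (haN g hg))) (hψ₂.mem_S hg)
    have hcen : (θ (a g))⁻¹ * ψ₂ g ∈ centralizerIn T (img R (fun x => θ (a x))) := by
      rw [Helper88.mem_centralizerIn]
      refine ⟨hcT, ?_⟩
      intro y hy
      obtain ⟨x, hx, rfl⟩ := hθa.mem_img.mp hy
      have hgx : g * x * g⁻¹ ∈ R := Helper84.SatCrit.conj_mem_of_mem_normalizerIn hg hx
      have e1 : ψ₂ (g * x * g⁻¹) = ψ₂ g * θ (a x) * (ψ₂ g)⁻¹ := by
        rw [Helper84.mor_conj_apply hψ₂ hg (hRR₁ hx), hψ₂e x hx]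
      have e2 : ψ₂ (g * x * g⁻¹) = θ (a g) * θ (a x) * (θ (a g))⁻¹ := by
        rw [hψ₂e _ hgx, hconjeq g hg x hx]
      have e3 : ψ₂ g * θ (a x) * (ψ₂ g)⁻¹ = θ (a g) * θ (a x) * (θ (a g))⁻¹ := e1.symm.trans e2
      show θ (a x) * ((θ (a g))⁻¹ * ψ₂ g) = (θ (a g))⁻¹ * ψ₂ g * θ (a x)
      calc θ (a x) * ((θ (a g))⁻¹ * ψ₂ g)
          = (θ (a g))⁻¹ * (θ (a g) * θ (a x) * (θ (a g))⁻¹) * ψ₂ g := by group
        _ = (θ (a g))⁻¹ * (ψ₂ g * θ (a x) * (ψ₂ g)⁻¹) * ψ₂ g := by rw [e3]
        _ = (θ (a g))⁻¹ * ψ₂ g * θ (a x) := by group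
    have hin := hc _ hθaF hcen
    obtain ⟨z, hz, hzc⟩ := hθa.mem_img.mp hin
    refine ⟨z, hz, ?_⟩
    have hgz : ψ₂ g = θ (a g) * θ (a z) := by
      rw [hzc]; group
    rw [hgz, haT.map_mul (hR₁T hg) (hRT hz), hθ.map_mul (haN g hg) (haQ z hz)]
  obtain ⟨θ', hθ', hθ'θ⟩ := hθ.exists_inv
  -- δ and α₁
  have hδ : ∀ g ∈ normalizerIn T R, ∃ z ∈ R, a' (θ' (ψ₂ g)) = g * z ∧ θ' (ψ₂ g) = a (g * z) := by
    intro g hg
    obtain ⟨z, hz, hgz⟩ := hkey g hg
    have hgzN : g * z ∈ normalizerIn T R := Subgroup.mul_mem _ hg (hRR₁ hz)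
    refine ⟨z, hz, ?_, ?_⟩
    · rw [hgz, hθ'θ _ (haN _ hgzN), h.left _ (hR₁T hgzN)]
    · rw [hgz, hθ'θ _ (haN _ hgzN)]
  have hα₁ : Mor D (normalizerIn T R) (fun g => θ' (ψ₂ g)) := by
    refine hψ₂.comp hθ' (fun g hg => ?_)
    obtain ⟨z, hz, hgz⟩ := hkey g hg
    rw [hgz]
    exact hθ.apply_mem_img (haN _ (Subgroup.mul_mem _ hg (hRR₁ hz)))
  have hδN : ∀ g ∈ normalizerIn T R, a' (θ' (ψ₂ g)) ∈ normalizerIn T R := by
    intro g hg
    obtain ⟨z, hz, h1, -⟩ := hδ g hg
    rw [h1]; exact Subgroup.mul_mem _ hg (hRR₁ hz)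
  have hα₁δ : ∀ g ∈ normalizerIn T R, θ' (ψ₂ g) = a (a' (θ' (ψ₂ g))) := by
    intro g hg
    obtain ⟨z, hz, h1, h2⟩ := hδ g hg
    rw [h1, h2]
  have hδmul : ∀ g ∈ normalizerIn T R, ∀ g' ∈ normalizerIn T R,
      a' (θ' (ψ₂ (g * g'))) = a' (θ' (ψ₂ g)) * a' (θ' (ψ₂ g')) := by
    intro g hg g' hg'
    have hgg' : g * g' ∈ normalizerIn T R := Subgroup.mul_mem _ hg hg'
    apply haT.inj (hR₁T (hδN _ hgg')) (T.mul_mem (hR₁T (hδN g hg)) (hR₁T (hδN g' hg')))
    rw [haT.map_mul (hR₁T (hδN g hg)) (hR₁T (hδN g' hg')), ← hα₁δ _ hgg', ← hα₁δ g hg,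
      ← hα₁δ g' hg']
    exact hα₁.map_mul hg hg'
  have hδR : ∀ x ∈ R, a' (θ' (ψ₂ x)) = x := by
    intro x hx
    rw [hψ₂e x hx, hθ'θ _ (haQ x hx), h.left x (hRT hx)]
  -- iterates of δ
  have hδiter : ∀ g ∈ normalizerIn T R, ∀ z ∈ R, a' (θ' (ψ₂ g)) = g * z → ∀ j : ℕ,
      (fun g => a' (θ' (ψ₂ g)))^[j] g = g * z ^ j := by
    intro g hg z hz hgz j
    induction j with
    | zero => simp
    | succ j ih =>
      rw [Function.iterate_succ_apply', ih]
      show a' (θ' (ψ₂ (g * z ^ j))) = g * z ^ (j + 1)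
      rw [hδmul g hg _ (hRR₁ (R.pow_mem hz j)), hgz, hδR _ (R.pow_mem hz j), pow_succ']
      group
  have hδiterN : ∀ j : ℕ, ∀ g ∈ normalizerIn T R,
      (fun g => a' (θ' (ψ₂ g)))^[j] g ∈ normalizerIn T R :=
    fun j => Helper84.PPrimeRes.iterate_mem hδN j
  have hδcard : ∀ g ∈ normalizerIn T R, (fun g => a' (θ' (ψ₂ g)))^[Nat.card T] g = g := by
    intro g hg
    obtain ⟨z, hz, h1, -⟩ := hδ g hg
    rw [hδiter g hg z hz h1]
    have hz1 : z ^ Nat.card T = 1 := by
      have h2 : (⟨z, hRT hz⟩ : T) ^ Nat.card T = 1 := pow_card_eq_one'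
      have h3 : (((⟨z, hRT hz⟩ : T) ^ Nat.card T : T) : Ω) = ((1 : T) : Ω) :=
        congrArg Subtype.val h2
      rw [Subgroup.coe_pow, Subgroup.coe_one] at h3
      exact h3
    rw [hz1, mul_one]
  -- the maps a^j ∘ δ^j
  have hcj : ∀ j : ℕ, Mor D (normalizerIn T R)
      (fun g => a^[j] ((fun g => a' (θ' (ψ₂ g)))^[j] g)) := by
    intro j
    induction j with
    | zero => exact (mor_id D hR₁T).congr (fun x _ => rfl)
    | succ j ih =>
      have hj := h.iterate j
      have h1 : Mor D (img (normalizerIn T R) (a^[j])) (fun y => a^[j] (θ' (ψ₂ (a'^[j] y)))) :=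
        hj.conj _ _ hα₁
      have h2 := ih.comp h1 (fun g hg =>
        (hj.mor.res hR₁T).apply_mem_img (hδiterN j g hg))
      refine h2.congr (fun g hg => ?_)
      show a^[j] (θ' (ψ₂ (a'^[j] (a^[j] ((fun g => a' (θ' (ψ₂ g)))^[j] g))))) =
        a^[j + 1] ((fun g => a' (θ' (ψ₂ g)))^[j + 1] g)
      rw [hj.left _ (hR₁T (hδiterN j g hg)), Function.iterate_succ_apply a,
        Function.iterate_succ_apply' (fun g => a' (θ' (ψ₂ g)))]
      show _ = a^[j] (a (a' (θ' (ψ₂ ((fun g => a' (θ' (ψ₂ g)))^[j] g)))))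
      rw [← hα₁δ _ (hδiterN j g hg)]
  refine (hcj (Nat.card T)).congr (fun g hg => ?_)
  show a^[Nat.card T] ((fun g => a' (θ' (ψ₂ g)))^[Nat.card T] g) = a^[Nat.card T] g
  rw [hδcard g hg]

/-- The power trick: some `p`-power iterate of `a` is a `D`-automorphism of `T`. -/
theorem na_extend [Finite S] {p : ℕ} [Fact p.Prime] (hS : IsPGroup p S) {F : FusionSystem S}
    {D : FusionSystem T} (hDsat : D.IsSaturated p) (hDF : D.IsSubsystemOf F) :
    ∀ (m : ℕ) (a a' : Ω → Ω) (R : Subgroup Ω), NA F D a a' → Nat.card T - Nat.card R = m →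
      TC F T R → Mor D R a → ∃ K : ℕ, Mor D T (a^[p ^ K]) := by
  intro m
  induction m using Nat.strong_induction_on with
  | _ m ih =>
    intro a a' R h hm hc hR
    have hTS : T ≤ S := h.mor.le
    have hRT : R ≤ T := hR.le
    haveI hfinT : Finite T := Finite.of_injective _ (Subgroup.inclusion_injective hTS)
    have hT : IsPGroup p T := hS.to_le hTS
    by_cases heq : R = T
    · refine ⟨0, ?_⟩
      rw [heq] at hR
      exact hR.congr (fun x _ => by simp)
    · have hlt : R < T := lt_of_le_of_ne hRT heq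
      have hlt2 := Helper88.normalizer_grow hT (le_refl T) hlt
      have hstep : Mor D (normalizerIn T R) (a^[Nat.card T]) := na_step hS hDsat hDF h hc hR
      have hR₁T : normalizerIn T R ≤ T := inf_le_left
      haveI : Finite (T ⊓ Subgroup.normalizer (R : Set Ω) : Subgroup Ω) :=
        Finite.of_injective _ (Subgroup.inclusion_injective hR₁T)
      have hcard : Nat.card R < Nat.card (normalizerIn T R) := by
        by_contra hcon
        exact hlt2.ne (Subgroup.eq_of_le_of_card_ge hlt2.le (not_lt.mp hcon))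
      have hcard2 : Nat.card (normalizerIn T R) ≤ Nat.card T := Subgroup.card_le_of_le hR₁T
      obtain ⟨n, hn⟩ := IsPGroup.iff_card.mp hT
      obtain ⟨K, hK⟩ := ih (Nat.card T - Nat.card (normalizerIn T R)) (by omega)
        (a^[Nat.card T]) (a'^[Nat.card T]) (normalizerIn T R) (h.iterate _) rfl
        (hc.over hlt2.le) hstep
      refine ⟨n + K, ?_⟩
      have e : a^[p ^ (n + K)] = (a^[Nat.card T])^[p ^ K] := by
        rw [← Function.iterate_mul, hn, pow_add]
      rw [e]
      exact hK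

end Cfsg.Agent.Lib.Helper42.PRes
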