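import Mathlib
import Cfsg.Prelude.Def_FusionSystem
import Cfsg.Prelude.Def_FusionComponents
import Cfsg.Agent.Lib.Helper84.PPrimeRes2
import Cfsg.Agent.S5114

set_option autoImplicit false
set_option linter.style.haveILetI false

/-!
# Part C: the explicit `p'`-residual subsystem

This is helper84's theorem `Cfsg.Agent.Lib.Helper84.PPrimeRes.exists_pPrimeResidual` (proof text
copied from `Cfsg/Agent/Lib/Helper84/PPrimeRes2.lean`, unchanged), restated with its explicit
witness `FrSys F p (A0 F p)`: the statement there is existential, and the description of the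
maps of the residual subsystem is needed here.
-/

namespace Cfsg.Agent.Lib.Helper42.PRes

open Cfsg Cfsg.FusionSystem Cfsg.Agent.Lib.Helper84 Cfsg.Agent.Lib.Helper84.SatCrit
open Cfsg.Agent.Lib.Helper84.PPrimeRes
open Cfsg.Agent.Lib.Helper88 (Mor extFun extFun_mem extFun_apply img mor_of_hom hom_of_mor mor_conj mor_id)

variable {Ω : Type*} [Group Ω] {S : Subgroup Ω}

/-- The system `Aut⁰_F(S) ∘ G0` is a `p'`-residual subsystem of the saturated system `F`. -/
theorem frSys_isPPrimeResidual [Finite S] (p : ℕ) [Fact p.Prime] (hS : IsPGroup p S)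
    (F : FusionSystem S) (hF : F.IsSaturated p) :
    F.IsPPrimeResidual p (FrSys F p (A0 F p) (A0_inner hS F)) := by
  have hEF : (FrSys F p (A0 F p) (A0_inner hS F)).IsSubsystemOf F := fun P φ hφ => hφ.1
  have hmorE : ∀ {P : Subgroup Ω} {f : Ω → Ω},
      Mor (FrSys F p (A0 F p) (A0_inner hS F)) P f ↔ FrMor F p (A0 F p) P f := mor_frSys_iff
  have hmorEF : ∀ {P : Subgroup Ω} {f : Ω → Ω},
      Mor (FrSys F p (A0 F p) (A0_inner hS F)) P f → Mor F P f := fun h => (hmorE.1 h).mor
  have hO : ∀ P : Subgroup Ω, F.IsCentric P →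
      (Subgroup.closure {α : ↥(F.autGroup P) | ∃ k : ℕ, orderOf α = p ^ k}).map
        (F.autGroup P).subtype ≤ (FrSys F p (A0 F p) (A0_inner hS F)).autGroup P := by
    rintro P hc _ ⟨β, hβ, rfl⟩
    have h1 : G0 F p P (autFun (β : MulAut P)) := G0_of_mem_OpP hc hβ
    exact (Helper88.mem_autGroup_iff _ hc.1 _).2 (hmorE.2 (FrMor.of_G0 h1))
  obtain ⟨hidx, -, hcen⟩ := Cfsg.Agent.S5114.result p hS F hF _ hEF hO
  have hfrat := fun {P : Subgroup Ω} {f : Ω → Ω} (hf : Mor F P f) =>
    frattini p hS F hF _ hEF hO hf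
  have hEsat : (FrSys F p (A0 F p) (A0_inner hS F)).IsSaturated p := by
    refine SatCrit.main p hS _ {P | F.IsCentric P} (fun P hP => hP.1) ?_ ?_ ?_ ?_
    · -- closed under conjugacy
      intro P hP Q hQ
      obtain ⟨f, hf, rfl⟩ := (Helper88.isConj_iff _).1 hQ
      exact Helper88.centric_conj hP (hmorEF hf)
    · -- saturation on centric subgroups
      intro P hP
      have hPS : P ≤ S := hP.1
      obtain ⟨P', hPP', hP'n⟩ := exists_fullyNormalized_conj F hPS
      obtain ⟨f, hf, himg⟩ := (Helper88.isConj_iff F).1 hPP'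
      obtain ⟨α, f₀, hf₀, hfα⟩ := hfrat hf
      have hf₀F : Mor F P f₀ := hmorEF hf₀
      have hQS : img P f₀ ≤ S := hf₀F.img_le
      have hαm : Mor F S (autFun (α : MulAut S)) := autFun_mor F le_rfl α.2
      have himgQ : img (img P f₀) (autFun (α : MulAut S)) = P' := by
        rw [← himg, Helper88.img_congr hfα]
        exact (DFac.img_comp hf₀F (hαm.res hQS)).symm
      have hQconj : F.IsConj (img P f₀) P' :=
        (Helper88.isConj_iff F).2 ⟨_, hαm.res hQS, himgQ⟩
      have hP'S : P' ≤ S := hP'n.1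
      have hQn : F.IsFullyNormalized (img P f₀) := by
        refine ⟨hQS, fun X hX => ?_⟩
        have h1 := hP'n.2 X (isConj_trans F (isConj_symm F hQconj) hX)
        have hαi : Mor F S (autFun ((α : MulAut S)⁻¹)) := autFun_mor F le_rfl (α⁻¹).2
        have hle : img (normalizerIn S P') (autFun ((α : MulAut S)⁻¹)) ≤
            normalizerIn S (img P' (autFun ((α : MulAut S)⁻¹))) :=
          img_le_normalizerIn (hαi.res (normalizerIn_le S P')) (le_normalizerIn hP'S) le_rfl
        have himg2 : img P' (autFun ((α : MulAut S)⁻¹)) = img P f₀ := by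
          rw [← himgQ]
          exact img_inv hαm (by rw [img_autFun F le_rfl α]; exact hαi)
            (fun x hx => autFun_inv _ hx) hQS
        rw [himg2] at hle
        haveI : Finite (normalizerIn S (img P f₀)) := finite_of_le (normalizerIn_le S _)
        have h2 := Subgroup.card_le_of_le hle
        rw [(hαi.res (normalizerIn_le S P')).card_img] at h2
        exact h1.trans h2
      have hexQ := hF (img P f₀) hQS
      have hfaF : F.IsFullyAutomized p (img P f₀) := fa_of_fn_local p hS F hexQ hQn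
      have hrecF : F.IsReceptive (img P f₀) :=
        rec_of_fc_local p hS F hexQ (fc_of_fn_local p hS F hexQ hQn)
      have hQc : F.IsCentric (img P f₀) := Helper88.centric_conj hP hf₀F
      refine ⟨img P f₀, (Helper88.isConj_iff _).2 ⟨f₀, hf₀, rfl⟩, fa_sub hS hEF hfaF, hQS, ?_⟩
      intro P₁ φ hφ hr
      obtain ⟨ψ, hψ, hψφ⟩ := hrecF.2 P₁ φ (hEF P₁ hφ) hr
      refine ⟨ψ, ⟨hψ, ?_⟩, hψφ⟩
      obtain ⟨a, ha, φ₀, hφ₀, hφa⟩ := hφ.2
      have hψm : Mor F (extender S P₁ φ) (extFun ψ) := mor_of_hom F hψ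
      obtain ⟨α', ψE, hψE, hψα⟩ := hfrat hψm
      obtain ⟨a', ha', ψ₀, hψ₀, hψa'⟩ := hmorE.1 hψE
      have hφF := hEF P₁ hφ
      have hP₁S : P₁ ≤ S := (F.le_of_mem hφF).1
      have hP₁N : P₁ ≤ extender S P₁ φ := le_extender hP₁S φ (hom_mem_S F hφF)
      have hφm : Mor F P₁ (extFun φ) := mor_of_hom F hφF
      have himgφ : img P₁ (extFun φ) = img P f₀ := by
        rw [Helper88.img_eq_range φ (fun x => (extFun_apply φ x).symm)]; exact hr
      have hP₁c : F.IsCentric P₁ := by
        obtain ⟨g, hg, hgf⟩ := hφm.exists_inv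
        have h2 : img (img P₁ (extFun φ)) g = P₁ := img_inv hφm hg hgf le_rfl
        rw [himgφ] at hg h2
        have h1 := Helper88.centric_conj hQc hg
        rw [h2] at h1
        exact h1
      have hψ₀P : G0 F p P₁ ψ₀ := hψ₀.res _ hP₁N
      obtain ⟨ψ₀inv, hψ₀inv, hinv⟩ := hψ₀P.inv
      have hR₁c : F.IsCentric (img P₁ ψ₀) := Helper88.centric_conj hP₁c hψ₀P.mor
      have himg3 : img (img P₁ ψ₀) ψ₀inv = P₁ := img_inv hψ₀P.mor hψ₀inv.mor hinv le_rfl
      have hcomp : G0 F p (img P₁ ψ₀) (fun y => φ₀ (ψ₀inv y)) :=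
        G0.comp _ ψ₀inv φ₀ _ hψ₀inv (by rw [himg3]; exact hφ₀) (fun _ _ => rfl)
      have hc : a⁻¹ * α' * a' ∈ A0 F p := by
        apply Subgroup.subset_closure
        refine ⟨img P₁ ψ₀, hR₁c, hcomp.congr (fun y hy => ?_)⟩
        obtain ⟨x, hx, rfl⟩ := hψ₀P.mor.mem_img.1 hy
        rw [hinv x hx]
        have hxN := hP₁N hx
        have e1 : extFun ψ x = extFun φ x := by
          rw [extFun_mem ψ hxN, extFun_mem φ hx]; exact hψφ x hx hxN
        have e2 := hψα x hxN
        have e3 := hψa' x hxN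
        have e4 := hφa x hx
        have hψ₀S : ψ₀ x ∈ S := hψ₀P.mor.mem_S hx
        show autFun ((a : MulAut S)⁻¹ * (α' : MulAut S) * (a' : MulAut S)) (ψ₀ x) = φ₀ x
        rw [autFun_mul _ _ hψ₀S, autFun_mul _ _ (autFun_mem_R _ hψ₀S), ← e3, ← e2, e1, e4,
          autFun_inv _ (hφ₀.mor.mem_S hx)]
      have hα' : α' * a' ∈ A0 F p := by
        have h5 := (A0 F p).mul_mem ha hc
        have e : a * (a⁻¹ * α' * a') = α' * a' := by group
        rwa [e] at h5
      refine ⟨α' * a', hα', ψ₀, hψ₀, fun x hx => ?_⟩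
      show extFun ψ x = autFun ((α' : MulAut S) * (a' : MulAut S)) (ψ₀ x)
      rw [autFun_mul _ _ (hψ₀.mor.mem_S hx), ← hψa' x hx, ← hψα x hx]
    · -- generation
      intro E' hE' P φ hφ
      obtain ⟨a, ha, f₀, hf₀, hfa⟩ := hφ.2
      have hbase : ∀ (R : Subgroup Ω) (f₁ : Ω → Ω), F.IsCentric R → G0 F p R f₁ →
          Mor E' R f₁ := by
        intro R f₁ hc hg
        obtain ⟨φ', hφ', hφ'f⟩ := hmorE.2 (FrMor.of_G0 hg)
        exact ⟨φ', hE' R hc hφ', hφ'f⟩
      have h1 : Mor E' P f₀ := hf₀.mor_of E' (fun R f₁ hc hf₁ hmaps hk =>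
        hbase R f₁ hc (G0.base R R f₁ f₁ hc le_rfl hf₁ hmaps hk (fun _ _ => rfl)))
      have h2 : Mor E' S (autFun (a : MulAut S)) := by
        obtain ⟨φ', hφ', hφ'f⟩ := hmorE.2 (FrMor.of_mem ha le_rfl)
        exact ⟨φ', hE' S (centric_top F) hφ', hφ'f⟩
      exact hom_of_mor (h1.comp h2 (fun x hx => h1.mem_S hx))
        (fun x => (extFun_apply φ x).symm.trans (hfa x x.2))
    · -- centric subgroups of the subsystem are centric in `F`
      intro P hPc hPnot
      exact absurd ((hcen P).1 hPc) hPnot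
  refine ⟨hEsat, hidx, fun D hDsat hD => ?_⟩
  intro P φ hφ
  obtain ⟨a, ha, f₀, hf₀, hfa⟩ := hφ.2
  have hDF : ∀ (P : Subgroup Ω) (f : Ω → Ω), Mor D P f → Mor F P f :=
    fun P f ⟨φ, hφ, hφf⟩ => ⟨φ, hD.1 P hφ, hφf⟩
  have hbaseD : ∀ (R : Subgroup Ω) (f₁ : Ω → Ω), F.IsCentric R → Mor F R f₁ →
      (∀ x ∈ R, f₁ x ∈ R) → (∃ k : ℕ, ∀ x ∈ R, f₁^[p ^ k] x = x) → Mor D R f₁ := by
    intro R f₁ hc hf₁ hmaps ⟨k, hk⟩
    have hRS := hc.1
    obtain ⟨α, hα, hαx⟩ := hf₁.exists_aut hmaps
    have hax : ∀ x ∈ R, autFun α x = f₁ x := fun x hx => by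
      rw [autFun_mem α hx]; exact hαx ⟨x, hx⟩
    have hiter : ∀ n : ℕ, ∀ x ∈ R, (autFun α)^[n] x = f₁^[n] x := by
      intro n
      induction n with
      | zero => intro x hx; rfl
      | succ n ih =>
        intro x hx
        rw [Function.iterate_succ_apply', Function.iterate_succ_apply', ih x hx,
          hax _ (iterate_mem hmaps n x hx)]
    have hpow : α ^ p ^ k = 1 := by
      apply MulEquiv.ext
      intro x
      apply Subtype.ext
      have h1 := autFun_pow_iterate α (p ^ k) x x.2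
      rw [hiter (p ^ k) x x.2, hk x x.2, autFun_mem _ x.2] at h1
      exact h1
    have hord : ∃ j : ℕ, orderOf (⟨α, hα⟩ : F.autGroup R) = p ^ j := by
      have h2 : (⟨α, hα⟩ : F.autGroup R) ^ p ^ k = 1 := by
        apply Subtype.ext
        rw [Subgroup.coe_pow, Subgroup.coe_one]
        exact hpow
      obtain ⟨j, -, hj⟩ := (Nat.dvd_prime_pow (Fact.out : p.Prime)).1 (orderOf_dvd_of_pow_eq_one h2)
      exact ⟨j, hj⟩
    have hmem : α ∈ D.autGroup R := hD.2 R hRS ⟨⟨α, hα⟩, Subgroup.subset_closure hord, rfl⟩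
    exact (autFun_mor D hRS hmem).congr hax
  have h1 : Mor D P f₀ := hf₀.mor_of D hbaseD
  have hA : ∀ a ∈ A0 F p, Mor D S (autFun ((a : F.autGroup S) : MulAut S)) := by
    intro a ha
    unfold A0 at ha
    induction ha using Subgroup.closure_induction with
    | mem a ha =>
      obtain ⟨R, hc, hg⟩ := ha
      exact Helper88.centric_extend hS hF hDsat hDF (autFun_mor F le_rfl a.2) _ R rfl hc hc.1
        (hg.mor_of D hbaseD)
    | one => exact (mor_id D le_rfl).congr (fun x hx => (autFun_one hx).symm)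
    | mul a b _ _ iha ihb =>
      exact (ihb.comp iha (fun x hx => ihb.mem_S hx)).congr (fun x hx => (autFun_mul _ _ hx).symm)
    | inv a _ iha =>
      obtain ⟨g, hg, hgf⟩ := iha.exists_inv
      rw [iha.img_top] at hg
      refine hg.congr (fun x hx => ?_)
      have h3 := hgf _ (autFun_mem_R ((a : MulAut S)⁻¹) hx)
      rw [autFun_inv' _ hx] at h3
      exact h3
  exact hom_of_mor (h1.comp (hA a ha) (fun x hx => h1.mem_S hx))
    (fun x => (extFun_apply φ x).symm.trans (hfa x x.2))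


end Cfsg.Agent.Lib.Helper42.PRes
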