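import Mathlib
import Cfsg.Agent.Lib.Helper42.PResB
import Cfsg.Agent.Lib.Helper42.PResC

set_option autoImplicit false
set_option linter.style.haveILetI false

/-!
# Part D: the `p'`-residual subsystem of a weakly normal subsystem `E` of `F` over `T` is
contained in every weakly normal subsystem of `F` over `T`.
-/

namespace Cfsg.Agent.Lib.Helper42.PRes

open Cfsg Cfsg.FusionSystem Cfsg.Agent.Lib.Helper84 Cfsg.Agent.Lib.Helper84.SatCrit
open Cfsg.Agent.Lib.Helper84.PPrimeRes
open Cfsg.Agent.Lib.Helper88 (Mor extFun extFun_mem extFun_apply img mor_of_hom hom_of_mor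
  mor_conj mor_id)

variable {Ω : Type*} [Group Ω] {S T : Subgroup Ω}

/-- An `E`-centric subgroup has all its `F`-conjugates `T`-centric, when `E` is invariant in
`F`. -/
theorem tc_of_centric [Finite S] {F : FusionSystem S} {E : FusionSystem T}
    (hE : E.IsInvariantIn F) {R : Subgroup Ω} (hc : E.IsCentric R) : TC F T R := by
  have hTcl := hE.2.1
  have hRT : R ≤ T := hc.1
  intro f hf c hcc
  obtain ⟨b, f₀, hb, hf₀, hfb⟩ := Helper88.invariant_frattini hE hRT hf
  obtain ⟨b', hb', hbT, hb'T, hb'b, hbb'⟩ := Helper88.aut_inverse hTcl hb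
  rw [Helper88.mem_centralizerIn] at hcc
  obtain ⟨hcT, hcomm⟩ := hcc
  have hf₀T : ∀ x ∈ R, f₀ x ∈ T := fun x hx => hf₀.mem_S hx
  have hb'c : b' c ∈ centralizerIn T (img R f₀) := by
    rw [Helper88.mem_centralizerIn]
    refine ⟨hb'T c hcT, ?_⟩
    intro q hq
    obtain ⟨x, hx, rfl⟩ := hf₀.mem_img.mp hq
    have hfx : f x ∈ img R f := hf.apply_mem_img hx
    have h1 := hcomm (f x) hfx
    apply hb.inj (T.mul_mem (hf₀T x hx) (hb'T c hcT)) (T.mul_mem (hb'T c hcT) (hf₀T x hx))
    rw [hb.map_mul (hf₀T x hx) (hb'T c hcT), hb.map_mul (hb'T c hcT) (hf₀T x hx), hbb' c hcT,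
      ← hfb x hx]
    exact h1
  have hin := hc.2 (img R f₀) (Helper88.isConj_of_mor hf₀) hb'c
  obtain ⟨x, hx, hxc⟩ := hf₀.mem_img.mp hin
  have : c = f x := by
    rw [hfb x hx, hxc, hbb' c hcT]
  rw [this]
  exact hf.apply_mem_img hx

/-- The main theorem: the `p'`-residual subsystem of `E` lies in every weakly normal subsystem
of `F` over `T`. -/
theorem residual_le [Finite S] (p : ℕ) [Fact p.Prime] (hS : IsPGroup p S) (F : FusionSystem S)
    (E : FusionSystem T) (hE : E.IsWeaklyNormalIn F p) (D : FusionSystem T)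
    (hD : E.IsPPrimeResidual p D) (D' : FusionSystem T) (hD' : D'.IsWeaklyNormalIn F p) :
    D.IsSubsystemOf D' := by
  obtain ⟨hEsat, -, hEinv⟩ := hE
  obtain ⟨hD'sat, -, hD'inv⟩ := hD'
  have hEF := hEinv.1
  have hD'F := hD'inv.1
  have hTcl := hEinv.2.1
  have hTS : T ≤ S := hTcl.1
  haveI hfinT : Finite T := Finite.of_injective _ (Subgroup.inclusion_injective hTS)
  have hT : IsPGroup p T := hS.to_le hTS
  have hres := frSys_isPPrimeResidual p hT E hEsat
  have hDR0 := hD.2.2 _ hres.1 hres.2.1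
  -- generators of `p`-power order
  have hbase : ∀ (R : Subgroup Ω) (f₁ : Ω → Ω), E.IsCentric R → Mor E R f₁ →
      (∀ x ∈ R, f₁ x ∈ R) → (∃ k : ℕ, ∀ x ∈ R, f₁^[p ^ k] x = x) → Mor D' R f₁ :=
    fun R f₁ _ hf₁ hmaps hk => pelt_mem hS hEsat hEF hD'inv hf₁ hmaps hk
  -- the automorphisms of `T`
  have hgen : ∀ a : E.autGroup T, (∃ R, E.IsCentric R ∧ G0 E p R (autFun (a : MulAut T))) →
      Mor D' T (autFun ((a : E.autGroup T) : MulAut T)) := by
    rintro a ⟨R, hc, hg⟩
    have hRa : Mor D' R (autFun (a : MulAut T)) := hg.mor_of D' hbase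
    have haE : Mor E T (autFun (a : MulAut T)) := autFun_mor E le_rfl a.2
    have haE' : Mor E T (autFun ((a : MulAut T)⁻¹)) := autFun_mor E le_rfl (a⁻¹).2
    have haF : Mor F T (autFun (a : MulAut T)) := Helper88.subsystem_mor hEF haE
    have hNA : NA F D' (autFun (a : MulAut T)) (autFun ((a : MulAut T)⁻¹)) :=
      { mor := haF
        mor' := Helper88.subsystem_mor hEF haE'
        maps := fun x hx => autFun_mem_R _ hx
        maps' := fun x hx => autFun_mem_R _ hx
        left := fun x hx => autFun_inv _ hx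
        right := fun x hx => autFun_inv' _ hx
        conj := fun P f hf =>
          Helper88.invariant_conj hD'inv hf.le hf haF (fun x hx => autFun_inv _ hx) }
    obtain ⟨K, hK⟩ := na_extend hS hD'sat hD'F _ _ _ R hNA rfl (tc_of_centric hEinv hc) hRa
    -- group level
    have h1 : (a : MulAut T) ^ p ^ K ∈ D'.autGroup T := by
      rw [Helper88.mem_autGroup_iff D' le_rfl]
      refine hK.congr (fun x hx => ?_)
      exact (autFun_pow_iterate (a : MulAut T) (p ^ K) x hx).symm
    haveI : Finite (MulAut T) := by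
      haveI : Finite (T ≃ T) := inferInstance
      exact Finite.of_injective (fun e : MulAut T => e.toEquiv) (fun e₁ e₂ h => by
        apply MulEquiv.ext; intro x; exact congrArg (fun e : T ≃ T => e x) h)
    have ho : orderOf (a : MulAut T) ≠ 0 := (orderOf_pos _).ne'
    obtain ⟨e, m, hpm, hom⟩ := Nat.exists_eq_pow_mul_and_not_dvd ho p (Fact.out : p.Prime).ne_one
    have h2 : (a : MulAut T) ^ m ∈ D'.autGroup T := by
      have hmE : (a : MulAut T) ^ m ∈ E.autGroup T := (E.autGroup T).pow_mem a.2 m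
      have h2' : Mor D' T (autFun ((a : MulAut T) ^ m)) := by
        refine pelt_mem hS hEsat hEF hD'inv (autFun_mor E le_rfl hmE)
          (fun x hx => autFun_mem_R _ hx) ⟨e, fun x hx => ?_⟩
        rw [← autFun_pow_iterate _ _ x hx]
        have h3 : ((a : MulAut T) ^ m) ^ p ^ e = 1 := by
          rw [← pow_mul, mul_comm, ← hom]
          exact pow_orderOf_eq_one _
        rw [h3]
        exact autFun_one hx
      exact (Helper88.mem_autGroup_iff D' le_rfl _).mpr h2'
    have hcop : Nat.Coprime (p ^ K) m :=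
      Nat.Coprime.pow_left K ((Nat.Prime.coprime_iff_not_dvd (Fact.out : p.Prime)).mpr hpm)
    have hbez := Nat.gcd_eq_gcd_ab (p ^ K) m
    rw [hcop] at hbez
    have h4 : (a : MulAut T) =
        ((a : MulAut T) ^ p ^ K) ^ (Nat.gcdA (p ^ K) m) * ((a : MulAut T) ^ m) ^ (Nat.gcdB (p ^ K) m) := by
      rw [← zpow_natCast, ← zpow_natCast, ← zpow_mul, ← zpow_mul, ← zpow_add, ← hbez]
      simp
    have h5 : (a : MulAut T) ∈ D'.autGroup T := by
      rw [h4]
      exact (D'.autGroup T).mul_mem ((D'.autGroup T).zpow_mem h1 _) ((D'.autGroup T).zpow_mem h2 _)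
    exact autFun_mor D' le_rfl h5
  have hA : ∀ a ∈ A0 E p, Mor D' T (autFun ((a : E.autGroup T) : MulAut T)) := by
    intro a ha
    unfold A0 at ha
    induction ha using Subgroup.closure_induction with
    | mem a ha => exact hgen a ha
    | one => exact (mor_id D' le_rfl).congr (fun x hx => (autFun_one hx).symm)
    | mul a b _ _ iha ihb =>
      exact (ihb.comp iha (fun x hx => ihb.mem_S hx)).congr
        (fun x hx => (autFun_mul _ _ hx).symm)
    | inv a _ iha =>
      obtain ⟨g, hg, hgf⟩ := iha.exists_inv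
      rw [iha.img_top] at hg
      refine hg.congr (fun x hx => ?_)
      have h3 := hgf _ (autFun_mem_R ((a : MulAut T)⁻¹) hx)
      rw [autFun_inv' _ hx] at h3
      exact h3
  -- conclusion
  intro P φ hφ
  have hφ' := hDR0 P hφ
  obtain ⟨a, ha, f₀, hf₀, hfa⟩ := hφ'.2
  have h1 : Mor D' P f₀ := hf₀.mor_of D' hbase
  exact hom_of_mor (h1.comp (hA a ha) (fun x hx => h1.mem_S hx))
    (fun x => (extFun_apply φ x).symm.trans (hfa x x.2))

end Cfsg.Agent.Lib.Helper42.PRes
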