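import Mathlib
import Cfsg.Agent.Lib.Helper42.PResD
import Cfsg.Agent.Lib.Helper88.IsoB

set_option autoImplicit false
set_option linter.style.haveILetI false

/-!
# The `p'`-residual subsystem of a weakly normal subsystem is normal.  Part A

Basics on extensions to `P C_S(T)` acting trivially on `C_S(T)` modulo `T`, and the invariance
of the residual subsystem.
-/

namespace Cfsg.Agent.Lib.Helper42.PNorm

open Cfsg Cfsg.FusionSystem Cfsg.Agent.Lib.Helper84 Cfsg.Agent.Lib.Helper84.SatCrit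
open Cfsg.Agent.Lib.Helper84.PPrimeRes
open Cfsg.Agent.Lib.Helper88 (Mor extFun extFun_mem extFun_apply img mor_of_hom hom_of_mor
  mor_conj mor_id)
open Cfsg.Agent.Lib.Helper42.PRes (TC NA si_aut pelt_mem tc_of_centric frSys_isPPrimeResidual)

variable {Ω : Type*} [Group Ω] {S T : Subgroup Ω}

/-- elements of `P C_S(T)` are products, for `P ≤ T`. -/
theorem sup_decomp {P : Subgroup Ω} (hPT : P ≤ T) :
    ∀ y ∈ P ⊔ centralizerIn S T, ∃ x ∈ P, ∃ c ∈ centralizerIn S T, y = x * c := by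
  have hcomm : ∀ x ∈ P, ∀ c ∈ centralizerIn S T, x * c = c * x := fun x hx c hc =>
    (Helper88.mem_centralizerIn.mp hc).2 x (hPT hx)
  let K : Subgroup Ω :=
    { carrier := {y | ∃ x ∈ P, ∃ c ∈ centralizerIn S T, y = x * c}
      one_mem' := ⟨1, P.one_mem, 1, Subgroup.one_mem _, by simp⟩
      mul_mem' := by
        rintro _ _ ⟨x, hx, c, hc, rfl⟩ ⟨x', hx', c', hc', rfl⟩
        refine ⟨x * x', P.mul_mem hx hx', c * c', Subgroup.mul_mem _ hc hc', ?_⟩
        have := hcomm x' hx' c hc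
        calc x * c * (x' * c') = x * (c * x') * c' := by group
          _ = x * (x' * c) * c' := by rw [this]
          _ = x * x' * (c * c') := by group
      inv_mem' := by
        rintro _ ⟨x, hx, c, hc, rfl⟩
        refine ⟨x⁻¹, P.inv_mem hx, c⁻¹, Subgroup.inv_mem _ hc, ?_⟩
        have := hcomm x⁻¹ (P.inv_mem hx) c⁻¹ (Subgroup.inv_mem _ hc)
        rw [this]; group }
  have hle : P ⊔ centralizerIn S T ≤ K :=
    sup_le (fun x hx => ⟨x, hx, 1, Subgroup.one_mem _, by simp⟩)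
      (fun c hc => ⟨1, P.one_mem, c, hc, by simp⟩)
  intro y hy
  exact hle hy

/-- `a` on `P ≤ T` extends to a map of `F` on `P C_S(T)` acting trivially on `C_S(T)` modulo
`T`. -/
def Ext (F : FusionSystem S) (T P : Subgroup Ω) (a : Ω → Ω) : Prop :=
  P ≤ T ∧ ∃ b : Ω → Ω, Mor F (P ⊔ centralizerIn S T) b ∧ (∀ x ∈ P, b x = a x) ∧
    ∀ c ∈ centralizerIn S T, c⁻¹ * b c ∈ T

theorem Ext.mor {F : FusionSystem S} {P : Subgroup Ω} {a : Ω → Ω} (h : Ext F T P a) :
    Mor F P a := by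
  obtain ⟨-, b, hb, hba, -⟩ := h
  exact (hb.res le_sup_left).congr hba

theorem Ext.congr {F : FusionSystem S} {P : Subgroup Ω} {a a₂ : Ω → Ω} (h : Ext F T P a)
    (haa : ∀ x ∈ P, a x = a₂ x) : Ext F T P a₂ := by
  obtain ⟨hPT, b, hb, hba, hbc⟩ := h
  exact ⟨hPT, b, hb, fun x hx => (hba x hx).trans (haa x hx), hbc⟩

theorem Ext.res {F : FusionSystem S} {P Q : Subgroup Ω} {a : Ω → Ω} (h : Ext F T P a)
    (hQP : Q ≤ P) : Ext F T Q a := by
  obtain ⟨hPT, b, hb, hba, hbc⟩ := h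
  exact ⟨hQP.trans hPT, b, hb.res (sup_le_sup_right hQP _), fun x hx => hba x (hQP hx), hbc⟩

theorem ext_id (F : FusionSystem S) (hTS : T ≤ S) {P : Subgroup Ω} (hPT : P ≤ T) :
    Ext F T P (fun x => x) :=
  ⟨hPT, fun x => x, mor_id F (sup_le (hPT.trans hTS) inf_le_left), fun _ _ => rfl,
    fun c _ => by simp [T.one_mem]⟩

/-- composition of extendable maps. -/
theorem ext_comp {F : FusionSystem S} (hTcl : F.StronglyClosed T) {P Q : Subgroup Ω}
    {f g : Ω → Ω} (hf : Ext F T P f) (hg : Ext F T Q g) (hPQ : ∀ x ∈ P, f x ∈ Q)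
    (hc : centralizerIn T (img P f) ≤ img P f) : Ext F T P (fun x => g (f x)) := by
  have hfm : Mor F P f := hf.mor
  have hgm : Mor F Q g := hg.mor
  obtain ⟨hPT, f₂, hf₂, hf₂f, hf₂c⟩ := hf
  obtain ⟨hQT, g₂, hg₂, hg₂g, hg₂c⟩ := hg
  have hcen : ∀ c ∈ centralizerIn S T, c⁻¹ * f₂ c ∈ Q := by
    intro c hc'
    have hin : c⁻¹ * f₂ c ∈ img P f := by
      apply hc
      rw [Helper88.mem_centralizerIn]
      refine ⟨hf₂c c hc', ?_⟩
      intro q hq
      obtain ⟨x, hx, rfl⟩ := hfm.mem_img.mp hq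
      have hxc : x * c = c * x := (Helper88.mem_centralizerIn.mp hc').2 x (hPT hx)
      have h1 : f₂ x * f₂ c = f₂ c * f₂ x := by
        rw [← hf₂.map_mul (Subgroup.mem_sup_left hx) (Subgroup.mem_sup_right hc'),
          ← hf₂.map_mul (Subgroup.mem_sup_right hc') (Subgroup.mem_sup_left hx), hxc]
      have hfxT : f x ∈ T := hQT (hPQ x hx)
      have h2 : f x * c = c * f x := (Helper88.mem_centralizerIn.mp hc').2 (f x) hfxT
      rw [hf₂f x hx] at h1
      calc f x * (c⁻¹ * f₂ c) = c⁻¹ * (c * f x) * c⁻¹ * f₂ c := by group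
        _ = c⁻¹ * (f x * c) * c⁻¹ * f₂ c := by rw [h2]
        _ = c⁻¹ * (f x * f₂ c) := by group
        _ = c⁻¹ * (f₂ c * f x) := by rw [h1]
        _ = c⁻¹ * f₂ c * f x := by group
    obtain ⟨x', hx', h⟩ := hfm.mem_img.mp hin
    rw [← h]; exact hPQ x' hx'
  have hdec : ∀ c ∈ centralizerIn S T, ∃ z ∈ Q, f₂ c = c * z := fun c hc' =>
    ⟨c⁻¹ * f₂ c, hcen c hc', by group⟩
  have hmaps : ∀ y ∈ P ⊔ centralizerIn S T, f₂ y ∈ Q ⊔ centralizerIn S T := by
    intro y hy
    obtain ⟨x, hx, c, hc', rfl⟩ := sup_decomp hPT y hy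
    obtain ⟨z, hz, hzc⟩ := hdec c hc'
    rw [hf₂.map_mul (Subgroup.mem_sup_left hx) (Subgroup.mem_sup_right hc'), hf₂f x hx, hzc]
    exact Subgroup.mul_mem _ (Subgroup.mem_sup_left (hPQ x hx))
      (Subgroup.mul_mem _ (Subgroup.mem_sup_right hc') (Subgroup.mem_sup_left hz))
  refine ⟨hPT, fun y => g₂ (f₂ y), hf₂.comp hg₂ hmaps, ?_, ?_⟩
  · intro x hx
    show g₂ (f₂ x) = g (f x)
    rw [hf₂f x hx, hg₂g _ (hPQ x hx)]
  · intro c hc'
    obtain ⟨z, hz, hzc⟩ := hdec c hc'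
    show c⁻¹ * g₂ (f₂ c) ∈ T
    rw [hzc, hg₂.map_mul (Subgroup.mem_sup_right hc') (Subgroup.mem_sup_left hz), hg₂g _ hz]
    have hgz : g z ∈ T := Helper88.stronglyClosed_mor hTcl hQT hgm z hz
    have e : c⁻¹ * (g₂ c * g z) = (c⁻¹ * g₂ c) * g z := by group
    rw [e]
    exact T.mul_mem (hg₂c c hc') hgz

theorem tc_img {F : FusionSystem S} {R : Subgroup Ω} {f : Ω → Ω} (h : TC F T R)
    (hf : Mor F R f) : TC F T (img R f) := by
  intro g hg
  have h1 := h (fun x => g (f x)) (hf.comp hg (fun x hx => hf.apply_mem_img hx))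
  rw [Helper88.img_comp hf hg (fun x hx => hf.apply_mem_img hx)] at h1
  exact h1

theorem tc_self {F : FusionSystem S} {R : Subgroup Ω} (h : TC F T R) (hRS : R ≤ S) :
    centralizerIn T R ≤ R := by
  have h1 := h (fun x => x) (mor_id F hRS)
  rw [Helper88.img_id] at h1
  exact h1

/-- the image of an `E`-centric subgroup under an automorphism of `T` in `F` is `E`-centric. -/
theorem centric_img [Finite S] {F : FusionSystem S} {E : FusionSystem T}
    (hE : E.IsInvariantIn F) {R : Subgroup Ω} (hc : E.IsCentric R) {a : Ω → Ω}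
    (ha : Mor F T a) : E.IsCentric (img R a) := by
  have htc : TC F T R := tc_of_centric hE hc
  have hRT := hc.1
  have haR : Mor F R a := ha.res hRT
  have hT := hE.2.1
  refine ⟨?_, ?_⟩
  · intro y hy
    obtain ⟨x, hx, rfl⟩ := haR.mem_img.mp hy
    exact Helper88.stronglyClosed_mor hT le_rfl ha x (hRT hx)
  · intro Q hQ
    obtain ⟨g, hg, rfl⟩ := (Helper88.isConj_iff E).mp hQ
    exact tc_img htc haR g (Helper88.subsystem_mor hE.1 hg)

/-- the generating maps of the residual subsystem are permuted by the automorphisms of `T` in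
`F`. -/
theorem g0_conj [Finite S] {p : ℕ} {F : FusionSystem S} {E : FusionSystem T}
    (hE : E.IsInvariantIn F) {a a' : Ω → Ω} (ha : Mor F T a) (h1 : ∀ x ∈ T, a' (a x) = x)
    (h2 : ∀ x ∈ T, a (a' x) = x) {P : Subgroup Ω} {f : Ω → Ω} (h : G0 E p P f) :
    G0 E p (img P a) (fun y => a (f (a' y))) := by
  induction h with
  | base R P f₁ f hc hPR hf₁ hmaps hk hff =>
    have hRS : R ≤ T := hc.1
    have heR : Mor F R a := ha.res hRS
    have hR'S : img R a ≤ T := (centric_img hE hc ha).1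
    have hback : ∀ y ∈ img R a, a' y ∈ R := by
      intro y hy
      obtain ⟨x, hx, rfl⟩ := heR.mem_img.1 hy
      rw [h1 x (hRS hx)]; exact hx
    have hf' : Mor E (img R a) (fun y => a (f₁ (a' y))) :=
      Helper88.invariant_conj hE hRS hf₁ ha h1
    have hmaps' : ∀ y ∈ img R a, a (f₁ (a' y)) ∈ img R a :=
      fun y hy => heR.apply_mem_img (hmaps _ (hback y hy))
    obtain ⟨k, hk⟩ := hk
    have hiter : ∀ n : ℕ, ∀ y ∈ img R a,
        (fun y => a (f₁ (a' y)))^[n] y = a (f₁^[n] (a' y)) := by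
      intro n
      induction n with
      | zero => intro y hy; exact (h2 y (hR'S hy)).symm
      | succ n ih =>
        intro y hy
        rw [Function.iterate_succ_apply', ih y hy]
        show a (f₁ (a' (a (f₁^[n] (a' y))))) = a (f₁^[n + 1] (a' y))
        rw [h1 _ (hRS (iterate_mem hmaps n _ (hback y hy))), Function.iterate_succ_apply']
    refine G0.base (img R a) (img P a) _ _ (centric_img hE hc ha)
      (img_mono_of_mor heR hPR) hf' hmaps' ⟨k, ?_⟩ ?_
    · intro y hy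
      rw [hiter (p ^ k) y hy, hk _ (hback y hy), h2 y (hR'S hy)]
    · intro y hy
      obtain ⟨x, hx, rfl⟩ := (heR.res hPR).mem_img.1 hy
      show a (f (a' (a x))) = a (f₁ (a' (a x)))
      rw [h1 x (hRS (hPR hx)), hff x hx]
  | comp P f g h hf hg hh ihf ihg =>
    have hfm := hf.mor
    have hPS : P ≤ T := hfm.le
    have hePm : Mor F P a := ha.res hPS
    have hQS : img P f ≤ T := hfm.img_le
    have heQ : Mor F (img P f) a := ha.res hQS
    have himg : img (img P a) (fun y => a (f (a' y))) = img (img P f) a := by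
      ext z
      rw [ihf.mor.mem_img, heQ.mem_img]
      constructor
      · rintro ⟨y, hy, rfl⟩
        obtain ⟨x, hx, rfl⟩ := hePm.mem_img.1 hy
        refine ⟨f x, hfm.apply_mem_img hx, ?_⟩
        show a (f x) = a (f (a' (a x)))
        rw [h1 x (hPS hx)]
      · rintro ⟨w, hw, rfl⟩
        obtain ⟨x, hx, rfl⟩ := hfm.mem_img.1 hw
        refine ⟨a x, hePm.apply_mem_img hx, ?_⟩
        show a (f (a' (a x))) = a (f x)
        rw [h1 x (hPS hx)]
    refine G0.comp _ _ _ _ ihf (by rw [himg]; exact ihg) ?_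
    intro y hy
    obtain ⟨x, hx, rfl⟩ := hePm.mem_img.1 hy
    show a (h (a' (a x))) = a (g (a' (a (f (a' (a x))))))
    rw [h1 x (hPS hx), h1 _ (hfm.mem_S hx), hh x hx]

/-- `Aut⁰_E(T)` is normalized by the automorphisms of `T` in `F`. -/
theorem a0_conj [Finite S] {p : ℕ} {F : FusionSystem S} {E : FusionSystem T}
    (hE : E.IsInvariantIn F) {a a' : Ω → Ω} (ha : Mor F T a) (haT : ∀ x ∈ T, a x ∈ T)
    (ha'T : ∀ x ∈ T, a' x ∈ T) (h1 : ∀ x ∈ T, a' (a x) = x) (h2 : ∀ x ∈ T, a (a' x) = x) :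
    ∀ α ∈ A0 E p, ∃ β ∈ A0 E p, ∀ x ∈ T,
      autFun ((β : E.autGroup T) : MulAut T) x =
        a (autFun ((α : E.autGroup T) : MulAut T) (a' x)) := by
  have hTS : T ≤ S := hE.2.1.1
  haveI hfinT : Finite T := Finite.of_injective _ (Subgroup.inclusion_injective hTS)
  intro α hα
  unfold A0 at hα
  induction hα using Subgroup.closure_induction with
  | mem α hα =>
    obtain ⟨R, hc, hg⟩ := hα
    have hαm : Mor E T (autFun (α : MulAut T)) := autFun_mor E le_rfl α.2
    have hm : Mor E (img T a) (fun y => a (autFun (α : MulAut T) (a' y))) :=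
      Helper88.invariant_conj hE le_rfl hαm ha h1
    have himgT : img T a = T := ha.img_eq_self haT
    rw [himgT] at hm
    obtain ⟨β, hβ, hβm⟩ := hm.exists_aut (fun x hx => haT _ (autFun_mem_R _ (ha'T x hx)))
    have hβx : ∀ x ∈ T, autFun β x = a (autFun (α : MulAut T) (a' x)) := fun x hx => by
      rw [autFun_mem β hx]; exact hβm ⟨x, hx⟩
    refine ⟨⟨β, hβ⟩, Subgroup.subset_closure ⟨img R a, centric_img hE hc ha, ?_⟩, hβx⟩
    exact (g0_conj hE ha h1 h2 hg).congr (fun y hy => hβx y ((centric_img hE hc ha).1 hy))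
  | one =>
    refine ⟨1, Subgroup.one_mem _, fun x hx => ?_⟩
    show autFun (1 : MulAut T) x = a (autFun (1 : MulAut T) (a' x))
    rw [autFun_one hx, autFun_one (ha'T x hx), h2 x hx]
  | mul α₁ α₂ _ _ ih₁ ih₂ =>
    obtain ⟨β₁, hβ₁, e₁⟩ := ih₁
    obtain ⟨β₂, hβ₂, e₂⟩ := ih₂
    refine ⟨β₁ * β₂, Subgroup.mul_mem _ hβ₁ hβ₂, fun x hx => ?_⟩
    show autFun ((β₁ : MulAut T) * (β₂ : MulAut T)) x =
      a (autFun ((α₁ : MulAut T) * (α₂ : MulAut T)) (a' x))
    rw [autFun_mul _ _ hx, autFun_mul _ _ (ha'T x hx), e₂ x hx,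
      e₁ _ (haT _ (autFun_mem_R _ (ha'T x hx))), h1 _ (autFun_mem_R _ (ha'T x hx))]
  | inv α _ ih =>
    obtain ⟨β, hβ, e⟩ := ih
    refine ⟨β⁻¹, Subgroup.inv_mem _ hβ, fun x hx => ?_⟩
    show autFun ((β : MulAut T)⁻¹) x = a (autFun ((α : MulAut T)⁻¹) (a' x))
    have hy : a (autFun ((α : MulAut T)⁻¹) (a' x)) ∈ T :=
      haT _ (autFun_mem_R _ (ha'T x hx))
    have h3 := e _ hy
    rw [h1 _ (autFun_mem_R _ (ha'T x hx)), autFun_inv' _ (ha'T x hx), h2 x hx] at h3
    have h4 := autFun_inv (β : MulAut T) hy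
    rw [h3] at h4
    exact h4

/-- The `p'`-residual subsystem of a weakly normal subsystem `E` of `F` is invariant in `F`. -/
theorem inv_data [Finite S] (p : ℕ) [Fact p.Prime] (hS : IsPGroup p S) (F : FusionSystem S)
    (E : FusionSystem T) (hE : E.IsWeaklyNormalIn F p) (D : FusionSystem T)
    (hD : E.IsPPrimeResidual p D) : Helper88.InvData D F := by
  obtain ⟨hEsat, -, hEinv⟩ := hE
  have hEF := hEinv.1
  have hTcl := hEinv.2.1
  have hTS : T ≤ S := hTcl.1
  haveI hfinT : Finite T := Finite.of_injective _ (Subgroup.inclusion_injective hTS)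
  have hT : IsPGroup p T := hS.to_le hTS
  have hres := frSys_isPPrimeResidual p hT E hEsat
  have hDR0 := hD.2.2 _ hres.1 hres.2.1
  have hR0D := hres.2.2 _ hD.1 hD.2.1
  have hDE : D.IsSubsystemOf E := hD.2.1.1
  refine ⟨fun P φ hφ => hEF P (hDE P hφ), hTcl, ?_, ?_⟩
  · intro P hPT f hf a a' ha ha'a
    obtain ⟨a'', ha'', haT, ha''T, ha''a, haa''⟩ := Helper88.aut_inverse hTcl ha
    have hfR0 := Helper88.subsystem_mor hDR0 hf
    obtain ⟨α, hα, f₀, hf₀, hfa⟩ := mor_frSys_iff.mp hfR0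
    obtain ⟨β, hβ, hβe⟩ := a0_conj hEinv ha haT ha''T ha''a haa'' α hα
    have hg := g0_conj hEinv ha ha''a haa'' hf₀
    have haP : Mor F P a := ha.res hPT
    have key : FrMor E p (A0 E p) (img P a) (fun y => a (f (a' y))) := by
      refine ⟨β, hβ, _, hg, ?_⟩
      intro y hy
      obtain ⟨x, hx, rfl⟩ := haP.mem_img.mp hy
      show a (f (a' (a x))) = autFun (β : MulAut T) (a (f₀ (a'' (a x))))
      have hf₀T : f₀ x ∈ T := hf₀.mor.mem_S hx
      rw [ha'a x (hPT hx), ha''a x (hPT hx), hβe _ (haT _ hf₀T), ha''a _ hf₀T, hfa x hx]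
    exact Helper88.subsystem_mor hR0D (mor_frSys_iff.mpr key)
  · intro P hPT f hf
    obtain ⟨a₁, f₁, ha₁, hf₁, hfa⟩ := Helper88.invariant_frattini hEinv hPT hf
    have hO : ∀ P : Subgroup Ω, E.IsCentric P →
        (Subgroup.closure {α : ↥(E.autGroup P) | ∃ k : ℕ, orderOf α = p ^ k}).map
          (E.autGroup P).subtype ≤ D.autGroup P := fun P hc => hD.2.1.2 P hc.1
    obtain ⟨α, f₀, hf₀, hf₁α⟩ := frattini p hT E hEsat D hDE hO hf₁
    have hαF : Mor F T (autFun (α : MulAut T)) :=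
      Helper88.subsystem_mor hEF (autFun_mor E le_rfl α.2)
    refine ⟨fun y => a₁ (autFun (α : MulAut T) y), f₀,
      hαF.comp ha₁ (fun x hx => autFun_mem_R _ hx), hf₀, fun x hx => ?_⟩
    rw [hfa x hx, hf₁α x hx]

end Cfsg.Agent.Lib.Helper42.PNorm
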