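import Mathlib
import Cfsg.Agent.Lib.Helper42.PNormA

set_option autoImplicit false
set_option linter.style.haveILetI false

/-!
# Part B: automorphisms of `p`-power order of `E`-centric subgroups extend
-/

namespace Cfsg.Agent.Lib.Helper42.PNorm

open Cfsg Cfsg.FusionSystem Cfsg.Agent.Lib.Helper84 Cfsg.Agent.Lib.Helper84.SatCrit
open Cfsg.Agent.Lib.Helper84.PPrimeRes
open Cfsg.Agent.Lib.Helper88 (Mor extFun extFun_mem extFun_apply img mor_of_hom hom_of_mor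
  mor_conj mor_id)
open Cfsg.Agent.Lib.Helper42.PRes (TC NA si_aut pelt_mem tc_of_centric frSys_isPPrimeResidual)

variable {Ω : Type*} [Group Ω] {S T : Subgroup Ω}

/-- An automorphism of `p`-power order of a fully automized subgroup is conjugate, in the
automizer, to conjugation by an element. -/
theorem sylow_move [Finite T] {p : ℕ} [Fact p.Prime] {E : FusionSystem T} {Q : Subgroup Ω}
    (hfa : E.IsFullyAutomized p Q) {ρ : Ω → Ω} (hρ : Mor E Q ρ) (hmaps : ∀ x ∈ Q, ρ x ∈ Q)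
    (hk : ∃ k : ℕ, ∀ x ∈ Q, ρ^[p ^ k] x = x) :
    ∃ d : Ω → Ω, Mor E Q d ∧ img Q d = Q ∧ ∃ t ∈ T, ∀ x ∈ Q, d (ρ x) = t * d x * t⁻¹ := by
  have hQT : Q ≤ T := hfa.1
  obtain ⟨α, hα, hαf⟩ := hρ.exists_aut hmaps
  obtain ⟨k, hk⟩ := hk
  have hiter : ∀ n : ℕ, ∀ y : Q, (((α ^ n) y : Q) : Ω) = ρ^[n] y := by
    intro n
    induction n with
    | zero => intro y; rfl
    | succ n ih =>
      intro y
      rw [pow_succ']
      show ((α ((α ^ n) y) : Q) : Ω) = _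
      rw [hαf, ih y, Function.iterate_succ_apply']
  have hpowα : α ^ p ^ k = 1 := by
    apply MulEquiv.ext
    intro y
    apply Subtype.ext
    rw [hiter (p ^ k) y, hk _ y.2]
    rfl
  have hpow : (⟨α, hα⟩ : E.autGroup Q) ^ p ^ k = 1 := by
    apply Subtype.ext
    rw [Subgroup.coe_pow, Subgroup.coe_one]
    exact hpowα
  obtain ⟨R₀, hR₀⟩ := Helper88.fa_exists_sylow hfa
  haveI : Finite (E.autGroup Q) := Helper84.finite_autGroup E hQT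
  have hK : IsPGroup p (Subgroup.zpowers (⟨α, hα⟩ : E.autGroup Q)) := by
    rintro ⟨g, hg⟩
    obtain ⟨n, rfl⟩ := Subgroup.mem_zpowers_iff.mp hg
    refine ⟨k, Subtype.ext ?_⟩
    show ((⟨α, hα⟩ : E.autGroup Q) ^ n) ^ p ^ k = 1
    rw [← zpow_natCast, ← zpow_mul, mul_comm, zpow_mul, zpow_natCast, hpow, one_zpow]
  obtain ⟨δ, hδ⟩ := Helper88.sylow_conj_le R₀ _ hK
  have hmem := hδ _ (Subgroup.mem_zpowers (⟨α, hα⟩ : E.autGroup Q))
  obtain ⟨t, ht, htα⟩ := (hR₀ _).mp hmem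
  have hδm : Mor E Q (autFun ((δ⁻¹ : E.autGroup Q) : MulAut Q)) := autFun_mor E hQT (δ⁻¹).2
  refine ⟨_, hδm, Helper84.SatCrit.img_autFun E hQT (δ⁻¹), t, ht, ?_⟩
  intro x hx
  show autFun ((δ⁻¹ : E.autGroup Q) : MulAut Q) (ρ x) =
    t * autFun ((δ⁻¹ : E.autGroup Q) : MulAut Q) x * t⁻¹
  have hy : autFun ((δ⁻¹ : E.autGroup Q) : MulAut Q) x ∈ Q := autFun_mem_R _ hx
  have h1 := htα ⟨_, hy⟩
  rw [← h1]
  show _ = ((((δ⁻¹ : E.autGroup Q) : MulAut Q) (α ((δ : MulAut Q) ⟨_, hy⟩)) : Q) : Ω)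
  have h2 : (δ : MulAut Q) ⟨_, hy⟩ = ⟨x, hx⟩ := by
    apply Subtype.ext
    show (((δ : MulAut Q) ⟨autFun ((δ⁻¹ : E.autGroup Q) : MulAut Q) x, hy⟩ : Q) : Ω) = x
    have h3 : (⟨autFun ((δ⁻¹ : E.autGroup Q) : MulAut Q) x, hy⟩ : Q) =
        ((δ⁻¹ : E.autGroup Q) : MulAut Q) ⟨x, hx⟩ := by
      apply Subtype.ext
      exact autFun_mem _ hx
    rw [h3]
    simp
  rw [h2]
  have h4 : α ⟨x, hx⟩ = ⟨ρ x, hmaps x hx⟩ := by
    apply Subtype.ext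
    rw [hαf]
  rw [h4]
  exact autFun_mem _ (hmaps x hx)

/-- A subgroup of `T` that is fully automized and receptive in `F` is fully normalized in every
subsystem over the strongly closed subgroup `T`. -/
theorem fn_sub [Finite S] {p : ℕ} [Fact p.Prime] (hS : IsPGroup p S) {F : FusionSystem S}
    {E : FusionSystem T} (hEF : E.IsSubsystemOf F) (hTcl : F.StronglyClosed T)
    {Q : Subgroup Ω} (hQT : Q ≤ T) (hfa : F.IsFullyAutomized p Q) (hrec : F.IsReceptive Q) :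
    E.IsFullyNormalized Q := by
  have hTS := hTcl.1
  haveI hfinT : Finite T := Finite.of_injective _ (Subgroup.inclusion_injective hTS)
  refine ⟨hQT, fun X hX => ?_⟩
  obtain ⟨k, hk, himg⟩ := (Helper88.isConj_iff E).mp hX
  obtain ⟨k', hk', himg', -, -⟩ := hk.exists_inv_img himg
  obtain ⟨θ, hθ, hθimg⟩ := Helper88.lemma26a hS hfa hrec (Helper88.subsystem_mor hEF hk') himg'
  have hXT : X ≤ T := hk'.le
  have hXS : X ≤ S := hXT.trans hTS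
  have hle : normalizerIn T X ≤ normalizerIn S X := inf_le_inf_right _ hTS
  have hθ' : Mor F (normalizerIn T X) θ := hθ.res hle
  have hθX : Mor F X θ := hθ.res (le_normalizerIn hXS)
  have hmaps : img (normalizerIn T X) θ ≤ normalizerIn T Q := by
    intro y hy
    obtain ⟨g, hg, rfl⟩ := hθ'.mem_img.mp hy
    have hgT : θ g ∈ T := Helper88.stronglyClosed_mor hTcl inf_le_left hθ' g hg
    refine Helper84.SatCrit.mem_normalizerIn_of_conj hQT hgT ?_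
    intro q hq
    rw [← hθimg] at hq
    obtain ⟨x, hx, rfl⟩ := hθX.mem_img.mp hq
    rw [← Helper84.mor_conj_apply hθ (hle hg) (le_normalizerIn hXS hx), ← hθimg]
    exact hθX.apply_mem_img (Helper84.SatCrit.conj_mem_of_mem_normalizerIn hg hx)
  haveI : Finite (normalizerIn T Q) :=
    Finite.of_injective _ (Subgroup.inclusion_injective (inf_le_left : normalizerIn T Q ≤ T))
  have h2 := Subgroup.card_le_of_le hmaps
  rw [hθ'.card_img] at h2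
  exact h2

/-- An automorphism of `p`-power order in `E` of an `E`-centric subgroup `Q` extends to a map of
`F` on `Q C_S(T)` acting trivially on `C_S(T)` modulo `T`. -/
theorem ext_base [Finite S] {p : ℕ} [Fact p.Prime] (hS : IsPGroup p S) {F : FusionSystem S}
    (hF : F.IsSaturated p) {E : FusionSystem T} (hEsat : E.IsSaturated p)
    (hEinv : E.IsInvariantIn F) {Q : Subgroup Ω} (hc : E.IsCentric Q) {ρ : Ω → Ω}
    (hρ : Mor E Q ρ) (hmaps : ∀ x ∈ Q, ρ x ∈ Q) (hk : ∃ k : ℕ, ∀ x ∈ Q, ρ^[p ^ k] x = x) :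
    Ext F T Q ρ := by
  have hEF := hEinv.1
  have hTcl := hEinv.2.1
  have hTS : T ≤ S := hTcl.1
  haveI hfinT : Finite T := Finite.of_injective _ (Subgroup.inclusion_injective hTS)
  have hT : IsPGroup p T := hS.to_le hTS
  have hQT : Q ≤ T := hc.1
  have hQS : Q ≤ S := hQT.trans hTS
  have htc : TC F T Q := tc_of_centric hEinv hc
  obtain ⟨Q₁, hconj, hfa, hrec⟩ := hF Q hQS
  obtain ⟨ψ, hψ, himg⟩ := (Helper88.isConj_iff F).mp hconj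
  obtain ⟨ψ', hψ', himg', hψ'ψ, hψψ'⟩ := hψ.exists_inv_img himg
  have hψQ : ∀ x ∈ Q, ψ x ∈ Q₁ := fun x hx => by rw [← himg]; exact hψ.apply_mem_img hx
  have hQ₁T : Q₁ ≤ T := by
    intro y hy
    rw [← himg] at hy
    obtain ⟨x, hx, rfl⟩ := hψ.mem_img.mp hy
    exact Helper88.stronglyClosed_mor hTcl hQT hψ x hx
  -- `ρ₁ = ψ ρ ψ⁻¹` on `Q₁` is a map of `E`
  have hρ₁ : Mor E Q₁ (fun y => ψ (ρ (ψ' y))) := by
    refine si_aut hEinv hQ₁T hψ' (by rw [himg']; exact hρ) ?_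
    intro y hy
    have h1 := hψψ' y hy
    exact ⟨hψQ _ (hmaps _ h1.1), hψ'ψ _ (hmaps _ h1.1)⟩
  have hρ₁maps : ∀ y ∈ Q₁, ψ (ρ (ψ' y)) ∈ Q₁ := fun y hy => hψQ _ (hmaps _ (hψψ' y hy).1)
  have hρ₁k : ∃ k : ℕ, ∀ y ∈ Q₁, (fun y => ψ (ρ (ψ' y)))^[p ^ k] y = y := by
    obtain ⟨k, hk⟩ := hk
    refine ⟨k, fun y hy => ?_⟩
    have hiter : ∀ n : ℕ, ∀ y ∈ Q₁, (fun y => ψ (ρ (ψ' y)))^[n] y = ψ (ρ^[n] (ψ' y)) := by
      intro n
      induction n with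
      | zero => intro y hy; exact ((hψψ' y hy).2).symm
      | succ n ih =>
        intro y hy
        rw [Function.iterate_succ_apply', ih y hy]
        show ψ (ρ (ψ' (ψ (ρ^[n] (ψ' y))))) = ψ (ρ^[n + 1] (ψ' y))
        rw [hψ'ψ _ (iterate_mem hmaps n _ (hψψ' y hy).1), Function.iterate_succ_apply']
    rw [hiter _ y hy, hk _ (hψψ' y hy).1, (hψψ' y hy).2]
  -- `Q₁` is fully automized in `E`
  have hfn : E.IsFullyNormalized Q₁ := fn_sub hS hEF hTcl hQ₁T hfa hrec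
  have hfaE : E.IsFullyAutomized p Q₁ :=
    Helper84.SatCrit.fa_of_fn_local p hT E (hEsat Q₁ hQ₁T) hfn
  obtain ⟨d, hd, hdimg, t, ht, hdt⟩ := sylow_move hfaE hρ₁ hρ₁maps hρ₁k
  have hdF : Mor F Q₁ d := Helper88.subsystem_mor hEF hd
  have hχ : Mor F Q (fun x => d (ψ x)) := hψ.comp hdF hψQ
  have hχimg : img Q (fun x => d (ψ x)) = Q₁ := by
    rw [Helper88.img_comp hψ hdF hψQ, himg]; exact hdimg
  have hχρ : ∀ x ∈ Q, d (ψ (ρ x)) = t * d (ψ x) * t⁻¹ := by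
    intro x hx
    have h1 : d (ψ (ρ (ψ' (ψ x)))) = t * d (ψ x) * t⁻¹ := hdt (ψ x) (hψQ x hx)
    rw [hψ'ψ x hx] at h1
    exact h1
  have htS : t ∈ S := hTS ht
  have hχQ₁ : ∀ x ∈ Q, d (ψ x) ∈ Q₁ := fun x hx => by
    have := hχ.apply_mem_img hx
    rw [hχimg] at this
    exact this
  have hQ₁mem : ∀ y ∈ Q₁, ∃ x ∈ Q, d (ψ x) = y := by
    intro y hy
    rw [← hχimg] at hy
    exact hχ.mem_img.mp hy
  have htQ₁ : ∀ y ∈ Q₁, t * y * t⁻¹ ∈ Q₁ := by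
    intro y hy
    obtain ⟨x, hx, rfl⟩ := hQ₁mem y hy
    rw [← hχρ x hx]
    exact hχQ₁ _ (hmaps x hx)
  have htN : t ∈ normalizerIn T Q₁ := Helper84.SatCrit.mem_normalizerIn_of_conj hQ₁T ht htQ₁
  have htQ₁' : ∀ y ∈ Q₁, t⁻¹ * y * t ∈ Q₁ := by
    intro y hy
    have h1 := (Subgroup.mem_normalizer_iff.mp (Subgroup.inv_mem _ htN.2) y).mp hy
    rw [inv_inv] at h1
    exact h1
  -- extension of `χ` to `Q C_S(T)`
  have hcond : ∀ g ∈ Q ⊔ centralizerIn S T, g ∈ S ∧ g ∈ Subgroup.normalizer (Q : Set Ω) ∧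
      ∃ h' ∈ S, ∀ x ∈ Q, d (ψ (g * x * g⁻¹)) = h' * d (ψ x) * h'⁻¹ := by
    intro g hg
    obtain ⟨q, hq, c, hc', rfl⟩ := sup_decomp hQT g hg
    have hcS : c ∈ S := hc'.1
    have hconj : ∀ x ∈ Q, q * c * x * (q * c)⁻¹ = q * x * q⁻¹ := by
      intro x hx
      have hxc : x * c = c * x := (Helper88.mem_centralizerIn.mp hc').2 x (hQT hx)
      calc q * c * x * (q * c)⁻¹ = q * (c * x) * c⁻¹ * q⁻¹ := by group
        _ = q * (x * c) * c⁻¹ * q⁻¹ := by rw [hxc]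
        _ = q * x * q⁻¹ := by group
    have hgS : q * c ∈ S := S.mul_mem (hQS hq) hcS
    have hN : q * c ∈ normalizerIn S Q :=
      Helper84.SatCrit.mem_normalizerIn_of_conj hQS hgS (fun x hx => by
        rw [hconj x hx]; exact Q.mul_mem (Q.mul_mem hq hx) (Q.inv_mem hq))
    refine ⟨hgS, hN.2, d (ψ q), hχ.mem_S hq, fun x hx => ?_⟩
    rw [hconj x hx]
    exact Helper84.mor_conj_apply hχ hq hx
  obtain ⟨χ₂, hχ₂, hχ₂e⟩ := Helper88.receptive_extend hrec hχ hχimg hcond le_sup_left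
  have hWS : img (Q ⊔ centralizerIn S T) χ₂ ≤ S := hχ₂.img_le
  -- the key computation
  have hkey : ∀ c ∈ centralizerIn S T, ∃ z₀ ∈ Q, t * χ₂ c * t⁻¹ = χ₂ (c * z₀) := by
    intro c hc'
    have hcU : c ∈ Q ⊔ centralizerIn S T := Subgroup.mem_sup_right hc'
    have hχcS : χ₂ c ∈ S := hχ₂.mem_S hcU
    have hconjT : (χ₂ c)⁻¹ * t * ((χ₂ c)⁻¹)⁻¹ ∈ T :=
      Helper88.stronglyClosed_mor hTcl le_rfl (mor_conj F hTS (S.inv_mem hχcS)) t ht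
    have hcomT : (χ₂ c)⁻¹ * (t * χ₂ c * t⁻¹) ∈ T := by
      have e : (χ₂ c)⁻¹ * (t * χ₂ c * t⁻¹) = ((χ₂ c)⁻¹ * t * ((χ₂ c)⁻¹)⁻¹) * t⁻¹ := by group
      rw [e]; exact T.mul_mem hconjT (T.inv_mem ht)
    have hcen1 : ∀ y ∈ Q₁, y * χ₂ c = χ₂ c * y := by
      intro y hy
      obtain ⟨x, hx, rfl⟩ := hQ₁mem y hy
      have hxc : x * c = c * x := (Helper88.mem_centralizerIn.mp hc').2 x (hQT hx)
      rw [← hχ₂e x hx, ← hχ₂.map_mul (Subgroup.mem_sup_left hx) hcU,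
        ← hχ₂.map_mul hcU (Subgroup.mem_sup_left hx), hxc]
    have hcom : (χ₂ c)⁻¹ * (t * χ₂ c * t⁻¹) ∈ centralizerIn T (img Q (fun x => d (ψ x))) := by
      rw [Helper88.mem_centralizerIn, hχimg]
      refine ⟨hcomT, fun y hy => ?_⟩
      have h1 := hcen1 _ (htQ₁' y hy)
      have h2 := hcen1 y hy
      calc y * ((χ₂ c)⁻¹ * (t * χ₂ c * t⁻¹))
          = (χ₂ c)⁻¹ * (χ₂ c * y) * (χ₂ c)⁻¹ * (t * χ₂ c * t⁻¹) := by group
        _ = (χ₂ c)⁻¹ * (y * χ₂ c) * (χ₂ c)⁻¹ * (t * χ₂ c * t⁻¹) := by rw [h2]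
        _ = (χ₂ c)⁻¹ * t * ((t⁻¹ * y * t) * χ₂ c) * t⁻¹ := by group
        _ = (χ₂ c)⁻¹ * t * (χ₂ c * (t⁻¹ * y * t)) * t⁻¹ := by rw [h1]
        _ = (χ₂ c)⁻¹ * (t * χ₂ c * t⁻¹) * y := by group
    have hin := htc _ hχ hcom
    obtain ⟨z₀, hz₀, hz₀e⟩ := hχ.mem_img.mp hin
    refine ⟨z₀, hz₀, ?_⟩
    have hz₀e' : d (ψ z₀) = (χ₂ c)⁻¹ * (t * χ₂ c * t⁻¹) := hz₀e
    rw [hχ₂.map_mul hcU (Subgroup.mem_sup_left hz₀), hχ₂e z₀ hz₀, hz₀e']
    group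
  obtain ⟨χ₂', hχ₂', hχ₂'χ⟩ := hχ₂.exists_inv
  have hconjW : ∀ w ∈ img (Q ⊔ centralizerIn S T) χ₂,
      t * w * t⁻¹ ∈ img (Q ⊔ centralizerIn S T) χ₂ := by
    intro w hw
    obtain ⟨y, hy, rfl⟩ := hχ₂.mem_img.mp hw
    obtain ⟨x, hx, c, hc', rfl⟩ := sup_decomp hQT y hy
    obtain ⟨z₀, hz₀, hz₀e⟩ := hkey c hc'
    have e : t * χ₂ (x * c) * t⁻¹ = χ₂ (ρ x) * χ₂ (c * z₀) := by
      rw [hχ₂.map_mul (Subgroup.mem_sup_left hx) (Subgroup.mem_sup_right hc'),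
        hχ₂e (ρ x) (hmaps x hx), hχρ x hx, ← hz₀e, hχ₂e x hx]
      group
    rw [e]
    exact Subgroup.mul_mem _ (hχ₂.apply_mem_img (Subgroup.mem_sup_left (hmaps x hx)))
      (hχ₂.apply_mem_img (Subgroup.mul_mem _ (Subgroup.mem_sup_right hc')
        (Subgroup.mem_sup_left hz₀)))
  have hρ₂ : Mor F (Q ⊔ centralizerIn S T) (fun y => χ₂' (t * χ₂ y * t⁻¹)) :=
    (hχ₂.comp (mor_conj F hWS htS) (fun y hy => hχ₂.apply_mem_img hy)).comp hχ₂'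
      (fun y hy => hconjW _ (hχ₂.apply_mem_img hy))
  refine ⟨hQT, _, hρ₂, ?_, ?_⟩
  · intro x hx
    show χ₂' (t * χ₂ x * t⁻¹) = ρ x
    rw [hχ₂e x hx, ← hχρ x hx, ← hχ₂e _ (hmaps x hx),
      hχ₂'χ _ (Subgroup.mem_sup_left (hmaps x hx))]
  · intro c hc'
    obtain ⟨z₀, hz₀, hz₀e⟩ := hkey c hc'
    show c⁻¹ * χ₂' (t * χ₂ c * t⁻¹) ∈ T
    rw [hz₀e, hχ₂'χ _ (Subgroup.mul_mem _ (Subgroup.mem_sup_right hc')
      (Subgroup.mem_sup_left hz₀))]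
    have e : c⁻¹ * (c * z₀) = z₀ := by group
    rw [e]; exact hQT hz₀

end Cfsg.Agent.Lib.Helper42.PNorm
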