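import Mathlib
import Cfsg.Agent.Lib.Helper42.PResD
import Cfsg.Agent.Lib.Helper42.PNormB

set_option autoImplicit false
set_option linter.style.haveILetI false

/-!
# Subsystems of index prime to `p` attached to a `p'`-quotient of `Aut_F(T)`.  Part A

`E` is an invariant subsystem of `F` over `T`, and `χ` is a homomorphism from `Aut_F(T)` to a
group of order prime to `p` which is trivial on `Aut_E(T)`.  `KE Q f`: the map `f` on `Q ≤ T` is
an element of the kernel of `χ` composed with a map of `E`.  Maps of `p`-power order and the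
`G0`-maps of `F` restrict to such maps.
-/

namespace Cfsg.Agent.Lib.Helper42.PChi

open Cfsg Cfsg.FusionSystem Cfsg.Agent.Lib.Helper84 Cfsg.Agent.Lib.Helper84.SatCrit
open Cfsg.Agent.Lib.Helper84.PPrimeRes
open Cfsg.Agent.Lib.Helper88 (Mor extFun extFun_mem extFun_apply img mor_of_hom hom_of_mor
  mor_conj mor_id)
open Cfsg.Agent.Lib.Helper42.PRes

variable {Ω : Type*} [Group Ω] {S T : Subgroup Ω} {Δ : Type*} [Group Δ]

/-- an element of a group of order prime to `p` killed by a power of `p` is trivial. -/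
theorem pow_p_eq_one [Finite Δ] {p : ℕ} (hΔ : (Nat.card Δ).Coprime p) {x : Δ} {k : ℕ}
    (hx : x ^ p ^ k = 1) : x = 1 := by
  have h1 : orderOf x ∣ p ^ k := orderOf_dvd_of_pow_eq_one hx
  have h2 : orderOf x ∣ Nat.card Δ := orderOf_dvd_natCard x
  have h3 : orderOf x ∣ Nat.gcd (Nat.card Δ) (p ^ k) := Nat.dvd_gcd h2 h1
  have h4 : Nat.gcd (Nat.card Δ) (p ^ k) = 1 := Nat.Coprime.pow_right k hΔ
  rw [h4] at h3
  exact orderOf_eq_one_iff.1 (Nat.dvd_one.1 h3)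

/-- conjugation by an element of `S` on `T` is in the kernel of `χ`. -/
theorem chi_conj [Finite Δ] {p : ℕ} (hS : IsPGroup p S) {F : FusionSystem S}
    (χ : ↥(F.autGroup T) →* Δ) (hΔ : (Nat.card Δ).Coprime p) {t : Ω} (ht : t ∈ S)
    (α : F.autGroup T) (hα : ∀ x : T, (((α : MulAut T) x : T) : Ω) = t * x * t⁻¹) : χ α = 1 := by
  obtain ⟨k, hk⟩ := hS ⟨t, ht⟩
  have htk : t ^ p ^ k = 1 := by
    have h1 : (((⟨t, ht⟩ : S) ^ p ^ k : S) : Ω) = ((1 : S) : Ω) := congrArg Subtype.val hk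
    rw [Subgroup.coe_pow, Subgroup.coe_one] at h1
    exact h1
  have hiter : ∀ n : ℕ, ∀ x : T, ((((α : MulAut T) ^ n) x : T) : Ω) = t ^ n * x * (t ^ n)⁻¹ := by
    intro n
    induction n with
    | zero => intro x; simp
    | succ n ih =>
      intro x
      rw [pow_succ']
      show (((α : MulAut T) (((α : MulAut T) ^ n) x) : T) : Ω) = _
      rw [hα, ih x, pow_succ']
      group
  have hpow : α ^ p ^ k = 1 := by
    apply Subtype.ext
    rw [Subgroup.coe_pow, Subgroup.coe_one]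
    apply MulEquiv.ext
    intro x
    apply Subtype.ext
    rw [hiter (p ^ k) x, htk]
    simp
  have h2 : χ α ^ p ^ k = 1 := by rw [← map_pow, hpow, map_one]
  exact pow_p_eq_one hΔ h2

/-- `f` on `Q` is an element of the kernel of `χ` composed with a map of `E`. -/
def KE (F : FusionSystem S) (E : FusionSystem T) (χ : ↥(F.autGroup T) →* Δ) (Q : Subgroup Ω)
    (f : Ω → Ω) : Prop :=
  ∃ β : F.autGroup T, χ β = 1 ∧ ∃ e, Mor E Q e ∧ ∀ x ∈ Q, f x = autFun (β : MulAut T) (e x)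

namespace KE

variable {F : FusionSystem S} {E : FusionSystem T} {χ : ↥(F.autGroup T) →* Δ}
  {P Q : Subgroup Ω} {f g : Ω → Ω}

theorem congr (h : KE F E χ Q f) (hfg : ∀ x ∈ Q, g x = f x) : KE F E χ Q g := by
  obtain ⟨β, hβ, e, he, hf⟩ := h
  exact ⟨β, hβ, e, he, fun x hx => (hfg x hx).trans (hf x hx)⟩

theorem res (h : KE F E χ Q f) (hPQ : P ≤ Q) : KE F E χ P f := by
  obtain ⟨β, hβ, e, he, hf⟩ := h
  exact ⟨β, hβ, e, he.res hPQ, fun x hx => hf x (hPQ hx)⟩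

theorem of_mor (he : Mor E Q f) : KE F E χ Q f :=
  ⟨1, map_one χ, f, he, fun x hx => (autFun_one (he.mem_S hx)).symm⟩

theorem of_ker (β : F.autGroup T) (hβ : χ β = 1) (hQT : Q ≤ T) :
    KE F E χ Q (autFun (β : MulAut T)) :=
  ⟨β, hβ, fun x => x, mor_id E hQT, fun _ _ => rfl⟩

theorem comp [Finite S] (hEinv : E.IsInvariantIn F) (h₁ : KE F E χ P f) (h₂ : KE F E χ Q g)
    (hPQ : ∀ x ∈ P, f x ∈ Q) : KE F E χ P (fun x => g (f x)) := by
  obtain ⟨β₁, hβ₁, e₁, he₁, hf⟩ := h₁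
  obtain ⟨β₂, hβ₂, e₂, he₂, hg⟩ := h₂
  have hTS : T ≤ S := hEinv.2.1.1
  have hQT : Q ≤ T := he₂.le
  have hb : Mor F T (autFun ((β₁ : MulAut T)⁻¹)) := autFun_mor F hTS (β₁⁻¹).2
  have h3 : Mor E (img Q (autFun ((β₁ : MulAut T)⁻¹)))
      (fun y => autFun ((β₁ : MulAut T)⁻¹) (e₂ (autFun (β₁ : MulAut T) y))) :=
    Helper88.invariant_conj hEinv hQT he₂ hb (fun x hx => autFun_inv' _ hx)
  have he₁T : ∀ x ∈ P, e₁ x ∈ T := fun x hx => he₁.mem_S hx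
  have hle : img P e₁ ≤ img Q (autFun ((β₁ : MulAut T)⁻¹)) := by
    intro y hy
    obtain ⟨x, hx, rfl⟩ := he₁.mem_img.1 hy
    have h4 : autFun ((β₁ : MulAut T)⁻¹) (f x) ∈ img Q (autFun ((β₁ : MulAut T)⁻¹)) :=
      (hb.res hQT).apply_mem_img (hPQ x hx)
    rw [hf x hx, autFun_inv _ (he₁T x hx)] at h4
    exact h4
  have h5 : Mor E P
      (fun x => autFun ((β₁ : MulAut T)⁻¹) (e₂ (autFun (β₁ : MulAut T) (e₁ x)))) :=
    he₁.comp (h3.res hle) (fun x hx => he₁.apply_mem_img hx)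
  refine ⟨β₂ * β₁, by rw [map_mul, hβ₂, hβ₁, one_mul], _, h5, fun x hx => ?_⟩
  have hfx : f x = autFun (β₁ : MulAut T) (e₁ x) := hf x hx
  have hfxQ : autFun (β₁ : MulAut T) (e₁ x) ∈ Q := by rw [← hfx]; exact hPQ x hx
  have he₂T : e₂ (autFun (β₁ : MulAut T) (e₁ x)) ∈ T := he₂.mem_S hfxQ
  show g (f x) = autFun ((β₂ : MulAut T) * (β₁ : MulAut T))
    (autFun ((β₁ : MulAut T)⁻¹) (e₂ (autFun (β₁ : MulAut T) (e₁ x))))
  rw [autFun_mul _ _ (autFun_mem_R _ he₂T), autFun_inv' _ he₂T, hfx, hg _ hfxQ]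

/-- on `T` itself such a map is an element of the kernel. -/
theorem aut [Finite S] (hTS : T ≤ S) (hEF : E.IsSubsystemOf F)
    (hker : (E.autGroup T).subgroupOf (F.autGroup T) ≤ χ.ker) (h : KE F E χ T f) :
    ∃ β : F.autGroup T, χ β = 1 ∧ ∀ x ∈ T, f x = autFun (β : MulAut T) x := by
  obtain ⟨β, hβ, e, he, hf⟩ := h
  haveI : Finite T := Finite.of_injective _ (Subgroup.inclusion_injective hTS)
  obtain ⟨ε, hε, hεx⟩ := he.exists_aut (fun x hx => he.mem_S hx)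
  have hle : E.autGroup T ≤ F.autGroup T := by
    unfold FusionSystem.autGroup
    exact Subgroup.closure_mono (fun α hα => hEF T hα)
  have hχ : χ ⟨ε, hle hε⟩ = 1 :=
    MonoidHom.mem_ker.1 (hker (Subgroup.mem_subgroupOf.2 hε))
  refine ⟨β * ⟨ε, hle hε⟩, by rw [map_mul, hβ, hχ, one_mul], fun x hx => ?_⟩
  show f x = autFun ((β : MulAut T) * ε) x
  rw [autFun_mul _ _ hx, autFun_mem ε hx, hεx ⟨x, hx⟩]
  exact hf x hx

end KE

/-- an automorphism of `p`-power order of a subgroup is conjugate in the system to a conjugation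
by an element of `S`. -/
theorem ppow_conj [Finite S] {p : ℕ} [Fact p.Prime] {F : FusionSystem S} (hF : F.IsSaturated p)
    {Q : Subgroup Ω} {ρ : Ω → Ω} (hρ : Mor F Q ρ) (hmaps : ∀ x ∈ Q, ρ x ∈ Q)
    (hk : ∃ k : ℕ, ∀ x ∈ Q, ρ^[p ^ k] x = x) :
    ∃ ζ, Mor F Q ζ ∧ ∃ t ∈ S, ∀ x ∈ Q, ζ (ρ x) = t * ζ x * t⁻¹ := by
  obtain ⟨Q', hconj, hfa, -⟩ := hF Q hρ.le
  obtain ⟨γ, hγ, himg⟩ := (Helper88.isConj_iff F).1 hconj
  obtain ⟨γ', hγ', -, hγ'γ, hγγ'⟩ := hγ.exists_inv_img himg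
  have hγQ : ∀ x ∈ Q, γ x ∈ Q' := fun x hx => by rw [← himg]; exact hγ.apply_mem_img hx
  have hρ' : Mor F Q' (fun y => γ (ρ (γ' y))) :=
    (hγ'.comp hρ (fun y hy => (hγγ' y hy).1)).comp hγ (fun y hy => hmaps _ (hγγ' y hy).1)
  have hmaps' : ∀ y ∈ Q', γ (ρ (γ' y)) ∈ Q' := fun y hy => hγQ _ (hmaps _ (hγγ' y hy).1)
  obtain ⟨k, hk⟩ := hk
  have hiterQ : ∀ n : ℕ, ∀ x ∈ Q, ρ^[n] x ∈ Q := fun n => iterate_mem hmaps n
  have hiter : ∀ n : ℕ, ∀ y ∈ Q', (fun y => γ (ρ (γ' y)))^[n] y = γ (ρ^[n] (γ' y)) := by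
    intro n
    induction n with
    | zero => intro y hy; exact ((hγγ' y hy).2).symm
    | succ n ih =>
      intro y hy
      rw [Function.iterate_succ_apply', ih y hy]
      show γ (ρ (γ' (γ (ρ^[n] (γ' y))))) = γ (ρ^[n + 1] (γ' y))
      rw [hγ'γ _ (hiterQ n _ (hγγ' y hy).1), Function.iterate_succ_apply']
  obtain ⟨d, hd, -, t, ht, hdt⟩ := PNorm.sylow_move hfa hρ' hmaps'
    ⟨k, fun y hy => by rw [hiter (p ^ k) y hy, hk _ (hγγ' y hy).1]; exact (hγγ' y hy).2⟩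
  refine ⟨fun x => d (γ x), hγ.comp hd hγQ, t, ht, fun x hx => ?_⟩
  have h1 := hdt (γ x) (hγQ x hx)
  rw [hγ'γ x hx] at h1
  exact h1

/-- automorphisms of `p`-power order of subgroups of `T` are `KE`-maps. -/
theorem pke [Finite S] [Finite Δ] {p : ℕ} [Fact p.Prime] (hS : IsPGroup p S)
    {F : FusionSystem S} (hF : F.IsSaturated p) {E : FusionSystem T} (hEinv : E.IsInvariantIn F)
    (χ : ↥(F.autGroup T) →* Δ) (hΔ : (Nat.card Δ).Coprime p) {Q : Subgroup Ω} (hQT : Q ≤ T)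
    {ρ : Ω → Ω} (hρ : Mor F Q ρ) (hmaps : ∀ x ∈ Q, ρ x ∈ Q)
    (hk : ∃ k : ℕ, ∀ x ∈ Q, ρ^[p ^ k] x = x) : KE F E χ Q ρ := by
  have hTcl := hEinv.2.1
  have hTS : T ≤ S := hTcl.1
  obtain ⟨ζ, hζ, t, ht, hζt⟩ := ppow_conj hF hρ hmaps hk
  obtain ⟨a, f₀, ha, hf₀, hζa⟩ := Helper88.invariant_frattini hEinv hQT hζ
  obtain ⟨a', ha', haT, ha'T, ha'a, haa'⟩ := Helper88.aut_inverse hTcl ha
  obtain ⟨αa, hαa, hαax⟩ := ha.exists_aut haT
  have htT : ∀ x ∈ T, t * x * t⁻¹ ∈ T :=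
    Helper88.stronglyClosed_mor hTcl le_rfl (mor_conj F hTS ht)
  obtain ⟨γt, hγt, hγtx⟩ := (mor_conj F hTS ht).exists_aut htT
  have hχt : χ ⟨γt, hγt⟩ = 1 := chi_conj hS χ hΔ ht ⟨γt, hγt⟩ hγtx
  have hχκ : χ ((⟨αa, hαa⟩ : F.autGroup T)⁻¹ * ⟨γt, hγt⟩ * ⟨αa, hαa⟩) = 1 := by
    rw [map_mul, map_mul, hχt, map_inv, mul_one, inv_mul_cancel]
  have hf₀T : ∀ x ∈ Q, f₀ x ∈ T := fun x hx => hf₀.mem_S hx
  have key : ∀ x ∈ Q, autFun (αa⁻¹ * γt * αa) (f₀ x) = f₀ (ρ x) := by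
    intro x hx
    have h1 : autFun αa (f₀ x) = a (f₀ x) := by
      rw [autFun_mem αa (hf₀T x hx)]; exact hαax ⟨_, hf₀T x hx⟩
    have h2 : autFun γt (a (f₀ x)) = t * a (f₀ x) * t⁻¹ := by
      rw [autFun_mem γt (haT _ (hf₀T x hx))]; exact hγtx ⟨_, haT _ (hf₀T x hx)⟩
    have h3 : autFun αa (f₀ (ρ x)) = a (f₀ (ρ x)) := by
      rw [autFun_mem αa (hf₀T _ (hmaps x hx))]; exact hαax ⟨_, hf₀T _ (hmaps x hx)⟩
    have h4 : t * a (f₀ x) * t⁻¹ = autFun αa (f₀ (ρ x)) := by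
      rw [h3, ← hζa x hx, ← hζa _ (hmaps x hx), hζt x hx]
    rw [autFun_mul _ _ (hf₀T x hx), autFun_mul _ _ (autFun_mem_R _ (hf₀T x hx)), h1, h2, h4,
      autFun_inv _ (hf₀T _ (hmaps x hx))]
  obtain ⟨f₀', hf₀', hf₀'f⟩ := hf₀.exists_inv
  have h1 : KE F E χ Q f₀ := KE.of_mor hf₀
  have h2 : KE F E χ (img Q f₀)
      (autFun (((⟨αa, hαa⟩ : F.autGroup T)⁻¹ * ⟨γt, hγt⟩ * ⟨αa, hαa⟩ : F.autGroup T) :
        MulAut T)) := KE.of_ker _ hχκ hf₀.img_le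
  have h12 := KE.comp hEinv h1 h2 (fun x hx => hf₀.apply_mem_img hx)
  have h3 : KE F E χ (img Q f₀) f₀' := KE.of_mor hf₀'
  have h123 := KE.comp hEinv h12 h3 (fun x hx => by
    show autFun (αa⁻¹ * γt * αa) (f₀ x) ∈ img Q f₀
    rw [key x hx]; exact hf₀.apply_mem_img (hmaps x hx))
  refine h123.congr (fun x hx => ?_)
  show ρ x = f₀' (autFun (αa⁻¹ * γt * αa) (f₀ x))
  rw [key x hx, hf₀'f _ (hmaps x hx)]

/-- `G0`-maps of `F` restrict to `KE`-maps on the intersection with `T`. -/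
theorem g0_ke [Finite S] [Finite Δ] {p : ℕ} [Fact p.Prime] (hS : IsPGroup p S)
    {F : FusionSystem S} (hF : F.IsSaturated p) {E : FusionSystem T} (hEinv : E.IsInvariantIn F)
    (χ : ↥(F.autGroup T) →* Δ) (hΔ : (Nat.card Δ).Coprime p) {P : Subgroup Ω} {f : Ω → Ω}
    (h : G0 F p P f) : KE F E χ (P ⊓ T) f := by
  have hTcl := hEinv.2.1
  induction h with
  | base R P f₁ f hc hPR hf₁ hmaps hk hff =>
    obtain ⟨k, hk⟩ := hk
    have hf₁' : Mor F (R ⊓ T) f₁ := hf₁.res inf_le_left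
    have hT := Helper88.stronglyClosed_mor hTcl inf_le_right hf₁'
    have h1 : KE F E χ (R ⊓ T) f₁ := pke hS hF hEinv χ hΔ inf_le_right hf₁'
      (fun x hx => ⟨hmaps x hx.1, hT x hx⟩) ⟨k, fun x hx => hk x hx.1⟩
    exact (h1.res (inf_le_inf_right T hPR)).congr (fun x hx => hff x hx.1)
  | comp P f g h hf hg hh ihf ihg =>
    have hf' : Mor F (P ⊓ T) f := hf.mor.res inf_le_left
    have hT := Helper88.stronglyClosed_mor hTcl inf_le_right hf'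
    exact (KE.comp hEinv ihf ihg
      (fun x hx => ⟨hf.mor.apply_mem_img hx.1, hT x hx⟩)).congr (fun x hx => hh x hx.1)

end Cfsg.Agent.Lib.Helper42.PChi
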