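import Mathlib
import Cfsg.Agent.Lib.Helper42.PChiA

set_option autoImplicit false
set_option linter.style.haveILetI false

/-!
# Part B: the subgroup of `Aut_F(S)` of the automorphisms restricting into the kernel of `χ`.
-/

namespace Cfsg.Agent.Lib.Helper42.PChi

open Cfsg Cfsg.FusionSystem Cfsg.Agent.Lib.Helper84 Cfsg.Agent.Lib.Helper84.SatCrit
open Cfsg.Agent.Lib.Helper84.PPrimeRes
open Cfsg.Agent.Lib.Helper88 (Mor extFun extFun_mem extFun_apply img mor_of_hom hom_of_mor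
  mor_conj mor_id)
open Cfsg.Agent.Lib.Helper42.PRes

variable {Ω : Type*} [Group Ω] {S T : Subgroup Ω} {Δ : Type*} [Group Δ]

/-- `β` is the restriction of `a` to `T`. -/
def IsRes (a : MulAut S) (β : MulAut T) : Prop := ∀ t ∈ T, autFun β t = autFun a t

theorem isRes_one (hTS : T ≤ S) : IsRes (1 : MulAut S) (1 : MulAut T) := by
  intro t ht
  rw [autFun_one ht, autFun_one (hTS ht)]

theorem IsRes.mul (hTS : T ≤ S) {a b : MulAut S} {β γ : MulAut T} (h₁ : IsRes a β)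
    (h₂ : IsRes b γ) : IsRes (a * b) (β * γ) := by
  intro t ht
  rw [autFun_mul _ _ ht, h₁ _ (autFun_mem_R _ ht), h₂ t ht, autFun_mul _ _ (hTS ht)]

theorem IsRes.inv (hTS : T ≤ S) {a : MulAut S} {β : MulAut T} (h : IsRes a β) :
    IsRes a⁻¹ β⁻¹ := by
  intro t ht
  have hu : autFun β⁻¹ t ∈ T := autFun_mem_R _ ht
  have h1 := h _ hu
  rw [autFun_inv' β ht] at h1
  have h2 := autFun_inv a (hTS hu)
  rw [← h1] at h2
  exact h2.symm

theorem IsRes.unique {a : MulAut S} {β β' : MulAut T} (h : IsRes a β) (h' : IsRes a β') :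
    β = β' := by
  apply MulEquiv.ext
  intro x
  apply Subtype.ext
  rw [← autFun_mem β x.2, ← autFun_mem β' x.2, h _ x.2, h' _ x.2]

theorem exists_res [Finite S] {F : FusionSystem S} (hTcl : F.StronglyClosed T)
    (a : F.autGroup S) : ∃ β : F.autGroup T, IsRes (a : MulAut S) (β : MulAut T) := by
  have hTS : T ≤ S := hTcl.1
  have hm : Mor F T (autFun (a : MulAut S)) := (autFun_mor F le_rfl a.2).res hTS
  obtain ⟨β, hβ, hβx⟩ := hm.exists_aut (Helper88.stronglyClosed_mor hTcl le_rfl hm)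
  refine ⟨⟨β, hβ⟩, fun t ht => ?_⟩
  show autFun β t = _
  rw [autFun_mem β ht]
  exact hβx ⟨t, ht⟩

/-- the automorphisms of `S` in `F` whose restriction to `T` lies in the kernel of `χ`. -/
def AK (F : FusionSystem S) (hTS : T ≤ S) (χ : ↥(F.autGroup T) →* Δ) :
    Subgroup (F.autGroup S) where
  carrier := {a | ∃ β : F.autGroup T, χ β = 1 ∧ IsRes (a : MulAut S) (β : MulAut T)}
  mul_mem' := by
    rintro a b ⟨β, hβ, h₁⟩ ⟨γ, hγ, h₂⟩
    exact ⟨β * γ, by rw [map_mul, hβ, hγ, one_mul], h₁.mul hTS h₂⟩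
  one_mem' := ⟨1, map_one χ, isRes_one hTS⟩
  inv_mem' := by
    rintro a ⟨β, hβ, h⟩
    exact ⟨β⁻¹, by rw [map_inv, hβ, inv_one], h.inv hTS⟩

theorem mem_AK {F : FusionSystem S} {hTS : T ≤ S} {χ : ↥(F.autGroup T) →* Δ}
    {a : F.autGroup S} : a ∈ AK F hTS χ ↔
      ∃ β : F.autGroup T, χ β = 1 ∧ IsRes (a : MulAut S) (β : MulAut T) := Iff.rfl

theorem mem_AK_of_res {F : FusionSystem S} {hTS : T ≤ S} {χ : ↥(F.autGroup T) →* Δ}
    {a : F.autGroup S} {β : F.autGroup T} (h : IsRes (a : MulAut S) (β : MulAut T)) :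
    a ∈ AK F hTS χ ↔ χ β = 1 := by
  constructor
  · rintro ⟨β', hβ', h'⟩
    have e : β = β' := Subtype.ext (h.unique h')
    rw [e]; exact hβ'
  · intro hβ
    exact ⟨β, hβ, h⟩

theorem AK_inner [Finite S] [Finite Δ] {p : ℕ} (hS : IsPGroup p S) {F : FusionSystem S}
    (hTcl : F.StronglyClosed T) (χ : ↥(F.autGroup T) →* Δ) (hΔ : (Nat.card Δ).Coprime p) :
    ∀ g ∈ S, ∃ a ∈ AK F hTcl.1 χ,
      ∀ x ∈ S, autFun ((a : F.autGroup S) : MulAut S) x = g * x * g⁻¹ := by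
  intro g hg
  have hc : Mor F S (fun x => g * x * g⁻¹) := mor_conj F le_rfl hg
  have hmaps : ∀ x ∈ S, g * x * g⁻¹ ∈ S := fun x hx => S.mul_mem (S.mul_mem hg hx) (S.inv_mem hg)
  obtain ⟨α, hα, hαx⟩ := hc.exists_aut hmaps
  have hax : ∀ x ∈ S, autFun α x = g * x * g⁻¹ := fun x hx => by
    rw [autFun_mem α hx]; exact hαx ⟨x, hx⟩
  obtain ⟨β, hres⟩ := exists_res hTcl ⟨α, hα⟩
  refine ⟨⟨α, hα⟩, ⟨β, chi_conj hS χ hΔ hg β (fun x => ?_), hres⟩, hax⟩
  rw [← autFun_mem (β : MulAut T) x.2, hres _ x.2]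
  exact hax _ (hTcl.1 x.2)

theorem AK_conj [Finite S] {F : FusionSystem S} (hTcl : F.StronglyClosed T)
    (χ : ↥(F.autGroup T) →* Δ) (ν : F.autGroup S) {a : F.autGroup S}
    (ha : a ∈ AK F hTcl.1 χ) : ν * a * ν⁻¹ ∈ AK F hTcl.1 χ := by
  obtain ⟨βν, hν⟩ := exists_res hTcl ν
  obtain ⟨β, hβ, h⟩ := ha
  refine ⟨βν * β * βν⁻¹, ?_, (hν.mul hTcl.1 h).mul hTcl.1 (hν.inv hTcl.1)⟩
  rw [map_mul, map_mul, hβ, map_inv, mul_one, mul_inv_cancel]

/-- the key point: an automorphism of `S` in `F` restricting to a `G0`-map on a subgroup `R`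
with `R ∩ T` centric in the strong sense restricts on `T` to an element of the kernel. -/
theorem crux [Finite S] [Finite Δ] {p : ℕ} [Fact p.Prime] (hS : IsPGroup p S)
    {F : FusionSystem S} {E : FusionSystem T} (hE : E.IsWeaklyNormalIn F p)
    (χ : ↥(F.autGroup T) →* Δ) (hΔ : (Nat.card Δ).Coprime p)
    (hker : (E.autGroup T).subgroupOf (F.autGroup T) ≤ χ.ker) (a : F.autGroup S)
    {R : Subgroup Ω} (hc : TC F T (R ⊓ T)) (hg : G0 F p R (autFun (a : MulAut S))) :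
    a ∈ AK F hE.2.2.2.1.1 χ := by
  obtain ⟨hEsat, hF, hEinv⟩ := hE
  have hEF := hEinv.1
  have hTcl := hEinv.2.1
  have hTS : T ≤ S := hTcl.1
  obtain ⟨κ, hκ, e, he, hae⟩ := g0_ke hS hF hEinv χ hΔ hg
  obtain ⟨β, hres⟩ := exists_res hTcl a
  have hbR : Mor E (R ⊓ T) (autFun ((κ⁻¹ * β : F.autGroup T) : MulAut T)) := by
    refine he.congr (fun x hx => ?_)
    show e x = autFun ((κ : MulAut T)⁻¹ * (β : MulAut T)) x
    rw [autFun_mul _ _ hx.2, hres x hx.2, hae x hx, autFun_inv _ (he.mem_S hx)]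
  have hbF : Mor F T (autFun ((κ⁻¹ * β : F.autGroup T) : MulAut T)) :=
    autFun_mor F hTS (κ⁻¹ * β).2
  have hNA : NA F E (autFun ((κ⁻¹ * β : F.autGroup T) : MulAut T))
      (autFun (((κ⁻¹ * β : F.autGroup T) : MulAut T)⁻¹)) :=
    { mor := hbF
      mor' := autFun_mor F hTS ((κ⁻¹ * β)⁻¹).2
      maps := fun x hx => autFun_mem_R _ hx
      maps' := fun x hx => autFun_mem_R _ hx
      left := fun x hx => autFun_inv _ hx
      right := fun x hx => autFun_inv' _ hx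
      conj := fun P f hf =>
        Helper88.invariant_conj hEinv hf.le hf hbF (fun x hx => autFun_inv _ hx) }
  obtain ⟨K, hK⟩ := na_extend hS hEsat hEF _ _ _ (R ⊓ T) hNA rfl hc hbR
  have h1 : ((κ⁻¹ * β : F.autGroup T) : MulAut T) ^ p ^ K ∈ E.autGroup T := by
    rw [Helper88.mem_autGroup_iff E le_rfl]
    refine hK.congr (fun x hx => ?_)
    exact (autFun_pow_iterate ((κ⁻¹ * β : F.autGroup T) : MulAut T) (p ^ K) x hx).symm
  have h2 : (κ⁻¹ * β) ^ p ^ K ∈ (E.autGroup T).subgroupOf (F.autGroup T) := by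
    rw [Subgroup.mem_subgroupOf, Subgroup.coe_pow]
    exact h1
  have h3 : χ (κ⁻¹ * β) ^ p ^ K = 1 := by
    rw [← map_pow]
    exact MonoidHom.mem_ker.1 (hker h2)
  have h4 : χ (κ⁻¹ * β) = 1 := pow_p_eq_one hΔ h3
  rw [map_mul, map_inv, hκ, inv_one, one_mul] at h4
  exact ⟨β, h4, hres⟩

/-- the intersection with `T` of the image is the image of the intersection. -/
theorem img_inf [Finite S] {F : FusionSystem S} (hTcl : F.StronglyClosed T) {P : Subgroup Ω}
    {f : Ω → Ω} (hf : Mor F P f) : img P f ⊓ T = img (P ⊓ T) f := by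
  have hf' : Mor F (P ⊓ T) f := hf.res inf_le_left
  obtain ⟨g, hg, hgf⟩ := hf.exists_inv
  have hg' : Mor F (img P f ⊓ T) g := hg.res inf_le_left
  have hgT := Helper88.stronglyClosed_mor hTcl inf_le_right hg'
  have hfT := Helper88.stronglyClosed_mor hTcl inf_le_right hf'
  ext y
  constructor
  · rintro ⟨hy, hyT⟩
    obtain ⟨x, hx, rfl⟩ := hf.mem_img.1 hy
    have h1 := hgT (f x) ⟨hy, hyT⟩
    rw [hgf x hx] at h1
    exact hf'.apply_mem_img ⟨hx, h1⟩
  · intro hy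
    obtain ⟨x, hx, rfl⟩ := hf'.mem_img.1 hy
    exact ⟨hf.apply_mem_img hx.1, hfT x hx⟩

/-- the family of subgroups is closed under conjugation in `F`. -/
theorem tc_conj [Finite S] {F : FusionSystem S} (hTcl : F.StronglyClosed T) {P : Subgroup Ω}
    {f : Ω → Ω} (hf : Mor F P f) (h : TC F T (P ⊓ T)) : TC F T (img P f ⊓ T) := by
  rw [img_inf hTcl hf]
  exact PNorm.tc_img h (hf.res inf_le_left)

theorem tc_top [Finite S] {F : FusionSystem S} {E : FusionSystem T} (hEinv : E.IsInvariantIn F) :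
    TC F T (S ⊓ T) := by
  have hTS : T ≤ S := hEinv.2.1.1
  haveI : Finite T := Finite.of_injective _ (Subgroup.inclusion_injective hTS)
  have h1 : S ⊓ T = T := inf_eq_right.2 hTS
  rw [h1]
  exact tc_of_centric hEinv (centric_top E)

end Cfsg.Agent.Lib.Helper42.PChi
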