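import Mathlib
import Cfsg.Agent.Lib.Helper42.PChiB

set_option autoImplicit false
set_option linter.style.haveILetI false

/-!
# Part C: the system `A ∘ G0` for the subgroup `A` of Part B; saturation on the good subgroups.
-/

namespace Cfsg.Agent.Lib.Helper42.PChi

open Cfsg Cfsg.FusionSystem Cfsg.Agent.Lib.Helper84 Cfsg.Agent.Lib.Helper84.SatCrit
open Cfsg.Agent.Lib.Helper84.PPrimeRes
open Cfsg.Agent.Lib.Helper88 (Mor extFun extFun_mem extFun_apply img mor_of_hom hom_of_mor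
  mor_conj mor_id)
open Cfsg.Agent.Lib.Helper42.PRes

variable {Ω : Type*} [Group Ω] {S T : Subgroup Ω} {Δ : Type*} [Group Δ]

/-- basic facts about the systems `A ∘ G0`. -/
theorem fr_facts [Finite S] (p : ℕ) [Fact p.Prime] (hS : IsPGroup p S) (F : FusionSystem S)
    (hF : F.IsSaturated p) (A : Subgroup (F.autGroup S))
    (hA : ∀ g ∈ S, ∃ a ∈ A, ∀ x ∈ S, autFun ((a : F.autGroup S) : MulAut S) x = g * x * g⁻¹) :
    (FrSys F p A hA).HasPrimeToPIndexIn F p ∧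
    (∀ (P : Subgroup Ω) (f : Ω → Ω), Mor F P f →
      ∃ α : F.autGroup S, ∃ f₀, Mor (FrSys F p A hA) P f₀ ∧
        ∀ x ∈ P, f x = autFun (α : MulAut S) (f₀ x)) ∧
    ∀ P : Subgroup Ω, (FrSys F p A hA).IsCentric P ↔ F.IsCentric P := by
  have hEF : (FrSys F p A hA).IsSubsystemOf F := fun P φ hφ => hφ.1
  have hO : ∀ P : Subgroup Ω, F.IsCentric P →
      (Subgroup.closure {α : ↥(F.autGroup P) | ∃ k : ℕ, orderOf α = p ^ k}).map
        (F.autGroup P).subtype ≤ (FrSys F p A hA).autGroup P := by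
    rintro P hc _ ⟨β, hβ, rfl⟩
    have h1 : G0 F p P (autFun (β : MulAut P)) := G0_of_mem_OpP hc hβ
    exact (Helper88.mem_autGroup_iff _ hc.1 _).2 (mor_frSys_iff.2 (FrMor.of_G0 h1))
  obtain ⟨hidx, -, hcen⟩ := Cfsg.Agent.S5114.result p hS F hF _ hEF hO
  exact ⟨hidx, fun P f hf => frattini p hS F hF _ hEF hO hf, hcen⟩

/-- an automorphism of `p`-power order lies in every subsystem of index prime to `p`. -/
theorem ppow_mem [Finite S] {p : ℕ} [Fact p.Prime] {F D : FusionSystem S}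
    (hD : D.HasPrimeToPIndexIn F p) {R : Subgroup Ω} {f₁ : Ω → Ω} (hf₁ : Mor F R f₁)
    (hmaps : ∀ x ∈ R, f₁ x ∈ R) (hk : ∃ k : ℕ, ∀ x ∈ R, f₁^[p ^ k] x = x) : Mor D R f₁ := by
  obtain ⟨k, hk⟩ := hk
  have hRS := hf₁.le
  obtain ⟨α, hα, hαx⟩ := hf₁.exists_aut hmaps
  have hax : ∀ x ∈ R, autFun α x = f₁ x := fun x hx => by
    rw [autFun_mem α hx]; exact hαx ⟨x, hx⟩
  have hiter : ∀ n : ℕ, ∀ x ∈ R, (autFun α)^[n] x = f₁^[n] x := by
    intro n
    induction n with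
    | zero => intro x hx; rfl
    | succ n ih =>
      intro x hx
      rw [Function.iterate_succ_apply', Function.iterate_succ_apply', ih x hx,
        hax _ (iterate_mem hmaps n x hx)]
  have hpow : α ^ p ^ k = 1 := by
    apply MulEquiv.ext
    intro x
    apply Subtype.ext
    have h1 := autFun_pow_iterate α (p ^ k) x x.2
    rw [hiter (p ^ k) x x.2, hk x x.2, autFun_mem _ x.2] at h1
    exact h1
  have hord : ∃ j : ℕ, orderOf (⟨α, hα⟩ : F.autGroup R) = p ^ j := by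
    have h2 : (⟨α, hα⟩ : F.autGroup R) ^ p ^ k = 1 := by
      apply Subtype.ext
      rw [Subgroup.coe_pow, Subgroup.coe_one]
      exact hpow
    obtain ⟨j, -, hj⟩ := (Nat.dvd_prime_pow (Fact.out : p.Prime)).1 (orderOf_dvd_of_pow_eq_one h2)
    exact ⟨j, hj⟩
  have hmem : α ∈ D.autGroup R := hD.2 R hRS ⟨⟨α, hα⟩, Subgroup.subset_closure hord, rfl⟩
  exact (autFun_mor D hRS hmem).congr hax

/-- full normalization is transported by automorphisms of `S` in the system. -/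
theorem fn_transport [Finite S] {F : FusionSystem S} {Q P' : Subgroup Ω} (hQS : Q ≤ S)
    (α : F.autGroup S) (himgQ : img Q (autFun (α : MulAut S)) = P')
    (hP'n : F.IsFullyNormalized P') : F.IsFullyNormalized Q := by
  have hαm : Mor F S (autFun (α : MulAut S)) := autFun_mor F le_rfl α.2
  have hQconj : F.IsConj Q P' := (Helper88.isConj_iff F).2 ⟨_, hαm.res hQS, himgQ⟩
  have hP'S : P' ≤ S := hP'n.1
  refine ⟨hQS, fun X hX => ?_⟩
  have h1 := hP'n.2 X (isConj_trans F (isConj_symm F hQconj) hX)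
  have hαi : Mor F S (autFun ((α : MulAut S)⁻¹)) := autFun_mor F le_rfl (α⁻¹).2
  have hle : img (normalizerIn S P') (autFun ((α : MulAut S)⁻¹)) ≤
      normalizerIn S (img P' (autFun ((α : MulAut S)⁻¹))) :=
    img_le_normalizerIn (hαi.res (normalizerIn_le S P')) (le_normalizerIn hP'S) le_rfl
  have himg2 : img P' (autFun ((α : MulAut S)⁻¹)) = Q := by
    rw [← himgQ]
    exact img_inv hαm (by rw [img_autFun F le_rfl α]; exact hαi)
      (fun x hx => autFun_inv _ hx) hQS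
  rw [himg2] at hle
  haveI : Finite (normalizerIn S Q) := finite_of_le (normalizerIn_le S _)
  have h2 := Subgroup.card_le_of_le hle
  rw [(hαi.res (normalizerIn_le S P')).card_img] at h2
  exact h1.trans h2

/-- saturation on the subgroups of the family. -/
theorem fk_sat_on [Finite S] [Finite Δ] {p : ℕ} [Fact p.Prime] (hS : IsPGroup p S)
    {F : FusionSystem S} {E : FusionSystem T} (hE : E.IsWeaklyNormalIn F p) (hTS : T ≤ S)
    (χ : ↥(F.autGroup T) →* Δ) (hΔ : (Nat.card Δ).Coprime p)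
    (hker : (E.autGroup T).subgroupOf (F.autGroup T) ≤ χ.ker)
    (hA : ∀ g ∈ S, ∃ a ∈ AK F hTS χ,
      ∀ x ∈ S, autFun ((a : F.autGroup S) : MulAut S) x = g * x * g⁻¹)
    {P : Subgroup Ω} (hPc : F.IsCentric P) (hPt : TC F T (P ⊓ T)) :
    ∃ Q, (FrSys F p (AK F hTS χ) hA).IsConj P Q ∧
      (FrSys F p (AK F hTS χ) hA).IsFullyAutomized p Q ∧
      (FrSys F p (AK F hTS χ) hA).IsReceptive Q := by
  have hF := hE.2.1
  have hEinv := hE.2.2
  have hTcl := hEinv.2.1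
  obtain ⟨hidx, hfrat, hcen⟩ := fr_facts p hS F hF (AK F hTS χ) hA
  have hEF : (FrSys F p (AK F hTS χ) hA).IsSubsystemOf F := fun P φ hφ => hφ.1
  have hmorE : ∀ {P : Subgroup Ω} {f : Ω → Ω},
      Mor (FrSys F p (AK F hTS χ) hA) P f ↔ FrMor F p (AK F hTS χ) P f := mor_frSys_iff
  have hmorEF : ∀ {P : Subgroup Ω} {f : Ω → Ω},
      Mor (FrSys F p (AK F hTS χ) hA) P f → Mor F P f := fun h => (hmorE.1 h).mor
  have hPS : P ≤ S := hPc.1
  obtain ⟨P', hPP', hP'n⟩ := exists_fullyNormalized_conj F hPS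
  obtain ⟨f, hf, himg⟩ := (Helper88.isConj_iff F).1 hPP'
  obtain ⟨α, f₀, hf₀, hfα⟩ := hfrat P f hf
  have hf₀F : Mor F P f₀ := hmorEF hf₀
  have hQS : img P f₀ ≤ S := hf₀F.img_le
  have hαm : Mor F S (autFun (α : MulAut S)) := autFun_mor F le_rfl α.2
  have himgQ : img (img P f₀) (autFun (α : MulAut S)) = P' := by
    rw [← himg, Helper88.img_congr hfα]
    exact (DFac.img_comp hf₀F (hαm.res hQS)).symm
  have hQn : F.IsFullyNormalized (img P f₀) := fn_transport hQS α himgQ hP'n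
  have hexQ := hF (img P f₀) hQS
  have hfaF : F.IsFullyAutomized p (img P f₀) := fa_of_fn_local p hS F hexQ hQn
  have hrecF : F.IsReceptive (img P f₀) :=
    rec_of_fc_local p hS F hexQ (fc_of_fn_local p hS F hexQ hQn)
  have hQc : F.IsCentric (img P f₀) := Helper88.centric_conj hPc hf₀F
  have hQt : TC F T (img P f₀ ⊓ T) := tc_conj hTcl hf₀F hPt
  refine ⟨img P f₀, (Helper88.isConj_iff _).2 ⟨f₀, hf₀, rfl⟩, fa_sub hS hEF hfaF, hQS, ?_⟩
  intro P₁ φ hφ hr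
  obtain ⟨ψ, hψ, hψφ⟩ := hrecF.2 P₁ φ (hEF P₁ hφ) hr
  refine ⟨ψ, ⟨hψ, ?_⟩, hψφ⟩
  obtain ⟨a, ha, φ₀, hφ₀, hφa⟩ := hφ.2
  have hψm : Mor F (extender S P₁ φ) (extFun ψ) := mor_of_hom F hψ
  obtain ⟨α', ψE, hψE, hψα⟩ := hfrat _ _ hψm
  obtain ⟨a', ha', ψ₀, hψ₀, hψa'⟩ := hmorE.1 hψE
  have hφF := hEF P₁ hφ
  have hP₁S : P₁ ≤ S := (F.le_of_mem hφF).1
  have hP₁N : P₁ ≤ extender S P₁ φ := le_extender hP₁S φ (hom_mem_S F hφF)
  have hφm : Mor F P₁ (extFun φ) := mor_of_hom F hφF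
  have himgφ : img P₁ (extFun φ) = img P f₀ := by
    rw [Helper88.img_eq_range φ (fun x => (extFun_apply φ x).symm)]; exact hr
  obtain ⟨g, hg, hgf⟩ := hφm.exists_inv
  have h2 : img (img P₁ (extFun φ)) g = P₁ := img_inv hφm hg hgf le_rfl
  rw [himgφ] at hg h2
  have hP₁t : TC F T (P₁ ⊓ T) := by
    have h1 := tc_conj hTcl hg hQt
    rw [h2] at h1
    exact h1
  have hψ₀P : G0 F p P₁ ψ₀ := hψ₀.res _ hP₁N
  obtain ⟨ψ₀inv, hψ₀inv, hinv⟩ := hψ₀P.inv
  have hR₁t : TC F T (img P₁ ψ₀ ⊓ T) := tc_conj hTcl hψ₀P.mor hP₁t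
  have himg3 : img (img P₁ ψ₀) ψ₀inv = P₁ := img_inv hψ₀P.mor hψ₀inv.mor hinv le_rfl
  have hcomp : G0 F p (img P₁ ψ₀) (fun y => φ₀ (ψ₀inv y)) :=
    G0.comp _ ψ₀inv φ₀ _ hψ₀inv (by rw [himg3]; exact hφ₀) (fun _ _ => rfl)
  have hc : a⁻¹ * α' * a' ∈ AK F hTS χ := by
    refine crux hS hE χ hΔ hker (a⁻¹ * α' * a') hR₁t (hcomp.congr (fun y hy => ?_))
    obtain ⟨x, hx, rfl⟩ := hψ₀P.mor.mem_img.1 hy
    rw [hinv x hx]
    have hxN := hP₁N hx
    have e1 : extFun ψ x = extFun φ x := by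
      rw [extFun_mem ψ hxN, extFun_mem φ hx]; exact hψφ x hx hxN
    have e2 := hψα x hxN
    have e3 := hψa' x hxN
    have e4 := hφa x hx
    have hψ₀S : ψ₀ x ∈ S := hψ₀P.mor.mem_S hx
    show autFun ((a : MulAut S)⁻¹ * (α' : MulAut S) * (a' : MulAut S)) (ψ₀ x) = φ₀ x
    rw [autFun_mul _ _ hψ₀S, autFun_mul _ _ (autFun_mem_R _ hψ₀S), ← e3, ← e2, e1, e4,
      autFun_inv _ (hφ₀.mor.mem_S hx)]
  have hα' : α' * a' ∈ AK F hTS χ := by
    have h5 := (AK F hTS χ).mul_mem ha hc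
    have e : a * (a⁻¹ * α' * a') = α' * a' := by group
    rwa [e] at h5
  refine ⟨α' * a', hα', ψ₀, hψ₀, fun x hx => ?_⟩
  show extFun ψ x = autFun ((α' : MulAut S) * (a' : MulAut S)) (ψ₀ x)
  rw [autFun_mul _ _ (hψ₀.mor.mem_S hx), ← hψa' x hx, ← hψα x hx]

end Cfsg.Agent.Lib.Helper42.PChi
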