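import Mathlib
import Cfsg.Agent.Lib.Helper42.PNormA

set_option autoImplicit false
set_option linter.style.haveILetI false

/-!
# Part C: a normal `p`-subgroup of the automizer of a fully automized subgroup

Automorphisms in `F` of a fully automized subgroup `V` that are trivial on an invariant subgroup
`Rs` and on `V` modulo `Rs` are induced by elements of `S`.
-/

namespace Cfsg.Agent.Lib.Helper42.PNorm

open Cfsg Cfsg.FusionSystem Cfsg.Agent.Lib.Helper84 Cfsg.Agent.Lib.Helper84.SatCrit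
open Cfsg.Agent.Lib.Helper88 (Mor extFun extFun_mem extFun_apply img mor_of_hom hom_of_mor
  mor_conj mor_id)

variable {Ω : Type*} [Group Ω] {S : Subgroup Ω}

/-- automorphisms of `V` in `F` that are trivial on `Rs` and on `V` modulo `Rs`. -/
def stabSub (F : FusionSystem S) (V Rs : Subgroup Ω) (hVS : V ≤ S) (hRsV : Rs ≤ V) :
    Subgroup (F.autGroup V) where
  carrier := {γ | (∀ y ∈ Rs, autFun (γ : MulAut V) y = y) ∧
    ∀ v ∈ V, v⁻¹ * autFun (γ : MulAut V) v ∈ Rs}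
  one_mem' := by
    refine ⟨fun y hy => ?_, fun v hv => ?_⟩
    · show autFun (1 : MulAut V) y = y
      exact autFun_one (hRsV hy)
    · show v⁻¹ * autFun (1 : MulAut V) v ∈ Rs
      rw [autFun_one hv, inv_mul_cancel]
      exact Rs.one_mem
  mul_mem' := by
    rintro γ₁ γ₂ ⟨h1, h1'⟩ ⟨h2, h2'⟩
    refine ⟨fun y hy => ?_, fun v hv => ?_⟩
    · show autFun ((γ₁ : MulAut V) * (γ₂ : MulAut V)) y = y
      rw [autFun_mul _ _ (hRsV hy), h2 y hy, h1 y hy]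
    · show v⁻¹ * autFun ((γ₁ : MulAut V) * (γ₂ : MulAut V)) v ∈ Rs
      rw [autFun_mul _ _ hv]
      obtain ⟨ζ, hζ, hζe⟩ : ∃ ζ ∈ Rs, autFun (γ₂ : MulAut V) v = v * ζ :=
        ⟨v⁻¹ * autFun (γ₂ : MulAut V) v, h2' v hv, by group⟩
      rw [hζe, (autFun_mor F hVS γ₁.2).map_mul hv (hRsV hζ), h1 _ hζ]
      have e2 : v⁻¹ * (autFun (γ₁ : MulAut V) v * ζ) = (v⁻¹ * autFun (γ₁ : MulAut V) v) * ζ := by
        group
      rw [e2]; exact Rs.mul_mem (h1' v hv) hζ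
  inv_mem' := by
    rintro γ ⟨h1, h1'⟩
    refine ⟨fun y hy => ?_, fun v hv => ?_⟩
    · show autFun ((γ : MulAut V)⁻¹) y = y
      have h3 := autFun_inv (γ : MulAut V) (hRsV hy)
      rw [h1 y hy] at h3
      exact h3
    · show v⁻¹ * autFun ((γ : MulAut V)⁻¹) v ∈ Rs
      have hu : autFun ((γ : MulAut V)⁻¹) v ∈ V := autFun_mem_R _ hv
      have h3 := h1' _ hu
      rw [autFun_inv' _ hv] at h3
      have e : v⁻¹ * autFun ((γ : MulAut V)⁻¹) v =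
          ((autFun ((γ : MulAut V)⁻¹) v)⁻¹ * v)⁻¹ := by group
      rw [e]; exact Rs.inv_mem h3

theorem mem_stabSub (F : FusionSystem S) (V Rs : Subgroup Ω) (hVS : V ≤ S) (hRsV : Rs ≤ V)
    (γ : F.autGroup V) : γ ∈ stabSub F V Rs hVS hRsV ↔
      (∀ y ∈ Rs, autFun (γ : MulAut V) y = y) ∧
        ∀ v ∈ V, v⁻¹ * autFun (γ : MulAut V) v ∈ Rs := Iff.rfl

/-- `stabSub` is a `p`-group when the elements of `Rs` have bounded `p`-power order. -/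
theorem stabSub_isPGroup {p : ℕ} (F : FusionSystem S) (V Rs : Subgroup Ω) (hVS : V ≤ S)
    (hRsV : Rs ≤ V) (hpow : ∃ n : ℕ, ∀ y ∈ Rs, y ^ p ^ n = 1) :
    IsPGroup p (stabSub F V Rs hVS hRsV) := by
  obtain ⟨n, hn⟩ := hpow
  rintro ⟨γ, hγ⟩
  obtain ⟨hγ1, hγ2⟩ := (mem_stabSub F V Rs hVS hRsV γ).mp hγ
  refine ⟨n, ?_⟩
  have hiter : ∀ k : ℕ, ∀ v ∈ V, autFun ((γ : MulAut V) ^ k) v =
      v * (v⁻¹ * autFun (γ : MulAut V) v) ^ k := by
    intro k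
    induction k with
    | zero => intro v hv; rw [pow_zero, pow_zero, autFun_one hv, mul_one]
    | succ k ih =>
      intro v hv
      rw [pow_succ', autFun_mul _ _ hv, ih v hv]
      have hζ : (v⁻¹ * autFun (γ : MulAut V) v) ^ k ∈ Rs := Rs.pow_mem (hγ2 v hv) k
      rw [(autFun_mor F hVS γ.2).map_mul hv (hRsV hζ), hγ1 _ hζ, pow_succ', ← mul_assoc,
        mul_inv_cancel_left]
  apply Subtype.ext
  rw [Subgroup.coe_pow, Subgroup.coe_one]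
  apply Subtype.ext
  rw [Subgroup.coe_pow, Subgroup.coe_one]
  apply MulEquiv.ext
  intro v
  apply Subtype.ext
  have h1 := hiter (p ^ n) v v.2
  rw [autFun_mem _ v.2, hn _ (hγ2 v v.2), mul_one] at h1
  exact h1

/-- `stabSub` is normal when `Rs` is invariant under the automizer. -/
theorem stabSub_conj (F : FusionSystem S) (V Rs : Subgroup Ω) (hVS : V ≤ S) (hRsV : Rs ≤ V)
    (hinv : ∀ m : Ω → Ω, Mor F V m → (∀ v ∈ V, m v ∈ V) → ∀ y ∈ Rs, m y ∈ Rs)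
    (δ γ : F.autGroup V) (hγ : γ ∈ stabSub F V Rs hVS hRsV) :
    δ * γ * δ⁻¹ ∈ stabSub F V Rs hVS hRsV := by
  obtain ⟨h1, h1'⟩ := (mem_stabSub F V Rs hVS hRsV γ).mp hγ
  have hδm : Mor F V (autFun (δ : MulAut V)) := autFun_mor F hVS δ.2
  have hδi : Mor F V (autFun ((δ : MulAut V)⁻¹)) := autFun_mor F hVS (δ⁻¹).2
  have hδR : ∀ y ∈ Rs, autFun (δ : MulAut V) y ∈ Rs :=
    hinv _ hδm (fun v hv => autFun_mem_R _ hv)
  have hδiR : ∀ y ∈ Rs, autFun ((δ : MulAut V)⁻¹) y ∈ Rs :=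
    hinv _ hδi (fun v hv => autFun_mem_R _ hv)
  rw [mem_stabSub]
  refine ⟨fun y hy => ?_, fun v hv => ?_⟩
  · show autFun ((δ : MulAut V) * (γ : MulAut V) * (δ : MulAut V)⁻¹) y = y
    rw [autFun_mul _ _ (hRsV hy), autFun_mul _ _ (autFun_mem_R _ (hRsV hy)),
      h1 _ (hδiR y hy), autFun_inv' _ (hRsV hy)]
  · show v⁻¹ * autFun ((δ : MulAut V) * (γ : MulAut V) * (δ : MulAut V)⁻¹) v ∈ Rs
    have hu : autFun ((δ : MulAut V)⁻¹) v ∈ V := autFun_mem_R _ hv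
    rw [autFun_mul _ _ hv, autFun_mul _ _ hu]
    obtain ⟨ζ, hζ, hζe⟩ : ∃ ζ ∈ Rs, autFun (γ : MulAut V) (autFun ((δ : MulAut V)⁻¹) v) =
        autFun ((δ : MulAut V)⁻¹) v * ζ :=
      ⟨(autFun ((δ : MulAut V)⁻¹) v)⁻¹ * autFun (γ : MulAut V) (autFun ((δ : MulAut V)⁻¹) v),
        h1' _ hu, by group⟩
    rw [hζe, hδm.map_mul hu (hRsV hζ), autFun_inv' _ hv]
    have e2 : v⁻¹ * (v * autFun (δ : MulAut V) ζ) = autFun (δ : MulAut V) ζ := by group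
    rw [e2]; exact hδR ζ hζ

/-- The main statement of this part. -/
theorem stab_inner [Finite S] {p : ℕ} [Fact p.Prime] {F : FusionSystem S} {V Rs : Subgroup Ω}
    (hfa : F.IsFullyAutomized p V) (hRsV : Rs ≤ V)
    (hpow : ∃ n : ℕ, ∀ y ∈ Rs, y ^ p ^ n = 1)
    (hinv : ∀ m : Ω → Ω, Mor F V m → (∀ v ∈ V, m v ∈ V) → ∀ y ∈ Rs, m y ∈ Rs)
    {m₀ : Ω → Ω} (hm₀ : Mor F V m₀) (hm₀R : ∀ y ∈ Rs, m₀ y = y)
    (hm₀Z : ∀ v ∈ V, v⁻¹ * m₀ v ∈ Rs) :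
    ∃ s ∈ S, ∀ v ∈ V, m₀ v = s * v * s⁻¹ := by
  have hVS : V ≤ S := hfa.1
  haveI : Finite (F.autGroup V) := Helper84.finite_autGroup F hVS
  have hm₀V : ∀ v ∈ V, m₀ v ∈ V := by
    intro v hv
    have e : m₀ v = v * (v⁻¹ * m₀ v) := by group
    rw [e]; exact V.mul_mem hv (hRsV (hm₀Z v hv))
  obtain ⟨μ, hμ, hμm⟩ := hm₀.exists_aut hm₀V
  have hμx : ∀ v ∈ V, autFun μ v = m₀ v := fun v hv => by
    rw [autFun_mem μ hv]; exact hμm ⟨v, hv⟩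
  have hμM : (⟨μ, hμ⟩ : F.autGroup V) ∈ stabSub F V Rs hVS hRsV := by
    rw [mem_stabSub]
    refine ⟨fun y hy => ?_, fun v hv => ?_⟩
    · show autFun μ y = y
      rw [hμx y (hRsV hy), hm₀R y hy]
    · show v⁻¹ * autFun μ v ∈ Rs
      rw [hμx v hv]; exact hm₀Z v hv
  obtain ⟨R₀, hR₀⟩ := Helper88.fa_exists_sylow hfa
  obtain ⟨δ, hδ⟩ := Helper88.sylow_conj_le R₀ _ (stabSub_isPGroup F V Rs hVS hRsV hpow)
  have h1 := hδ _ (stabSub_conj F V Rs hVS hRsV hinv δ _ hμM)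
  have e : δ⁻¹ * (δ * (⟨μ, hμ⟩ : F.autGroup V) * δ⁻¹) * δ = ⟨μ, hμ⟩ := by group
  rw [e] at h1
  obtain ⟨s, hs, hsμ⟩ := (hR₀ _).mp h1
  refine ⟨s, hs, fun v hv => ?_⟩
  rw [← hμx v hv, autFun_mem μ hv]
  exact hsμ ⟨v, hv⟩

end Cfsg.Agent.Lib.Helper42.PNorm
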