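import Mathlib
import Cfsg.Agent.Lib.Helper42.PNormB
import Cfsg.Agent.Lib.Helper42.PNormC

set_option autoImplicit false
set_option linter.style.haveILetI false

/-!
# Part D: the power trick for extensions to `T C_S(T)`

If an automorphism `a` of `T` in `F` restricts on `R` (all of whose `F`-conjugates are
`T`-centric) to a map that extends to `R C_S(T)` acting trivially on `C_S(T)` modulo `T`, then
some `p`-power iterate of `a` extends to `T C_S(T)` acting trivially on `C_S(T)` modulo `T`.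
-/

namespace Cfsg.Agent.Lib.Helper42.PNorm

open Cfsg Cfsg.FusionSystem Cfsg.Agent.Lib.Helper84 Cfsg.Agent.Lib.Helper84.SatCrit
open Cfsg.Agent.Lib.Helper84.PPrimeRes
open Cfsg.Agent.Lib.Helper88 (Mor extFun extFun_mem extFun_apply img mor_of_hom hom_of_mor
  mor_conj mor_id)
open Cfsg.Agent.Lib.Helper42.PRes (TC NA si_aut pelt_mem tc_of_centric frSys_isPPrimeResidual)

variable {Ω : Type*} [Group Ω] {S T : Subgroup Ω}

theorem ext_cen {F : FusionSystem S} {P : Subgroup Ω} {f f₂ : Ω → Ω} (hPT : P ≤ T)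
    (hfT : ∀ x ∈ P, f x ∈ T) (hfm : Mor F P f)
    (hf₂ : Mor F (P ⊔ centralizerIn S T) f₂) (hf₂f : ∀ x ∈ P, f₂ x = f x)
    (hf₂c : ∀ c ∈ centralizerIn S T, c⁻¹ * f₂ c ∈ T) :
    ∀ c ∈ centralizerIn S T, c⁻¹ * f₂ c ∈ centralizerIn T (img P f) := by
  intro c hc'
  rw [Helper88.mem_centralizerIn]
  refine ⟨hf₂c c hc', ?_⟩
  intro q hq
  obtain ⟨x, hx, rfl⟩ := hfm.mem_img.mp hq
  have hxc : x * c = c * x := (Helper88.mem_centralizerIn.mp hc').2 x (hPT hx)
  have h1 : f₂ x * f₂ c = f₂ c * f₂ x := by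
    rw [← hf₂.map_mul (Subgroup.mem_sup_left hx) (Subgroup.mem_sup_right hc'),
      ← hf₂.map_mul (Subgroup.mem_sup_right hc') (Subgroup.mem_sup_left hx), hxc]
  have h2 : f x * c = c * f x := (Helper88.mem_centralizerIn.mp hc').2 (f x) (hfT x hx)
  rw [hf₂f x hx] at h1
  calc f x * (c⁻¹ * f₂ c) = c⁻¹ * (c * f x) * c⁻¹ * f₂ c := by group
    _ = c⁻¹ * (f x * c) * c⁻¹ * f₂ c := by rw [h2]
    _ = c⁻¹ * (f x * f₂ c) := by group
    _ = c⁻¹ * (f₂ c * f x) := by rw [h1]
    _ = c⁻¹ * f₂ c * f x := by group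

theorem mor_iterate {F : FusionSystem S} {P : Subgroup Ω} {f : Ω → Ω} (hf : Mor F P f)
    (hmaps : ∀ x ∈ P, f x ∈ P) (n : ℕ) : Mor F P (f^[n]) := by
  induction n with
  | zero => exact (mor_id F hf.le).congr (fun x _ => rfl)
  | succ n ih =>
    exact (hf.comp ih hmaps).congr (fun x _ => by
      show f^[n] (f x) = f^[n + 1] x
      rw [Function.iterate_succ_apply])

theorem iterate_agree {P : Subgroup Ω} {f g : Ω → Ω} (h : ∀ x ∈ P, f x = g x)
    (hg : ∀ x ∈ P, g x ∈ P) (n : ℕ) : ∀ x ∈ P, f^[n] x = g^[n] x := by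
  induction n with
  | zero => intro x _; rfl
  | succ n ih =>
    intro x hx
    rw [Function.iterate_succ_apply, Function.iterate_succ_apply, h x hx, ih _ (hg x hx)]

theorem iterate_left_inv {P : Subgroup Ω} {f g : Ω → Ω} (hf : ∀ x ∈ P, f x ∈ P)
    (hgf : ∀ x ∈ P, g (f x) = x) (n : ℕ) : ∀ x ∈ P, g^[n] (f^[n] x) = x := by
  induction n with
  | zero => intro x _; rfl
  | succ n ih =>
    intro x hx
    rw [Function.iterate_succ_apply g, Function.iterate_succ_apply' f,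
      hgf _ (iterate_mem hf n x hx), ih x hx]

/-- an automorphism `a` of `T` in `F` (with inverse `a'`) together with an extension `b` to
`T C_S(T)` (with inverse `b'`). -/
structure Pkg (F : FusionSystem S) (T : Subgroup Ω) (a a' b b' : Ω → Ω) : Prop where
  mor : Mor F T a
  mor' : Mor F T a'
  maps : ∀ x ∈ T, a x ∈ T
  maps' : ∀ x ∈ T, a' x ∈ T
  left : ∀ x ∈ T, a' (a x) = x
  right : ∀ x ∈ T, a (a' x) = x
  bmor : Mor F (T ⊔ centralizerIn S T) b
  bmor' : Mor F (T ⊔ centralizerIn S T) b'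
  bT : ∀ x ∈ T, b x = a x
  bT' : ∀ x ∈ T, b' x = a' x
  bC : ∀ c ∈ centralizerIn S T, b c ∈ centralizerIn S T
  bC' : ∀ c ∈ centralizerIn S T, b' c ∈ centralizerIn S T
  bright : ∀ c ∈ centralizerIn S T, b (b' c) = c

theorem Pkg.bU {F : FusionSystem S} {a a' b b' : Ω → Ω} (h : Pkg F T a a' b b') :
    ∀ y ∈ T ⊔ centralizerIn S T, b y ∈ T ⊔ centralizerIn S T := by
  intro y hy
  obtain ⟨x, hx, c, hc, rfl⟩ := sup_decomp (le_refl T) y hy
  rw [h.bmor.map_mul (Subgroup.mem_sup_left hx) (Subgroup.mem_sup_right hc), h.bT x hx]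
  exact Subgroup.mul_mem _ (Subgroup.mem_sup_left (h.maps x hx))
    (Subgroup.mem_sup_right (h.bC c hc))

theorem Pkg.bU' {F : FusionSystem S} {a a' b b' : Ω → Ω} (h : Pkg F T a a' b b') :
    ∀ y ∈ T ⊔ centralizerIn S T, b' y ∈ T ⊔ centralizerIn S T := by
  intro y hy
  obtain ⟨x, hx, c, hc, rfl⟩ := sup_decomp (le_refl T) y hy
  rw [h.bmor'.map_mul (Subgroup.mem_sup_left hx) (Subgroup.mem_sup_right hc), h.bT' x hx]
  exact Subgroup.mul_mem _ (Subgroup.mem_sup_left (h.maps' x hx))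
    (Subgroup.mem_sup_right (h.bC' c hc))

theorem Pkg.iterate {F : FusionSystem S} {a a' b b' : Ω → Ω} (h : Pkg F T a a' b b') (n : ℕ) :
    Pkg F T (a^[n]) (a'^[n]) (b^[n]) (b'^[n]) :=
  { mor := mor_iterate h.mor h.maps n
    mor' := mor_iterate h.mor' h.maps' n
    maps := iterate_mem h.maps n
    maps' := iterate_mem h.maps' n
    left := iterate_left_inv h.maps h.left n
    right := iterate_left_inv h.maps' h.right n
    bmor := mor_iterate h.bmor h.bU n
    bmor' := mor_iterate h.bmor' h.bU' n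
    bT := iterate_agree h.bT h.maps n
    bT' := iterate_agree h.bT' h.maps' n
    bC := iterate_mem h.bC n
    bC' := iterate_mem h.bC' n
    bright := iterate_left_inv h.bC' h.bright n }

/-- every automorphism of `T` in `F` has such an extension. -/
theorem pkg_exists [Finite S] {p : ℕ} {F : FusionSystem S} (hF : F.IsSaturated p)
    (hTcl : F.StronglyClosed T) {a : Ω → Ω} (ha : Mor F T a) :
    ∃ a' b b', Pkg F T a a' b b' := by
  have hTS : T ≤ S := hTcl.1
  obtain ⟨a', ha', haT, ha'T, ha'a, haa'⟩ := Helper88.aut_inverse hTcl ha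
  obtain ⟨Q, hconj, hfa, hrec⟩ := hF T hTS
  obtain ⟨k, hk, hkimg⟩ := (Helper88.isConj_iff F).mp hconj
  have hQT : Q = T := by
    rw [← hkimg]; exact hk.img_eq_self (Helper88.stronglyClosed_mor hTcl le_rfl hk)
  rw [hQT] at hrec
  have himgT : img T a = T := ha.img_eq_self haT
  have hCS : centralizerIn S T ≤ S := inf_le_left
  have hUS : T ⊔ centralizerIn S T ≤ S := sup_le hTS hCS
  have hcomm : ∀ x ∈ T, ∀ c ∈ centralizerIn S T, x * c = c * x := fun x hx c hc' =>
    (Helper88.mem_centralizerIn.mp hc').2 x hx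
  have hcond : ∀ g ∈ T ⊔ centralizerIn S T, g ∈ S ∧ g ∈ Subgroup.normalizer (T : Set Ω) ∧
      ∃ h' ∈ S, ∀ x ∈ T, a (g * x * g⁻¹) = h' * a x * h'⁻¹ := by
    intro g hg
    obtain ⟨q, hq, c, hc', rfl⟩ := sup_decomp (le_refl T) g hg
    have hconj : ∀ x ∈ T, q * c * x * (q * c)⁻¹ = q * x * q⁻¹ := by
      intro x hx
      have hxc := hcomm x hx c hc'
      calc q * c * x * (q * c)⁻¹ = q * (c * x) * c⁻¹ * q⁻¹ := by group
        _ = q * (x * c) * c⁻¹ * q⁻¹ := by rw [hxc]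
        _ = q * x * q⁻¹ := by group
    have hgS : q * c ∈ S := S.mul_mem (hTS hq) (hCS hc')
    have hN : q * c ∈ normalizerIn S T :=
      Helper84.SatCrit.mem_normalizerIn_of_conj hTS hgS (fun x hx => by
        rw [hconj x hx]; exact T.mul_mem (T.mul_mem hq hx) (T.inv_mem hq))
    refine ⟨hgS, hN.2, a q, ha.mem_S hq, fun x hx => ?_⟩
    rw [hconj x hx]
    exact Helper84.mor_conj_apply ha hq hx
  obtain ⟨b, hb, hbe⟩ := Helper88.receptive_extend hrec ha himgT hcond le_sup_left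
  have hbC : ∀ c ∈ centralizerIn S T, b c ∈ centralizerIn S T := by
    intro c hc'
    rw [Helper88.mem_centralizerIn]
    refine ⟨hb.mem_S (Subgroup.mem_sup_right hc'), fun x hx => ?_⟩
    have hx' : a' x ∈ T := ha'T x hx
    have e : x = b (a' x) := by rw [hbe _ hx', haa' x hx]
    rw [e, ← hb.map_mul (Subgroup.mem_sup_left hx') (Subgroup.mem_sup_right hc'),
      ← hb.map_mul (Subgroup.mem_sup_right hc') (Subgroup.mem_sup_left hx'), hcomm _ hx' c hc']
  have hbU : ∀ y ∈ T ⊔ centralizerIn S T, b y ∈ T ⊔ centralizerIn S T := by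
    intro y hy
    obtain ⟨x, hx, c, hc', rfl⟩ := sup_decomp (le_refl T) y hy
    rw [hb.map_mul (Subgroup.mem_sup_left hx) (Subgroup.mem_sup_right hc'), hbe x hx]
    exact Subgroup.mul_mem _ (Subgroup.mem_sup_left (haT x hx))
      (Subgroup.mem_sup_right (hbC c hc'))
  have himgU : img (T ⊔ centralizerIn S T) b = T ⊔ centralizerIn S T := hb.img_eq_self hbU
  obtain ⟨b', hb', -, hb'b, hbb'⟩ := hb.exists_inv_img himgU
  have hb'T : ∀ x ∈ T, b' x = a' x := by
    intro x hx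
    have hx' : a' x ∈ T := ha'T x hx
    have e : b (a' x) = x := by rw [hbe _ hx', haa' x hx]
    have h3 := hb'b _ (Subgroup.mem_sup_left hx')
    rw [e] at h3
    exact h3
  have hb'C : ∀ c ∈ centralizerIn S T, b' c ∈ centralizerIn S T := by
    intro c hc'
    have hcU : c ∈ T ⊔ centralizerIn S T := Subgroup.mem_sup_right hc'
    obtain ⟨hb'cU, hbb'c⟩ := hbb' c hcU
    rw [Helper88.mem_centralizerIn]
    refine ⟨hUS hb'cU, fun x hx => ?_⟩
    have hxU : x ∈ T ⊔ centralizerIn S T := Subgroup.mem_sup_left hx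
    apply hb.inj (Subgroup.mul_mem _ hxU hb'cU) (Subgroup.mul_mem _ hb'cU hxU)
    rw [hb.map_mul hxU hb'cU, hb.map_mul hb'cU hxU, hbb'c, hbe x hx]
    exact hcomm _ (haT x hx) c hc'
  exact ⟨a', b, b', ⟨ha, ha', haT, ha'T, ha'a, haa', hb, hb', hbe, hb'T, hbC, hb'C,
    fun c hc' => (hbb' c (Subgroup.mem_sup_right hc')).2⟩⟩

end Cfsg.Agent.Lib.Helper42.PNorm
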