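import Mathlib
import Cfsg.Agent.Lib.Helper42.PNormD

set_option autoImplicit false
set_option linter.style.haveILetI false
set_option maxHeartbeats 1600000

/-!
# Part E: the step of the power trick for extensions, and the induction
-/

namespace Cfsg.Agent.Lib.Helper42.PNorm

open Cfsg Cfsg.FusionSystem Cfsg.Agent.Lib.Helper84 Cfsg.Agent.Lib.Helper84.SatCrit
open Cfsg.Agent.Lib.Helper84.PPrimeRes
open Cfsg.Agent.Lib.Helper88 (Mor extFun extFun_mem extFun_apply img mor_of_hom hom_of_mor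
  mor_conj mor_id)
open Cfsg.Agent.Lib.Helper42.PRes (TC NA si_aut pelt_mem tc_of_centric frSys_isPPrimeResidual)

variable {Ω : Type*} [Group Ω] {S T : Subgroup Ω}

/-- The step: from `R` to its normalizer in `T`. -/
theorem ext_step [Finite S] {p : ℕ} [Fact p.Prime] (hS : IsPGroup p S) {F : FusionSystem S}
    (hF : F.IsSaturated p) (hTcl : F.StronglyClosed T) {a a' b b' : Ω → Ω}
    (h : Pkg F T a a' b b') {R : Subgroup Ω} (hc : TC F T R) (hR : Ext F T R a) :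
    Ext F T (normalizerIn T R) (a^[Nat.card T]) := by
  have hTS : T ≤ S := hTcl.1
  haveI hfinT : Finite T := Finite.of_injective _ (Subgroup.inclusion_injective hTS)
  have hT : IsPGroup p T := hS.to_le hTS
  obtain ⟨hRT, α, hα, hαa, hαc⟩ := hR
  have hRS : R ≤ S := hRT.trans hTS
  have hCS : centralizerIn S T ≤ S := inf_le_left
  have hR₁T : normalizerIn T R ≤ T := inf_le_left
  have hRR₁ : R ≤ normalizerIn T R := le_inf hRT Subgroup.le_normalizer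
  have hWW₁ : R ⊔ centralizerIn S T ≤ normalizerIn T R ⊔ centralizerIn S T :=
    sup_le_sup_right hRR₁ _
  have hW₁U : normalizerIn T R ⊔ centralizerIn S T ≤ T ⊔ centralizerIn S T :=
    sup_le_sup_right hR₁T _
  have hWS : R ⊔ centralizerIn S T ≤ S := sup_le hRS hCS
  have haT := h.mor
  have haR : Mor F R a := haT.res hRT
  have hcomm : ∀ x ∈ T, ∀ c ∈ centralizerIn S T, x * c = c * x := fun x hx c hc' =>
    (Helper88.mem_centralizerIn.mp hc').2 x hx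
  -- `α c = c * a r`
  have htc : ∀ c ∈ centralizerIn S T, ∃ r ∈ R, α c = c * a r := by
    intro c hc'
    have hin := hc a haR (ext_cen hRT (fun x hx => h.maps x (hRT hx)) haR hα hαa hαc c hc')
    obtain ⟨r, hr, hre⟩ := haR.mem_img.mp hin
    exact ⟨r, hr, by rw [hre]; group⟩
  have hαxc : ∀ x ∈ R, ∀ c ∈ centralizerIn S T, α (x * c) = a x * α c := fun x hx c hc' => by
    rw [hα.map_mul (Subgroup.mem_sup_left hx) (Subgroup.mem_sup_right hc'), hαa x hx]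
  have hgconj : ∀ g ∈ normalizerIn T R, ∀ x ∈ R, ∀ c ∈ centralizerIn S T,
      g * (x * c) * g⁻¹ = (g * x * g⁻¹) * c := by
    intro g hg x hx c hc'
    have h1 := hcomm g⁻¹ (T.inv_mem (hR₁T hg)) c hc'
    calc g * (x * c) * g⁻¹ = g * x * (c * g⁻¹) := by group
      _ = g * x * (g⁻¹ * c) := by rw [h1]
      _ = (g * x * g⁻¹) * c := by group
  have hgR : ∀ g ∈ normalizerIn T R, ∀ x ∈ R, g * x * g⁻¹ ∈ R := fun g hg x hx =>
    Helper84.SatCrit.conj_mem_of_mem_normalizerIn hg hx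
  have hgW : ∀ g ∈ normalizerIn T R, ∀ w ∈ R ⊔ centralizerIn S T,
      g * w * g⁻¹ ∈ R ⊔ centralizerIn S T := by
    intro g hg w hw
    obtain ⟨x, hx, c, hc', rfl⟩ := sup_decomp hRT w hw
    rw [hgconj g hg x hx c hc']
    exact Subgroup.mul_mem _ (Subgroup.mem_sup_left (hgR g hg x hx)) (Subgroup.mem_sup_right hc')
  have hgi : ∀ g ∈ normalizerIn T R, g⁻¹ ∈ normalizerIn T R := fun g hg => Subgroup.inv_mem _ hg
  -- the key identity
  have hI : ∀ g ∈ normalizerIn T R, ∀ w ∈ R ⊔ centralizerIn S T, ∃ r' ∈ R,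
      (a g)⁻¹ * α (g * w * g⁻¹) * a g = α (w * r') := by
    intro g hg w hw
    obtain ⟨x, hx, c, hc', rfl⟩ := sup_decomp hRT w hw
    obtain ⟨r, hr, hre⟩ := htc c hc'
    have hgT : g ∈ T := hR₁T hg
    have hr' : r⁻¹ * (g⁻¹ * r * g) ∈ R := by
      have h3 := hgR g⁻¹ (hgi g hg) r hr
      rw [inv_inv] at h3
      exact R.mul_mem (R.inv_mem hr) h3
    refine ⟨r⁻¹ * (g⁻¹ * r * g), hr', ?_⟩
    have hxcU : x * c ∈ R ⊔ centralizerIn S T :=
      Subgroup.mul_mem _ (Subgroup.mem_sup_left hx) (Subgroup.mem_sup_right hc')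
    rw [hgconj g hg x hx c hc', hαxc _ (hgR g hg x hx) c hc',
      hα.map_mul hxcU (Subgroup.mem_sup_left hr'), hαxc x hx c hc', hαa _ hr', hre,
      Helper84.mor_conj_apply haT hgT (hRT hx)]
    have e1 : a (r⁻¹ * (g⁻¹ * r * g)) = (a r)⁻¹ * ((a g)⁻¹ * a r * a g) := by
      rw [haT.map_mul (T.inv_mem (hRT hr)) (T.mul_mem (T.mul_mem (T.inv_mem hgT) (hRT hr)) hgT),
        haT.map_inv (hRT hr), haT.map_mul (T.mul_mem (T.inv_mem hgT) (hRT hr)) hgT,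
        haT.map_mul (T.inv_mem hgT) (hRT hr), haT.map_inv hgT]
    rw [e1]
    have h2 := hcomm (a g)⁻¹ (T.inv_mem (h.maps g hgT)) c hc'
    calc (a g)⁻¹ * (a g * a x * (a g)⁻¹ * (c * a r)) * a g
        = a x * ((a g)⁻¹ * c) * a r * a g := by group
      _ = a x * (c * (a g)⁻¹) * a r * a g := by rw [h2]
      _ = a x * (c * a r) * ((a r)⁻¹ * ((a g)⁻¹ * a r * a g)) := by group
  -- the image `W'` of `α` and its normalizer
  have hW'S : img (R ⊔ centralizerIn S T) α ≤ S := hα.img_le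
  have hagN : ∀ g ∈ normalizerIn T R,
      a g ∈ normalizerIn S (img (R ⊔ centralizerIn S T) α) := by
    intro g hg
    have hgT : g ∈ T := hR₁T hg
    refine Helper84.SatCrit.mem_normalizerIn_of_conj hW'S (hTS (h.maps g hgT)) ?_
    intro y hy
    obtain ⟨w, hw, rfl⟩ := hα.mem_img.mp hy
    obtain ⟨r', hr', e⟩ := hI g⁻¹ (hgi g hg) (g * w * g⁻¹) (hgW g hg w hw)
    have e0 : g⁻¹ * (g * w * g⁻¹) * g⁻¹⁻¹ = w := by group
    rw [e0, haT.map_inv hgT, inv_inv] at e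
    rw [e]
    exact hα.apply_mem_img (Subgroup.mul_mem _ (hgW g hg w hw) (Subgroup.mem_sup_left hr'))
  obtain ⟨Wst, hconj, hfa, hrec⟩ := hF _ hW'S
  obtain ⟨k, hk, hkimg⟩ := (Helper88.isConj_iff F).mp hconj
  obtain ⟨θ, hθ, hθimg⟩ := Helper88.lemma26a hS hfa hrec hk hkimg
  have hαN : ∀ w ∈ R ⊔ centralizerIn S T,
      α w ∈ normalizerIn S (img (R ⊔ centralizerIn S T) α) :=
    fun w hw => le_normalizerIn hW'S (hα.apply_mem_img hw)
  have haRN : ∀ x ∈ R, a x ∈ normalizerIn S (img (R ⊔ centralizerIn S T) α) := fun x hx => by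
    rw [← hαa x hx]; exact hαN x (Subgroup.mem_sup_left hx)
  have hψ : Mor F (R ⊔ centralizerIn S T) (fun w => θ (α w)) := hα.comp hθ hαN
  have hψimg : img (R ⊔ centralizerIn S T) (fun w => θ (α w)) = Wst := by
    rw [Helper88.img_comp hα hθ hαN]; exact hθimg
  have hWstS : Wst ≤ S := hfa.1
  have hψW : ∀ w ∈ R ⊔ centralizerIn S T, θ (α w) ∈ Wst := fun w hw => by
    have h3 : θ (α w) ∈ img (R ⊔ centralizerIn S T) (fun w => θ (α w)) := hψ.apply_mem_img hw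
    rw [hψimg] at h3
    exact h3
  obtain ⟨ψ', hψ', -, hψ'ψ, hψψ'⟩ := hψ.exists_inv_img hψimg
  have hψ'ψ' : ∀ w ∈ R ⊔ centralizerIn S T, ψ' (θ (α w)) = w := hψ'ψ
  have hψψ'' : ∀ v ∈ Wst, ψ' v ∈ R ⊔ centralizerIn S T ∧ θ (α (ψ' v)) = v := hψψ'
  have hθa : Mor F R (fun x => θ (a x)) :=
    (hψ.res le_sup_left).congr (fun x hx => by show θ (α x) = θ (a x); rw [hαa x hx])
  have hRsV : img R (fun x => θ (a x)) ≤ Wst := by
    intro y hy
    obtain ⟨x, hx, rfl⟩ := hθa.mem_img.mp hy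
    have h3 := hψW x (Subgroup.mem_sup_left hx)
    rw [hαa x hx] at h3
    exact h3
  have hRsT : img R (fun x => θ (a x)) ≤ T := by
    intro y hy
    obtain ⟨x, hx, rfl⟩ := hθa.mem_img.mp hy
    exact Helper88.stronglyClosed_mor hTcl hRT hθa x hx
  have hKF : ∀ v ∈ Wst, v ∈ T → v ∈ img R (fun x => θ (a x)) := by
    intro v hv hvT
    obtain ⟨hw, hwv⟩ := hψψ'' v hv
    have hψ'T : ψ' v ∈ T :=
      Helper88.stronglyClosed_mor hTcl (inf_le_right : Wst ⊓ T ≤ T) (hψ'.res inf_le_left) v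
        ⟨hv, hvT⟩
    obtain ⟨x, hx, c, hc', hxc⟩ := sup_decomp hRT (ψ' v) hw
    have hcT : c ∈ T := by
      have e : c = x⁻¹ * ψ' v := by rw [hxc]; group
      rw [e]; exact T.mul_mem (T.inv_mem (hRT hx)) hψ'T
    have hcR : c ∈ R :=
      tc_self hc hRS ((Helper88.mem_centralizerIn).mpr ⟨hcT, fun q hq => hcomm q (hRT hq) c hc'⟩)
    have hwR : ψ' v ∈ R := by rw [hxc]; exact R.mul_mem hx hcR
    rw [← hwv]
    have e : θ (α (ψ' v)) = θ (a (ψ' v)) := by rw [hαa _ hwR]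
    rw [e]
    exact hθa.apply_mem_img hwR
  have hpow : ∃ n : ℕ, ∀ y ∈ img R (fun x => θ (a x)), y ^ p ^ n = 1 := by
    obtain ⟨n, hn⟩ := IsPGroup.iff_card.mp hT
    refine ⟨n, fun y hy => ?_⟩
    have h2 : (⟨y, hRsT hy⟩ : T) ^ Nat.card T = 1 := pow_card_eq_one'
    have h3 : (((⟨y, hRsT hy⟩ : T) ^ Nat.card T : T) : Ω) = ((1 : T) : Ω) :=
      congrArg Subtype.val h2
    rw [Subgroup.coe_pow, Subgroup.coe_one, hn] at h3
    exact h3
  have hinvRs : ∀ m : Ω → Ω, Mor F Wst m → (∀ v ∈ Wst, m v ∈ Wst) →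
      ∀ y ∈ img R (fun x => θ (a x)), m y ∈ img R (fun x => θ (a x)) := by
    intro m hm hmV y hy
    exact hKF _ (hmV y (hRsV hy)) (Helper88.stronglyClosed_mor hTcl hRsT (hm.res hRsV) y hy)
  -- conjugation by `g ∈ N_T(R)` is realized on `Wst` by an element of `S`
  have hG2 : ∀ g ∈ normalizerIn T R, ∃ hg' ∈ S, ∀ w ∈ R ⊔ centralizerIn S T,
      θ (α (g * w * g⁻¹)) = hg' * θ (α w) * hg'⁻¹ := by
    intro g hg
    have hgT : g ∈ T := hR₁T hg
    have hgS : g ∈ S := hTS hgT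
    have hagN' := hagN g hg
    have heS : (θ (a g))⁻¹ ∈ S := S.inv_mem (hθ.mem_S hagN')
    have hm1 : Mor F Wst (fun v => g * ψ' v * g⁻¹) :=
      hψ'.comp (mor_conj F hWS hgS) (fun v hv => (hψψ'' v hv).1)
    have hm2 : Mor F Wst (fun v => θ (α (g * ψ' v * g⁻¹))) :=
      hm1.comp hψ (fun v hv => hgW g hg _ (hψψ'' v hv).1)
    have hm2S : ∀ v ∈ Wst, θ (α (g * ψ' v * g⁻¹)) ∈ Wst :=
      fun v hv => hψW _ (hgW g hg _ (hψψ'' v hv).1)
    have hm₀ : Mor F Wst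
        (fun v => (θ (a g))⁻¹ * θ (α (g * ψ' v * g⁻¹)) * ((θ (a g))⁻¹)⁻¹) :=
      hm2.comp (mor_conj F hWstS heS) hm2S
    have hval : ∀ w ∈ R ⊔ centralizerIn S T, ∃ r' ∈ R,
        (θ (a g))⁻¹ * θ (α (g * w * g⁻¹)) * ((θ (a g))⁻¹)⁻¹ = θ (α w) * θ (a r') := by
      intro w hw
      obtain ⟨r', hr', e⟩ := hI g hg w hw
      refine ⟨r', hr', ?_⟩
      rw [inv_inv, ← hθ.map_inv hagN',
        ← hθ.map_mul (Subgroup.inv_mem _ hagN') (hαN _ (hgW g hg w hw)),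
        ← hθ.map_mul (Subgroup.mul_mem _ (Subgroup.inv_mem _ hagN') (hαN _ (hgW g hg w hw)))
          hagN', e, hα.map_mul hw (Subgroup.mem_sup_left hr'), hαa r' hr',
        hθ.map_mul (hαN w hw) (haRN r' hr')]
    have hm₀R : ∀ y ∈ img R (fun x => θ (a x)),
        (θ (a g))⁻¹ * θ (α (g * ψ' y * g⁻¹)) * ((θ (a g))⁻¹)⁻¹ = y := by
      intro y hy
      obtain ⟨x, hx, rfl⟩ := hθa.mem_img.mp hy
      show (θ (a g))⁻¹ * θ (α (g * ψ' (θ (a x)) * g⁻¹)) * ((θ (a g))⁻¹)⁻¹ = θ (a x)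
      have e1 : ψ' (θ (a x)) = x := by
        have h3 := hψ'ψ' x (Subgroup.mem_sup_left hx)
        rw [hαa x hx] at h3
        exact h3
      rw [e1, hαa _ (hgR g hg x hx), Helper84.mor_conj_apply haT hgT (hRT hx),
        Helper84.mor_conj_apply hθ hagN' (haRN x hx)]
      group
    have hm₀Z : ∀ v ∈ Wst,
        v⁻¹ * ((θ (a g))⁻¹ * θ (α (g * ψ' v * g⁻¹)) * ((θ (a g))⁻¹)⁻¹) ∈
          img R (fun x => θ (a x)) := by
      intro v hv
      obtain ⟨hw, hwv⟩ := hψψ'' v hv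
      obtain ⟨r', hr', e⟩ := hval (ψ' v) hw
      rw [e, hwv, inv_mul_cancel_left]
      exact hθa.apply_mem_img hr'
    obtain ⟨s, hs, hsm⟩ := stab_inner hfa hRsV hpow hinvRs hm₀ hm₀R hm₀Z
    refine ⟨θ (a g) * s, S.mul_mem (hθ.mem_S hagN') hs, fun w hw => ?_⟩
    have h1 : (θ (a g))⁻¹ * θ (α (g * ψ' (θ (α w)) * g⁻¹)) * ((θ (a g))⁻¹)⁻¹ =
        s * θ (α w) * s⁻¹ := hsm _ (hψW w hw)
    rw [hψ'ψ' w hw] at h1
    calc θ (α (g * w * g⁻¹))
        = θ (a g) * ((θ (a g))⁻¹ * θ (α (g * w * g⁻¹)) * ((θ (a g))⁻¹)⁻¹) * (θ (a g))⁻¹ := by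
          group
      _ = θ (a g) * (s * θ (α w) * s⁻¹) * (θ (a g))⁻¹ := by rw [h1]
      _ = θ (a g) * s * θ (α w) * (θ (a g) * s)⁻¹ := by group
  have hcond : ∀ g₀ ∈ normalizerIn T R ⊔ centralizerIn S T, g₀ ∈ S ∧
      g₀ ∈ Subgroup.normalizer ((R ⊔ centralizerIn S T : Subgroup Ω) : Set Ω) ∧
      ∃ h' ∈ S, ∀ w ∈ R ⊔ centralizerIn S T, θ (α (g₀ * w * g₀⁻¹)) = h' * θ (α w) * h'⁻¹ := by
    intro g₀ hg₀
    obtain ⟨g, hg, c₀, hc₀, rfl⟩ := sup_decomp hR₁T g₀ hg₀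
    obtain ⟨hg', hg'S, hg'e⟩ := hG2 g hg
    have hc₀W : c₀ ∈ R ⊔ centralizerIn S T := Subgroup.mem_sup_right hc₀
    have hconjc : ∀ w ∈ R ⊔ centralizerIn S T, c₀ * w * c₀⁻¹ ∈ R ⊔ centralizerIn S T :=
      fun w hw => Subgroup.mul_mem _ (Subgroup.mul_mem _ hc₀W hw) (Subgroup.inv_mem _ hc₀W)
    have hsplit : ∀ w : Ω, g * c₀ * w * (g * c₀)⁻¹ = g * (c₀ * w * c₀⁻¹) * g⁻¹ :=
      fun w => by group
    have hgc₀S : g * c₀ ∈ S := S.mul_mem (hTS (hR₁T hg)) (hCS hc₀)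
    have hN : g * c₀ ∈ normalizerIn S (R ⊔ centralizerIn S T) :=
      Helper84.SatCrit.mem_normalizerIn_of_conj hWS hgc₀S (fun w hw => by
        rw [hsplit]; exact hgW g hg _ (hconjc w hw))
    refine ⟨hgc₀S, hN.2, hg' * θ (α c₀), S.mul_mem hg'S (hψ.mem_S hc₀W), fun w hw => ?_⟩
    rw [hsplit, hg'e _ (hconjc w hw)]
    have e : θ (α (c₀ * w * c₀⁻¹)) = θ (α c₀) * θ (α w) * (θ (α c₀))⁻¹ :=
      Helper84.mor_conj_apply hψ hc₀W hw
    rw [e]; group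
  obtain ⟨ψ₂, hψ₂, hψ₂e⟩ := Helper88.receptive_extend hrec hψ hψimg hcond hWW₁
  have hψ₂e' : ∀ w ∈ R ⊔ centralizerIn S T, ψ₂ w = θ (α w) := hψ₂e
  have hgW₁ : ∀ g ∈ normalizerIn T R, g ∈ normalizerIn T R ⊔ centralizerIn S T :=
    fun g hg => Subgroup.mem_sup_left hg
  have hθagT : ∀ g ∈ normalizerIn T R, θ (a g) ∈ T := by
    intro g hg
    exact Helper88.stronglyClosed_mor hTcl
      (inf_le_right : normalizerIn S (img (R ⊔ centralizerIn S T) α) ⊓ T ≤ T)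
      (hθ.res inf_le_left) (a g) ⟨hagN g hg, h.maps g (hR₁T hg)⟩
  have hψ₂T : ∀ g ∈ normalizerIn T R, ψ₂ g ∈ T := fun g hg =>
    Helper88.stronglyClosed_mor hTcl hR₁T (hψ₂.res le_sup_left) g hg
  have hkey : ∀ g ∈ normalizerIn T R, ∃ z ∈ R, ψ₂ g = θ (a (g * z)) := by
    intro g hg
    have hgT := hR₁T hg
    have hcT : (θ (a g))⁻¹ * ψ₂ g ∈ T := T.mul_mem (T.inv_mem (hθagT g hg)) (hψ₂T g hg)
    have hcen : (θ (a g))⁻¹ * ψ₂ g ∈ centralizerIn T (img R (fun x => θ (a x))) := by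
      rw [Helper88.mem_centralizerIn]
      refine ⟨hcT, ?_⟩
      intro y hy
      obtain ⟨x, hx, rfl⟩ := hθa.mem_img.mp hy
      have hgx : g * x * g⁻¹ ∈ R := hgR g hg x hx
      have hxW : x ∈ R ⊔ centralizerIn S T := Subgroup.mem_sup_left hx
      have e1 : ψ₂ (g * x * g⁻¹) = ψ₂ g * θ (a x) * (ψ₂ g)⁻¹ := by
        rw [Helper84.mor_conj_apply hψ₂ (hgW₁ g hg) (hWW₁ hxW), hψ₂e' x hxW, hαa x hx]
      have e2 : ψ₂ (g * x * g⁻¹) = θ (a g) * θ (a x) * (θ (a g))⁻¹ := by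
        rw [hψ₂e' _ (Subgroup.mem_sup_left hgx), hαa _ hgx,
          Helper84.mor_conj_apply haT hgT (hRT hx),
          Helper84.mor_conj_apply hθ (hagN g hg) (haRN x hx)]
      have e3 := e1.symm.trans e2
      show θ (a x) * ((θ (a g))⁻¹ * ψ₂ g) = (θ (a g))⁻¹ * ψ₂ g * θ (a x)
      calc θ (a x) * ((θ (a g))⁻¹ * ψ₂ g)
          = (θ (a g))⁻¹ * (θ (a g) * θ (a x) * (θ (a g))⁻¹) * ψ₂ g := by group
        _ = (θ (a g))⁻¹ * (ψ₂ g * θ (a x) * (ψ₂ g)⁻¹) * ψ₂ g := by rw [e3]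
        _ = (θ (a g))⁻¹ * ψ₂ g * θ (a x) := by group
    have hin := hc _ hθa hcen
    obtain ⟨z, hz, hzc⟩ := hθa.mem_img.mp hin
    refine ⟨z, hz, ?_⟩
    have hzc' : θ (a z) = (θ (a g))⁻¹ * ψ₂ g := hzc
    have hgz : ψ₂ g = θ (a g) * θ (a z) := by rw [hzc']; group
    rw [hgz, haT.map_mul hgT (hRT hz), hθ.map_mul (hagN g hg) (haRN z hz)]
  obtain ⟨θ', hθ', hθ'θ⟩ := hθ.exists_inv
  have hψ₂val : ∀ g ∈ normalizerIn T R, ∀ c ∈ centralizerIn S T, ∃ z ∈ R,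
      ψ₂ g = θ (a (g * z)) ∧ ψ₂ (g * c) = θ (a (g * z) * α c) := by
    intro g hg c hc'
    obtain ⟨z, hz, hgz⟩ := hkey g hg
    have hgzN : g * z ∈ normalizerIn T R := Subgroup.mul_mem _ hg (hRR₁ hz)
    refine ⟨z, hz, hgz, ?_⟩
    rw [hψ₂.map_mul (hgW₁ g hg) (Subgroup.mem_sup_right hc'), hgz,
      hψ₂e' c (Subgroup.mem_sup_right hc'),
      hθ.map_mul (hagN _ hgzN) (hαN c (Subgroup.mem_sup_right hc'))]
  have hα₁ : Mor F (normalizerIn T R ⊔ centralizerIn S T) (fun y => θ' (ψ₂ y)) := by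
    refine hψ₂.comp hθ' (fun y hy => ?_)
    obtain ⟨g, hg, c, hc', rfl⟩ := sup_decomp hR₁T y hy
    obtain ⟨z, hz, -, e⟩ := hψ₂val g hg c hc'
    rw [e]
    exact hθ.apply_mem_img (Subgroup.mul_mem _ (hagN _ (Subgroup.mul_mem _ hg (hRR₁ hz)))
      (hαN c (Subgroup.mem_sup_right hc')))
  have hα₁val : ∀ g ∈ normalizerIn T R, ∀ c ∈ centralizerIn S T, ∃ z ∈ R,
      θ' (ψ₂ g) = a (g * z) ∧ θ' (ψ₂ (g * c)) = a (g * z) * α c := by
    intro g hg c hc'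
    obtain ⟨z, hz, e1, e2⟩ := hψ₂val g hg c hc'
    have hgzN : g * z ∈ normalizerIn T R := Subgroup.mul_mem _ hg (hRR₁ hz)
    refine ⟨z, hz, ?_, ?_⟩
    · rw [e1, hθ'θ _ (hagN _ hgzN)]
    · rw [e2, hθ'θ _ (Subgroup.mul_mem _ (hagN _ hgzN) (hαN c (Subgroup.mem_sup_right hc')))]
  have hα₁C : ∀ c ∈ centralizerIn S T, θ' (ψ₂ c) = α c := by
    intro c hc'
    rw [hψ₂e' c (Subgroup.mem_sup_right hc'), hθ'θ _ (hαN c (Subgroup.mem_sup_right hc'))]
  have hα₁U : ∀ y ∈ normalizerIn T R ⊔ centralizerIn S T,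
      θ' (ψ₂ y) ∈ T ⊔ centralizerIn S T := by
    intro y hy
    obtain ⟨g, hg, c, hc', rfl⟩ := sup_decomp hR₁T y hy
    obtain ⟨z, hz, -, e⟩ := hα₁val g hg c hc'
    obtain ⟨r, hr, hre⟩ := htc c hc'
    rw [e, hre]
    exact Subgroup.mul_mem _
      (Subgroup.mem_sup_left (h.maps _ (T.mul_mem (hR₁T hg) (hRT hz))))
      (Subgroup.mul_mem _ (Subgroup.mem_sup_right hc')
        (Subgroup.mem_sup_left (h.maps r (hRT hr))))
  have hν : Mor F (normalizerIn T R ⊔ centralizerIn S T) (fun y => b' (θ' (ψ₂ y))) :=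
    hα₁.comp h.bmor' hα₁U
  have hνmul : ∀ y ∈ normalizerIn T R ⊔ centralizerIn S T,
      ∀ y' ∈ normalizerIn T R ⊔ centralizerIn S T,
      b' (θ' (ψ₂ (y * y'))) = b' (θ' (ψ₂ y)) * b' (θ' (ψ₂ y')) :=
    fun y hy y' hy' => hν.map_mul hy hy'
  have hνg : ∀ g ∈ normalizerIn T R, ∃ z ∈ R, b' (θ' (ψ₂ g)) = g * z := by
    intro g hg
    obtain ⟨z, hz, e1, -⟩ := hα₁val g hg 1 (Subgroup.one_mem _)
    have hgzT : g * z ∈ T := T.mul_mem (hR₁T hg) (hRT hz)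
    exact ⟨z, hz, by rw [e1, h.bT' _ (h.maps _ hgzT), h.left _ hgzT]⟩
  have hνc : ∀ c ∈ centralizerIn S T, ∃ r ∈ R, b' (θ' (ψ₂ c)) = b' c * r := by
    intro c hc'
    obtain ⟨r, hr, hre⟩ := htc c hc'
    refine ⟨r, hr, ?_⟩
    rw [hα₁C c hc', hre,
      h.bmor'.map_mul (Subgroup.mem_sup_right hc') (Subgroup.mem_sup_left (h.maps r (hRT hr))),
      h.bT' _ (h.maps r (hRT hr)), h.left r (hRT hr)]
  have hνR : ∀ x ∈ R, b' (θ' (ψ₂ x)) = x := by
    intro x hx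
    rw [hψ₂e' x (Subgroup.mem_sup_left hx), hθ'θ _ (hαN x (Subgroup.mem_sup_left hx)),
      hαa x hx, h.bT' _ (h.maps x (hRT hx)), h.left x (hRT hx)]
  have hνN : ∀ g ∈ normalizerIn T R, b' (θ' (ψ₂ g)) ∈ normalizerIn T R := by
    intro g hg
    obtain ⟨z, hz, e⟩ := hνg g hg
    rw [e]; exact Subgroup.mul_mem _ hg (hRR₁ hz)
  have hνW₁ : ∀ y ∈ normalizerIn T R ⊔ centralizerIn S T,
      b' (θ' (ψ₂ y)) ∈ normalizerIn T R ⊔ centralizerIn S T := by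
    intro y hy
    obtain ⟨g, hg, c, hc', rfl⟩ := sup_decomp hR₁T y hy
    obtain ⟨r, hr, hre⟩ := hνc c hc'
    rw [hνmul g (hgW₁ g hg) c (Subgroup.mem_sup_right hc'), hre]
    exact Subgroup.mul_mem _ (Subgroup.mem_sup_left (hνN g hg))
      (Subgroup.mul_mem _ (Subgroup.mem_sup_right (h.bC' c hc'))
        (Subgroup.mem_sup_left (hRR₁ hr)))
  have hδiter : ∀ g ∈ normalizerIn T R, ∀ z ∈ R, b' (θ' (ψ₂ g)) = g * z → ∀ j : ℕ,
      (fun y => b' (θ' (ψ₂ y)))^[j] g = g * z ^ j := by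
    intro g hg z hz hgz j
    induction j with
    | zero => simp
    | succ j ih =>
      rw [Function.iterate_succ_apply', ih]
      show b' (θ' (ψ₂ (g * z ^ j))) = g * z ^ (j + 1)
      rw [hνmul g (hgW₁ g hg) _ (hgW₁ _ (hRR₁ (R.pow_mem hz j))), hgz,
        hνR _ (R.pow_mem hz j), pow_succ']
      group
  have hδcard : ∀ g ∈ normalizerIn T R, (fun y => b' (θ' (ψ₂ y)))^[Nat.card T] g = g := by
    intro g hg
    obtain ⟨z, hz, h1⟩ := hνg g hg
    rw [hδiter g hg z hz h1]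
    have hz1 : z ^ Nat.card T = 1 := by
      have h2 : (⟨z, hRT hz⟩ : T) ^ Nat.card T = 1 := pow_card_eq_one'
      have h3 : (((⟨z, hRT hz⟩ : T) ^ Nat.card T : T) : Ω) = ((1 : T) : Ω) :=
        congrArg Subtype.val h2
      rw [Subgroup.coe_pow, Subgroup.coe_one] at h3
      exact h3
    rw [hz1, mul_one]
  have hνCiter : ∀ j : ℕ, ∀ c ∈ centralizerIn S T, ∃ n ∈ normalizerIn T R,
      (fun y => b' (θ' (ψ₂ y)))^[j] c = b'^[j] c * n := by
    intro j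
    induction j with
    | zero => intro c hc'; exact ⟨1, Subgroup.one_mem _, by simp⟩
    | succ j ih =>
      intro c hc'
      obtain ⟨n, hn, e⟩ := ih c hc'
      have hbjC : b'^[j] c ∈ centralizerIn S T := iterate_mem h.bC' j c hc'
      obtain ⟨r, hr, hre⟩ := hνc _ hbjC
      refine ⟨r * b' (θ' (ψ₂ n)), Subgroup.mul_mem _ (hRR₁ hr) (hνN n hn), ?_⟩
      rw [Function.iterate_succ_apply', e, Function.iterate_succ_apply']
      show b' (θ' (ψ₂ (b'^[j] c * n))) = b' (b'^[j] c) * (r * b' (θ' (ψ₂ n)))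
      rw [hνmul _ (Subgroup.mem_sup_right hbjC) n (hgW₁ n hn), hre, mul_assoc]
  have hνiter : Mor F (normalizerIn T R ⊔ centralizerIn S T)
      ((fun y => b' (θ' (ψ₂ y)))^[Nat.card T]) := mor_iterate hν hνW₁ _
  have hbiter : Mor F (T ⊔ centralizerIn S T) (b^[Nat.card T]) := mor_iterate h.bmor h.bU _
  have hνiterW₁ := iterate_mem hνW₁ (Nat.card T)
  refine ⟨hR₁T, fun y => b^[Nat.card T] ((fun y => b' (θ' (ψ₂ y)))^[Nat.card T] y),
    hνiter.comp hbiter (fun y hy => hW₁U (hνiterW₁ y hy)), ?_, ?_⟩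
  · intro g hg
    show b^[Nat.card T] ((fun y => b' (θ' (ψ₂ y)))^[Nat.card T] g) = a^[Nat.card T] g
    rw [hδcard g hg]
    exact iterate_agree h.bT h.maps _ g (hR₁T hg)
  · intro c hc'
    obtain ⟨n, hn, e⟩ := hνCiter (Nat.card T) c hc'
    show c⁻¹ * b^[Nat.card T] ((fun y => b' (θ' (ψ₂ y)))^[Nat.card T] c) ∈ T
    have hbjC : b'^[Nat.card T] c ∈ centralizerIn S T := iterate_mem h.bC' _ c hc'
    rw [e, hbiter.map_mul (Subgroup.mem_sup_right hbjC) (Subgroup.mem_sup_left (hR₁T hn)),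
      iterate_left_inv h.bC' h.bright _ c hc', iterate_agree h.bT h.maps _ n (hR₁T hn)]
    have e3 : c⁻¹ * (c * a^[Nat.card T] n) = a^[Nat.card T] n := by group
    rw [e3]
    exact iterate_mem h.maps _ n (hR₁T hn)

/-- The power trick: some `p`-power iterate of `a` extends to `T C_S(T)`. -/
theorem ext_up [Finite S] {p : ℕ} [Fact p.Prime] (hS : IsPGroup p S) {F : FusionSystem S}
    (hF : F.IsSaturated p) (hTcl : F.StronglyClosed T) :
    ∀ (m : ℕ) (a a' b b' : Ω → Ω) (R : Subgroup Ω), Pkg F T a a' b b' →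
      Nat.card T - Nat.card R = m → TC F T R → Ext F T R a →
      ∃ K : ℕ, Ext F T T (a^[p ^ K]) := by
  intro m
  induction m using Nat.strong_induction_on with
  | _ m ih =>
    intro a a' b b' R h hm hc hR
    have hTS : T ≤ S := hTcl.1
    have hRT : R ≤ T := hR.1
    haveI hfinT : Finite T := Finite.of_injective _ (Subgroup.inclusion_injective hTS)
    have hT : IsPGroup p T := hS.to_le hTS
    by_cases heq : R = T
    · refine ⟨0, ?_⟩
      rw [heq] at hR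
      exact hR.congr (fun x _ => by simp)
    · have hlt : R < T := lt_of_le_of_ne hRT heq
      have hlt2 := Helper88.normalizer_grow hT (le_refl T) hlt
      have hstep := ext_step hS hF hTcl h hc hR
      have hR₁T : normalizerIn T R ≤ T := inf_le_left
      haveI : Finite (T ⊓ Subgroup.normalizer (R : Set Ω) : Subgroup Ω) :=
        Finite.of_injective _ (Subgroup.inclusion_injective hR₁T)
      have hcard : Nat.card R < Nat.card (normalizerIn T R) := by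
        by_contra hcon
        exact hlt2.ne (Subgroup.eq_of_le_of_card_ge hlt2.le (not_lt.mp hcon))
      have hcard2 : Nat.card (normalizerIn T R) ≤ Nat.card T := Subgroup.card_le_of_le hR₁T
      obtain ⟨n, hn⟩ := IsPGroup.iff_card.mp hT
      obtain ⟨K, hK⟩ := ih (Nat.card T - Nat.card (normalizerIn T R)) (by omega)
        (a^[Nat.card T]) (a'^[Nat.card T]) (b^[Nat.card T]) (b'^[Nat.card T])
        (normalizerIn T R) (h.iterate _) rfl (hc.over hlt2.le) hstep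
      refine ⟨n + K, ?_⟩
      have e : a^[p ^ (n + K)] = (a^[Nat.card T])^[p ^ K] := by
        rw [← Function.iterate_mul, hn, pow_add]
      rw [e]
      exact hK

end Cfsg.Agent.Lib.Helper42.PNorm
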