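import Mathlib
import Cfsg.Agent.Lib.Helper42.PNormE

set_option autoImplicit false
set_option linter.style.haveILetI false

/-!
# Part F: the `p'`-residual subsystem of a weakly normal subsystem is normal
-/

namespace Cfsg.Agent.Lib.Helper42.PNorm

open Cfsg Cfsg.FusionSystem Cfsg.Agent.Lib.Helper84 Cfsg.Agent.Lib.Helper84.SatCrit
open Cfsg.Agent.Lib.Helper84.PPrimeRes
open Cfsg.Agent.Lib.Helper88 (Mor extFun extFun_mem extFun_apply img mor_of_hom hom_of_mor
  mor_conj mor_id)
open Cfsg.Agent.Lib.Helper42.PRes (TC NA si_aut pelt_mem tc_of_centric frSys_isPPrimeResidual)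

variable {Ω : Type*} [Group Ω] {S T : Subgroup Ω}

/-- the generating maps of the residual subsystem extend, on subgroups all of whose
`F`-conjugates are `T`-centric. -/
theorem ext_g0 [Finite S] {p : ℕ} [Fact p.Prime] (hS : IsPGroup p S) {F : FusionSystem S}
    (hF : F.IsSaturated p) {E : FusionSystem T} (hEsat : E.IsSaturated p)
    (hEinv : E.IsInvariantIn F) {P : Subgroup Ω} {f : Ω → Ω} (h : G0 E p P f) :
    TC F T P → Ext F T P f := by
  have hTcl := hEinv.2.1
  have hEF := hEinv.1
  induction h with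
  | base R P f₁ f hc hPR hf₁ hmaps hk hff =>
    intro _
    exact ((ext_base hS hF hEsat hEinv hc hf₁ hmaps hk).res hPR).congr
      (fun x hx => (hff x hx).symm)
  | comp P f g h hf hg hh ihf ihg =>
    intro htc
    have hfF : Mor F P f := Helper88.subsystem_mor hEF hf.mor
    have h1 := ihf htc
    have h2 := ihg (tc_img htc hfF)
    exact (ext_comp hTcl h1 h2 (fun x hx => hfF.apply_mem_img hx) (htc f hfF)).congr
      (fun x hx => (hh x hx).symm)

/-- the inverse of an extendable automorphism of `T` is extendable. -/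
theorem ext_inv [Finite S] {F : FusionSystem S} (hTcl : F.StronglyClosed T) (α : MulAut T)
    (hα : Ext F T T (autFun α)) : Ext F T T (autFun α⁻¹) := by
  obtain ⟨-, g, hg, hgα, hgc⟩ := hα
  have hgU : ∀ y ∈ T ⊔ centralizerIn S T, g y ∈ T ⊔ centralizerIn S T := by
    intro y hy
    obtain ⟨x, hx, c, hc', rfl⟩ := sup_decomp (le_refl T) y hy
    rw [hg.map_mul (Subgroup.mem_sup_left hx) (Subgroup.mem_sup_right hc'), hgα x hx]
    have e : g c = c * (c⁻¹ * g c) := by group
    rw [e]
    exact Subgroup.mul_mem _ (Subgroup.mem_sup_left (autFun_mem_R _ hx))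
      (Subgroup.mul_mem _ (Subgroup.mem_sup_right hc') (Subgroup.mem_sup_left (hgc c hc')))
  have himgU : img (T ⊔ centralizerIn S T) g = T ⊔ centralizerIn S T := hg.img_eq_self hgU
  obtain ⟨g', hg', -, hg'g, hgg'⟩ := hg.exists_inv_img himgU
  have hg'T : ∀ x ∈ T, g' x = autFun α⁻¹ x := by
    intro x hx
    have hx' : autFun α⁻¹ x ∈ T := autFun_mem_R _ hx
    have h3 := hg'g _ (Subgroup.mem_sup_left hx')
    rw [hgα _ hx', autFun_inv' _ hx] at h3
    exact h3
  refine ⟨le_rfl, g', hg', hg'T, ?_⟩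
  intro c hc'
  have hcU : c ∈ T ⊔ centralizerIn S T := Subgroup.mem_sup_right hc'
  have htT : c⁻¹ * g c ∈ T := hgc c hc'
  have htU : c⁻¹ * g c ∈ T ⊔ centralizerIn S T := Subgroup.mem_sup_left htT
  have e0 : g c = c * (c⁻¹ * g c) := by group
  have e1 : g' (c * (c⁻¹ * g c)) = c := by
    rw [← e0]; exact hg'g c hcU
  have e2 : g' (c * (c⁻¹ * g c)) = g' c * g' (c⁻¹ * g c) := hg'.map_mul hcU htU
  have h3 : g' c * g' (c⁻¹ * g c) = c := e2.symm.trans e1
  have h4 : c⁻¹ * g' c = (g' (c⁻¹ * g c))⁻¹ := by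
    calc c⁻¹ * g' c = (g' c * g' (c⁻¹ * g c))⁻¹ * g' c := by rw [h3]
      _ = (g' (c⁻¹ * g c))⁻¹ := by group
  rw [h4, hg'T _ htT]
  exact T.inv_mem (autFun_mem_R _ htT)

/-- the subgroup of the automorphisms of `T` that extend to `T C_S(T)` acting trivially on
`C_S(T)` modulo `T`. -/
def extSub [Finite S] (F : FusionSystem S) (T : Subgroup Ω) (hTcl : F.StronglyClosed T) :
    Subgroup (MulAut T) where
  carrier := {α | Ext F T T (autFun α)}
  one_mem' := (ext_id F hTcl.1 le_rfl).congr (fun x hx => (autFun_one hx).symm)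
  mul_mem' := by
    intro α β hα hβ
    have hα' : Ext F T T (autFun α) := hα
    have hβ' : Ext F T T (autFun β) := hβ
    have hβm : Mor F T (autFun β) := hβ'.mor
    have himg : img T (autFun β) = T := hβm.img_eq_self (fun x hx => autFun_mem_R _ hx)
    have hcen : centralizerIn T (img T (autFun β)) ≤ img T (autFun β) := by
      rw [himg]; exact inf_le_left
    exact (ext_comp hTcl hβ' hα' (fun x hx => autFun_mem_R _ hx) hcen).congr
      (fun x hx => (autFun_mul α β hx).symm)
  inv_mem' := by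
    intro α hα
    exact ext_inv hTcl α hα

theorem mem_extSub [Finite S] (F : FusionSystem S) (T : Subgroup Ω) (hTcl : F.StronglyClosed T)
    (α : MulAut T) : α ∈ extSub F T hTcl ↔ Ext F T T (autFun α) := Iff.rfl

/-- The `p'`-residual subsystem of a weakly normal subsystem `E` of a saturated system `F` is
normal in `F`. -/
theorem residual_normal [Finite S] (p : ℕ) [Fact p.Prime] (hS : IsPGroup p S)
    (F : FusionSystem S) (hF : F.IsSaturated p) (E : FusionSystem T)
    (hE : E.IsWeaklyNormalIn F p) (D : FusionSystem T) (hD : E.IsPPrimeResidual p D) :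
    D.IsNormalIn F p := by
  have hinvD := Helper88.invariant_of_invData (inv_data p hS F E hE D hD)
  have hwn : D.IsWeaklyNormalIn F p := ⟨hD.1, hF, hinvD⟩
  refine Helper88.normal_of_extCond hwn ?_
  obtain ⟨hEsat, -, hEinv⟩ := hE
  have hEF := hEinv.1
  have hTcl := hEinv.2.1
  have hTS : T ≤ S := hTcl.1
  haveI hfinT : Finite T := Finite.of_injective _ (Subgroup.inclusion_injective hTS)
  have hT : IsPGroup p T := hS.to_le hTS
  have hres := frSys_isPPrimeResidual p hT E hEsat
  have hDR0 := hD.2.2 _ hres.1 hres.2.1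
  have hcT : E.IsCentric T := centric_top E
  have htcT : TC F T T := tc_of_centric hEinv hcT
  -- the generators of `Aut⁰_E(T)`
  have hgen : ∀ a : E.autGroup T, (∃ R, E.IsCentric R ∧ G0 E p R (autFun (a : MulAut T))) →
      (a : MulAut T) ∈ extSub F T hTcl := by
    rintro a ⟨R, hc, hg⟩
    have htcR : TC F T R := tc_of_centric hEinv hc
    have hRa : Ext F T R (autFun (a : MulAut T)) := ext_g0 hS hF hEsat hEinv hg htcR
    have haE : Mor E T (autFun (a : MulAut T)) := autFun_mor E le_rfl a.2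
    have haF : Mor F T (autFun (a : MulAut T)) := Helper88.subsystem_mor hEF haE
    obtain ⟨a', b, b', hpkg⟩ := pkg_exists hF hTcl haF
    obtain ⟨K, hK⟩ := ext_up hS hF hTcl _ _ _ _ _ R hpkg rfl htcR hRa
    have h1 : (a : MulAut T) ^ p ^ K ∈ extSub F T hTcl := by
      rw [mem_extSub]
      exact hK.congr (fun x hx => (autFun_pow_iterate (a : MulAut T) (p ^ K) x hx).symm)
    haveI : Finite (MulAut T) := by
      haveI : Finite (T ≃ T) := inferInstance
      exact Finite.of_injective (fun e : MulAut T => e.toEquiv) (fun e₁ e₂ h => by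
        apply MulEquiv.ext; intro x; exact congrArg (fun e : T ≃ T => e x) h)
    have ho : orderOf (a : MulAut T) ≠ 0 := (orderOf_pos _).ne'
    obtain ⟨e, m, hpm, hom⟩ := Nat.exists_eq_pow_mul_and_not_dvd ho p (Fact.out : p.Prime).ne_one
    have h2 : (a : MulAut T) ^ m ∈ extSub F T hTcl := by
      have hmE : (a : MulAut T) ^ m ∈ E.autGroup T := (E.autGroup T).pow_mem a.2 m
      rw [mem_extSub]
      refine ext_base hS hF hEsat hEinv hcT (autFun_mor E le_rfl hmE)
        (fun x hx => autFun_mem_R _ hx) ⟨e, fun x hx => ?_⟩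
      rw [← autFun_pow_iterate _ _ x hx]
      have h3 : ((a : MulAut T) ^ m) ^ p ^ e = 1 := by
        rw [← pow_mul, mul_comm, ← hom]
        exact pow_orderOf_eq_one _
      rw [h3]
      exact autFun_one hx
    have hcop : Nat.Coprime (p ^ K) m :=
      Nat.Coprime.pow_left K ((Nat.Prime.coprime_iff_not_dvd (Fact.out : p.Prime)).mpr hpm)
    have hbez := Nat.gcd_eq_gcd_ab (p ^ K) m
    rw [hcop] at hbez
    have h4 : (a : MulAut T) =
        ((a : MulAut T) ^ p ^ K) ^ (Nat.gcdA (p ^ K) m) *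
          ((a : MulAut T) ^ m) ^ (Nat.gcdB (p ^ K) m) := by
      rw [← zpow_natCast, ← zpow_natCast, ← zpow_mul, ← zpow_mul, ← zpow_add, ← hbez]
      simp
    rw [h4]
    exact (extSub F T hTcl).mul_mem ((extSub F T hTcl).zpow_mem h1 _)
      ((extSub F T hTcl).zpow_mem h2 _)
  have hA : ∀ a ∈ A0 E p, ((a : E.autGroup T) : MulAut T) ∈ extSub F T hTcl := by
    intro a ha
    unfold A0 at ha
    induction ha using Subgroup.closure_induction with
    | mem a ha => exact hgen a ha
    | one => exact (extSub F T hTcl).one_mem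
    | mul a b _ _ iha ihb => exact (extSub F T hTcl).mul_mem iha ihb
    | inv a _ iha => exact (extSub F T hTcl).inv_mem iha
  -- the extension condition
  intro f hf hfT
  have hfR0 := Helper88.subsystem_mor hDR0 hf
  obtain ⟨α, hα, f₀, hf₀, hfa⟩ := mor_frSys_iff.mp hfR0
  have h1 : Ext F T T f₀ := ext_g0 hS hF hEsat hEinv hf₀ htcT
  have h2 : Ext F T T (autFun ((α : E.autGroup T) : MulAut T)) := hA α hα
  have hf₀F : Mor F T f₀ := h1.mor
  have hext : Ext F T T f :=
    (ext_comp hTcl h1 h2 (fun x hx => Helper88.stronglyClosed_mor hTcl le_rfl hf₀F x hx)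
      (htcT f₀ hf₀F)).congr (fun x hx => (hfa x hx).symm)
  have hfF : Mor F T f := hext.mor
  obtain ⟨-, g, hg, hgf, hgc⟩ := hext
  refine ⟨g, hg, ?_, hgf, ?_⟩
  · intro y hy
    obtain ⟨x, hx, c, hc', rfl⟩ := sup_decomp (le_refl T) y hy
    rw [hg.map_mul (Subgroup.mem_sup_left hx) (Subgroup.mem_sup_right hc'), hgf x hx]
    have e : g c = c * (c⁻¹ * g c) := by group
    rw [e]
    exact Subgroup.mul_mem _ (Subgroup.mem_sup_left (hfT x hx))
      (Subgroup.mul_mem _ (Subgroup.mem_sup_right hc') (Subgroup.mem_sup_left (hgc c hc')))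
  · intro c hc'
    have himgT : img T f = T := hfF.img_eq_self hfT
    have hcen := ext_cen (le_refl T) hfT hfF hg hgf hgc c hc'
    rw [himgT] at hcen
    exact hcen

end Cfsg.Agent.Lib.Helper42.PNorm
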