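import Mathlib
import Cfsg.Agent.Lib.Helper42.CenA
import Cfsg.Agent.Lib.Helper42.PChiC
import Cfsg.Agent.Lib.Helper42.PNormF

set_option autoImplicit false
set_option linter.style.haveILetI false

/-!
# Centralizers of normal subsystems.  Part B

Every map of a normal subsystem `E` on an `E`-centric subgroup `R` extends to `R C_S(T)` acting
trivially on `C_S(T)` modulo `T`; such extensions fix the commutators of `C_S(T)`.
-/

namespace Cfsg.Agent.Lib.Helper42.Cen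

open Cfsg Cfsg.FusionSystem Cfsg.Agent.Lib.Helper84 Cfsg.Agent.Lib.Helper84.SatCrit
open Cfsg.Agent.Lib.Helper84.PPrimeRes
open Cfsg.Agent.Lib.Helper88 (Mor extFun extFun_mem extFun_apply img mor_of_hom hom_of_mor
  mor_conj mor_id)
open Cfsg.Agent.Lib.Helper42.PRes (TC NA si_aut pelt_mem tc_of_centric frSys_isPPrimeResidual)
open Cfsg.Agent.Lib.Helper42.PNorm

variable {Ω : Type*} [Group Ω] {S T : Subgroup Ω}

/-- every map of a normal subsystem on a centric subgroup extends to `R C_S(T)` acting trivially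
on `C_S(T)` modulo `T`. -/
theorem ext_all [Finite S] (p : ℕ) [Fact p.Prime] (hS : IsPGroup p S) (F : FusionSystem S)
    (hF : F.IsSaturated p) (E : FusionSystem T) (hE : E.IsNormalIn F p) {R : Subgroup Ω}
    (hc : E.IsCentric R) {ρ : Ω → Ω} (hρ : Mor E R ρ) : Ext F T R ρ := by
  obtain ⟨⟨hEsat, -, hEinv⟩, -⟩ := id hE
  have hEF := hEinv.1
  have hTcl := hEinv.2.1
  have hTS : T ≤ S := hTcl.1
  haveI hfinT : Finite T := Finite.of_injective _ (Subgroup.inclusion_injective hTS)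
  have hT : IsPGroup p T := hS.to_le hTS
  have htc : TC F T R := tc_of_centric hEinv hc
  have hext := Helper88.extCond_of_normal hE
  have hbase : ∀ β : E.autGroup T, Ext F T T (autFun (β : MulAut T)) := by
    intro β
    obtain ⟨g, hg, -, hgf, hgc⟩ :=
      hext _ (autFun_mor E le_rfl β.2) (fun x hx => autFun_mem_R _ hx)
    exact ⟨le_rfl, g, hg, hgf, fun c hc' => (hgc c hc').1⟩
  obtain ⟨-, hfr, -⟩ := Helper42.PChi.fr_facts p hT E hEsat (A0 E p) (A0_inner hT E)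
  obtain ⟨α, f₀, hf₀, hρf⟩ := hfr R ρ hρ
  obtain ⟨a, -, g₀, hg₀, hfa⟩ := mor_frSys_iff.mp hf₀
  have h1 : Ext F T R g₀ := ext_g0 hS hF hEsat hEinv hg₀ htc
  have hg₀E : Mor E R g₀ := hg₀.mor
  have hg₀F : Mor F R g₀ := Helper88.subsystem_mor hEF hg₀E
  have h2 : Ext F T R (fun x => autFun ((a : E.autGroup T) : MulAut T) (g₀ x)) :=
    ext_comp hTcl h1 (hbase a) (fun x hx => hg₀E.mem_S hx) (htc g₀ hg₀F)
  have h2F : Mor F R (fun x => autFun ((a : E.autGroup T) : MulAut T) (g₀ x)) := h2.mor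
  have h3 : Ext F T R (fun x => autFun ((α : E.autGroup T) : MulAut T)
      (autFun ((a : E.autGroup T) : MulAut T) (g₀ x))) :=
    ext_comp hTcl h2 (hbase α) (fun x hx => autFun_mem_R _ (hg₀E.mem_S hx)) (htc _ h2F)
  exact h3.congr (fun x hx => by rw [hρf x hx, hfa x hx])

/-- elements of `R P` are products, when `P` centralizes `R`. -/
theorem sup_decomp2 {R P : Subgroup Ω} (hcomm : ∀ r ∈ R, ∀ c ∈ P, r * c = c * r) :
    ∀ y ∈ R ⊔ P, ∃ r ∈ R, ∃ c ∈ P, y = r * c := by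
  let K : Subgroup Ω :=
    { carrier := {y | ∃ x ∈ R, ∃ c ∈ P, y = x * c}
      one_mem' := ⟨1, R.one_mem, 1, P.one_mem, by simp⟩
      mul_mem' := by
        rintro _ _ ⟨x, hx, c, hc, rfl⟩ ⟨x', hx', c', hc', rfl⟩
        refine ⟨x * x', R.mul_mem hx hx', c * c', P.mul_mem hc hc', ?_⟩
        have := hcomm x' hx' c hc
        calc x * c * (x' * c') = x * (c * x') * c' := by group
          _ = x * (x' * c) * c' := by rw [this]
          _ = x * x' * (c * c') := by group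
      inv_mem' := by
        rintro _ ⟨x, hx, c, hc, rfl⟩
        refine ⟨x⁻¹, R.inv_mem hx, c⁻¹, P.inv_mem hc, ?_⟩
        have := hcomm x⁻¹ (R.inv_mem hx) c⁻¹ (P.inv_mem hc)
        rw [this]; group }
  have hle : R ⊔ P ≤ K :=
    sup_le (fun x hx => ⟨x, hx, 1, P.one_mem, by simp⟩)
      (fun c hc => ⟨1, R.one_mem, c, hc, by simp⟩)
  intro y hy
  exact hle hy

/-- an extension acting trivially on `C_S(T)` modulo the centre of `R` fixes the commutators of
`C_S(T)`. -/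
theorem fix_comm {F : FusionSystem S} {R : Subgroup Ω} {ρ : Ω → Ω} (hExt : Ext F T R ρ)
    (hρR : ∀ x ∈ R, ρ x ∈ R) (himg : img R ρ = R) (hcR : centralizerIn T R ≤ R) :
    ∃ a' : Ω → Ω, Mor F (R ⊔ ⁅centralizerIn S T, centralizerIn S T⁆) a' ∧
      (∀ x ∈ R, a' x = ρ x) ∧ ∀ x ∈ ⁅centralizerIn S T, centralizerIn S T⁆, a' x = x := by
  have hρm : Mor F R ρ := hExt.mor
  obtain ⟨hRT, b, hb, hbρ, hbc⟩ := hExt
  have hz : ∀ c ∈ centralizerIn S T, c⁻¹ * b c ∈ centralizerIn T R := by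
    intro c hc
    have h1 := ext_cen hRT (fun x hx => hRT (hρR x hx)) hρm hb hbρ hbc c hc
    rw [himg] at h1
    exact h1
  have hXle : ⁅centralizerIn S T, centralizerIn S T⁆ ≤ centralizerIn S T := by
    rw [Subgroup.commutator_le]
    intro a ha b hb
    exact Subgroup.mul_mem _ (Subgroup.mul_mem _ (Subgroup.mul_mem _ ha hb)
      (Subgroup.inv_mem _ ha)) (Subgroup.inv_mem _ hb)
  have hfix : ∀ x ∈ ⁅centralizerIn S T, centralizerIn S T⁆, b x = x := by
    intro x hx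
    rw [Subgroup.commutator_def] at hx
    induction hx using Subgroup.closure_induction with
    | mem x hx =>
      obtain ⟨c, hc, d, hd, rfl⟩ := hx
      have hcU : c ∈ R ⊔ centralizerIn S T := Subgroup.mem_sup_right hc
      have hdU : d ∈ R ⊔ centralizerIn S T := Subgroup.mem_sup_right hd
      have hzc := hz c hc
      have hzd := hz d hd
      have hzcT : c⁻¹ * b c ∈ T := hzc.1
      have hzdT : d⁻¹ * b d ∈ T := hzd.1
      -- commutation facts
      have e1 : (c⁻¹ * b c) * d = d * (c⁻¹ * b c) :=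
        (Helper88.mem_centralizerIn.mp hd).2 _ hzcT
      have e2' : (c⁻¹ * b c) * (d⁻¹ * b d) = (d⁻¹ * b d) * (c⁻¹ * b c) :=
        (Helper88.mem_centralizerIn.mp hzd).2 _ (hcR hzc)
      have e3' : (d⁻¹ * b d) * c = c * (d⁻¹ * b d) :=
        (Helper88.mem_centralizerIn.mp hc).2 _ hzdT
      have e2 : (c⁻¹ * b c) * (d⁻¹ * b d) * (c⁻¹ * b c)⁻¹ = d⁻¹ * b d := by
        rw [e2']; group
      have e3 : (d⁻¹ * b d) * c⁻¹ * (d⁻¹ * b d)⁻¹ = c⁻¹ := by
        have h4 : (d⁻¹ * b d) * c⁻¹ = c⁻¹ * (d⁻¹ * b d) := by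
          calc (d⁻¹ * b d) * c⁻¹ = c⁻¹ * (c * (d⁻¹ * b d)) * c⁻¹ := by group
            _ = c⁻¹ * ((d⁻¹ * b d) * c) * c⁻¹ := by rw [e3']
            _ = c⁻¹ * (d⁻¹ * b d) := by group
        rw [h4]; group
      rw [commutatorElement_def]
      rw [hb.map_mul (Subgroup.mul_mem _ (Subgroup.mul_mem _ hcU hdU) (Subgroup.inv_mem _ hcU))
        (Subgroup.inv_mem _ hdU), hb.map_mul (Subgroup.mul_mem _ hcU hdU) (Subgroup.inv_mem _ hcU),
        hb.map_mul hcU hdU, hb.map_inv hcU, hb.map_inv hdU]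
      calc b c * b d * (b c)⁻¹ * (b d)⁻¹
          = c * ((c⁻¹ * b c) * d) * ((d⁻¹ * b d) * (c⁻¹ * b c)⁻¹) * c⁻¹ * (d⁻¹ * b d)⁻¹ * d⁻¹ := by
            group
        _ = c * (d * (c⁻¹ * b c)) * ((d⁻¹ * b d) * (c⁻¹ * b c)⁻¹) * c⁻¹ * (d⁻¹ * b d)⁻¹ * d⁻¹ := by
            rw [e1]
        _ = c * d * ((c⁻¹ * b c) * (d⁻¹ * b d) * (c⁻¹ * b c)⁻¹) * c⁻¹ * (d⁻¹ * b d)⁻¹ * d⁻¹ := by
            group
        _ = c * d * (d⁻¹ * b d) * c⁻¹ * (d⁻¹ * b d)⁻¹ * d⁻¹ := by rw [e2]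
        _ = c * d * ((d⁻¹ * b d) * c⁻¹ * (d⁻¹ * b d)⁻¹) * d⁻¹ := by group
        _ = c * d * c⁻¹ * d⁻¹ := by rw [e3]
    | one => exact hb.map_one
    | mul x y hx hy ihx ihy =>
      have hx' : x ∈ ⁅centralizerIn S T, centralizerIn S T⁆ := by
        rw [Subgroup.commutator_def]; exact hx
      have hy' : y ∈ ⁅centralizerIn S T, centralizerIn S T⁆ := by
        rw [Subgroup.commutator_def]; exact hy
      rw [hb.map_mul (Subgroup.mem_sup_right (hXle hx')) (Subgroup.mem_sup_right (hXle hy')),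
        ihx, ihy]
    | inv x hx ihx =>
      have hx' : x ∈ ⁅centralizerIn S T, centralizerIn S T⁆ := by
        rw [Subgroup.commutator_def]; exact hx
      rw [hb.map_inv (Subgroup.mem_sup_right (hXle hx')), ihx]
  exact ⟨b, hb.res (sup_le_sup_left hXle R), hbρ, hfix⟩

end Cfsg.Agent.Lib.Helper42.Cen
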