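import Mathlib
import Cfsg.Agent.Lib.Helper42.CenB

set_option autoImplicit false
set_option linter.style.haveILetI false
set_option maxHeartbeats 1600000

/-!
# Centralizers of normal subsystems.  Part C

Let `ψ` be an automorphism of order prime to `p` of `P ≤ C_S(T)` in the centralizer system of
`T`.  Every extendable automorphism of a `T`-centric subgroup `R ≤ T` has an extension to
`R [P, ψ]` that fixes `[P, ψ]` elementwise.
-/

namespace Cfsg.Agent.Lib.Helper42.Cen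

open Cfsg Cfsg.FusionSystem Cfsg.Agent.Lib.Helper84 Cfsg.Agent.Lib.Helper84.SatCrit
open Cfsg.Agent.Lib.Helper84.PPrimeRes
open Cfsg.Agent.Lib.Helper88 (Mor extFun extFun_mem extFun_apply img mor_of_hom hom_of_mor
  mor_conj mor_id)
open Cfsg.Agent.Lib.Helper42.PRes (TC NA si_aut pelt_mem tc_of_centric frSys_isPPrimeResidual)
open Cfsg.Agent.Lib.Helper42.PNorm

variable {Ω : Type*} [Group Ω] {S T : Subgroup Ω}

theorem fix_aut [Finite S] {p : ℕ} [Fact p.Prime] (hS : IsPGroup p S) {F : FusionSystem S}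
    {R P : Subgroup Ω} {ρ ψ : Ω → Ω} (hTS : T ≤ S) (hExt : Ext F T R ρ)
    (hρR : ∀ x ∈ R, ρ x ∈ R) (himg : img R ρ = R) (hcR : centralizerIn T R ≤ R)
    (hP : P ≤ centralizerIn S T) (hψ : Mor F (P ⊔ T) ψ) (hψT : ∀ x ∈ T, ψ x = x)
    (hψP : ∀ x ∈ P, ψ x ∈ P) (m : ℕ) (hm : Nat.Coprime m p) (hψm : ∀ x ∈ P, ψ^[m] x = x) :
    ∃ a' : Ω → Ω, Mor F (R ⊔ Subgroup.closure {y | ∃ c ∈ P, y = c⁻¹ * ψ c}) a' ∧
      (∀ x ∈ R, a' x = ρ x) ∧
      ∀ x ∈ Subgroup.closure {y | ∃ c ∈ P, y = c⁻¹ * ψ c}, a' x = x := by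
  have hρm : Mor F R ρ := hExt.mor
  obtain ⟨hRT, b, hb, hbρ, hbc⟩ := hExt
  have hRS : R ≤ S := hRT.trans hTS
  have hPS : P ≤ S := hP.trans inf_le_left
  haveI hfinR : Finite R := Finite.of_injective _ (Subgroup.inclusion_injective hRS)
  have hcomm : ∀ r ∈ T, ∀ c ∈ P, r * c = c * r := fun r hr c hc =>
    (Helper88.mem_centralizerIn.mp (hP hc)).2 r hr
  have hWS : R ⊔ P ≤ S := sup_le hRS hPS
  have hRW : R ≤ R ⊔ P := le_sup_left
  have hPW : P ≤ R ⊔ P := le_sup_right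
  have hdec : ∀ y ∈ R ⊔ P, ∃ r ∈ R, ∃ c ∈ P, y = r * c :=
    sup_decomp2 (fun r hr c hc => hcomm r (hRT hr) c hc)
  have hz : ∀ c ∈ centralizerIn S T, c⁻¹ * b c ∈ R := by
    intro c hc
    have h1 := ext_cen hRT (fun x hx => hRT (hρR x hx)) hρm hb hbρ hbc c hc
    rw [himg] at h1
    exact hcR h1
  -- `b` on `W`
  have hbW : Mor F (R ⊔ P) b := hb.res (sup_le_sup_left hP R)
  have hbform : ∀ r ∈ R, ∀ c ∈ P, b (r * c) = ρ r * (c * (c⁻¹ * b c)) := by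
    intro r hr c hc
    rw [hb.map_mul (Subgroup.mem_sup_left hr) (Subgroup.mem_sup_right (hP hc)), hbρ r hr]
    group
  have hbmaps : ∀ w ∈ R ⊔ P, b w ∈ R ⊔ P := by
    intro w hw
    obtain ⟨r, hr, c, hc, rfl⟩ := hdec w hw
    rw [hbform r hr c hc]
    exact Subgroup.mul_mem _ (hRW (hρR r hr))
      (Subgroup.mul_mem _ (hPW hc) (hRW (hz c (hP hc))))
  have hbA : ∀ w ∈ R ⊔ P, w⁻¹ * b w ∈ R := by
    intro w hw
    obtain ⟨r, hr, c, hc, rfl⟩ := hdec w hw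
    rw [hbform r hr c hc]
    have h1 : (r⁻¹ * ρ r) * c = c * (r⁻¹ * ρ r) :=
      hcomm _ (hRT (R.mul_mem (R.inv_mem hr) (hρR r hr))) c hc
    have e : (r * c)⁻¹ * (ρ r * (c * (c⁻¹ * b c))) =
        c⁻¹ * ((r⁻¹ * ρ r) * c) * (c⁻¹ * b c) := by group
    rw [e, h1]
    have e2 : c⁻¹ * (c * (r⁻¹ * ρ r)) * (c⁻¹ * b c) = (r⁻¹ * ρ r) * (c⁻¹ * b c) := by group
    rw [e2]
    exact R.mul_mem (R.mul_mem (R.inv_mem hr) (hρR r hr)) (hz c (hP hc))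
  -- `ψ` on `W`
  have hψW : Mor F (R ⊔ P) ψ := hψ.res (sup_le (hRT.trans le_sup_right) le_sup_left)
  have hψform : ∀ r ∈ R, ∀ c ∈ P, ψ (r * c) = r * ψ c := by
    intro r hr c hc
    rw [hψ.map_mul (Subgroup.mem_sup_right (hRT hr)) (Subgroup.mem_sup_left hc), hψT r (hRT hr)]
  have hψmaps : ∀ w ∈ R ⊔ P, ψ w ∈ R ⊔ P := by
    intro w hw
    obtain ⟨r, hr, c, hc, rfl⟩ := hdec w hw
    rw [hψform r hr c hc]
    exact Subgroup.mul_mem _ (hRW hr) (hPW (hψP c hc))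
  have hψiter : ∀ n : ℕ, ∀ r ∈ R, ∀ c ∈ P, ψ^[n] (r * c) = r * ψ^[n] c := by
    intro n
    induction n with
    | zero => intro r hr c hc; rfl
    | succ n ih =>
      intro r hr c hc
      rw [Function.iterate_succ_apply', Function.iterate_succ_apply', ih r hr c hc,
        hψform r hr _ (iterate_mem hψP n c hc)]
  have hψmW : ∀ w ∈ R ⊔ P, ψ^[m] w = w := by
    intro w hw
    obtain ⟨r, hr, c, hc, rfl⟩ := hdec w hw
    rw [hψiter m r hr c hc, hψm c hc]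
  -- the automorphisms
  obtain ⟨â, hâ, hâb⟩ := hbW.exists_aut hbmaps
  obtain ⟨ŝ, hŝ, hŝψ⟩ := hψW.exists_aut hψmaps
  have hâf : ∀ x ∈ R ⊔ P, autFun â x = b x := fun x hx => by
    rw [autFun_mem â hx]; exact hâb ⟨x, hx⟩
  have hŝf : ∀ x ∈ R ⊔ P, autFun ŝ x = ψ x := fun x hx => by
    rw [autFun_mem ŝ hx]; exact hŝψ ⟨x, hx⟩
  have hâm : Mor F (R ⊔ P) (autFun â) := autFun_mor F hWS hâ
  have hŝm : Mor F (R ⊔ P) (autFun ŝ) := autFun_mor F hWS hŝ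
  have hŝR : ∀ x ∈ R, autFun ŝ x = x := fun x hx => by
    rw [hŝf x (hRW hx)]; exact hψT x (hRT hx)
  have hŝinvR : ∀ x ∈ R, autFun ŝ⁻¹ x = x := fun x hx => by
    have h1 := autFun_inv ŝ (hRW hx)
    rw [hŝR x hx] at h1
    exact h1
  have hâR : ∀ x ∈ R, autFun â x ∈ R := fun x hx => by
    rw [hâf x (hRW hx), hbρ x hx]; exact hρR x hx
  have hâinvR : ∀ x ∈ R, autFun â⁻¹ x ∈ R := by
    intro y hy
    obtain ⟨x, hx, hxy⟩ := Helper84.surj_of_maps hâm hRW hâR y hy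
    rw [← hxy, autFun_inv â (hRW hx)]
    exact hx
  have hâA : ∀ w ∈ R ⊔ P, w⁻¹ * autFun â w ∈ R := fun w hw => by
    rw [hâf w hw]; exact hbA w hw
  have hâinvA : ∀ w ∈ R ⊔ P, w⁻¹ * autFun â⁻¹ w ∈ R := by
    intro w hw
    have hv : autFun â⁻¹ w ∈ R ⊔ P := autFun_mem_R _ hw
    have h1 := hâA _ hv
    rw [autFun_inv' â hw] at h1
    have e : w⁻¹ * autFun â⁻¹ w = ((autFun â⁻¹ w)⁻¹ * w)⁻¹ := by group
    rw [e]
    exact R.inv_mem h1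
  -- `R` is normalized by `W`
  have hnormR : ∀ w ∈ R ⊔ P, ∀ r ∈ R, w * r * w⁻¹ ∈ R := by
    intro w hw r hr
    obtain ⟨r₀, hr₀, c, hc, rfl⟩ := hdec w hw
    have h1 : r * c = c * r := hcomm r (hRT hr) c hc
    have e : r₀ * c * r * (r₀ * c)⁻¹ = r₀ * (c * r) * c⁻¹ * r₀⁻¹ := by group
    rw [e, ← h1]
    have e2 : r₀ * (r * c) * c⁻¹ * r₀⁻¹ = r₀ * r * r₀⁻¹ := by group
    rw [e2]
    exact R.mul_mem (R.mul_mem hr₀ hr) (R.inv_mem hr₀)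
  -- the subgroup `Z'`
  let Z' : Subgroup (MulAut ↥(R ⊔ P)) :=
    { carrier := {δ | δ ∈ F.autGroup (R ⊔ P) ∧ (∀ x ∈ R, autFun δ x = x) ∧
        ∀ x ∈ R ⊔ P, x⁻¹ * autFun δ x ∈ R}
      one_mem' := ⟨(F.autGroup (R ⊔ P)).one_mem, fun x hx => autFun_one (hRW hx),
        fun x hx => by rw [autFun_one hx]; simp [R.one_mem]⟩
      mul_mem' := by
        rintro δ δ' ⟨hδ, hδR, hδW⟩ ⟨hδ', hδ'R, hδ'W⟩
        refine ⟨(F.autGroup (R ⊔ P)).mul_mem hδ hδ', fun x hx => ?_, fun x hx => ?_⟩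
        · rw [autFun_mul δ δ' (hRW hx), hδ'R x hx, hδR x hx]
        · rw [autFun_mul δ δ' hx]
          have hu' := hδ'W x hx
          have hδm : Mor F (R ⊔ P) (autFun δ) := autFun_mor F hWS hδ
          have e : autFun δ (autFun δ' x) = autFun δ (x * (x⁻¹ * autFun δ' x)) := by
            congr 1; group
          rw [e, hδm.map_mul hx (hRW hu'), hδR _ hu']
          have e2 : x⁻¹ * (autFun δ x * (x⁻¹ * autFun δ' x)) =
              (x⁻¹ * autFun δ x) * (x⁻¹ * autFun δ' x) := by group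
          rw [e2]
          exact R.mul_mem (hδW x hx) hu'
      inv_mem' := by
        rintro δ ⟨hδ, hδR, hδW⟩
        refine ⟨(F.autGroup (R ⊔ P)).inv_mem hδ, fun x hx => ?_, fun x hx => ?_⟩
        · have h1 := autFun_inv δ (hRW hx)
          rw [hδR x hx] at h1
          exact h1
        · have hv : autFun δ⁻¹ x ∈ R ⊔ P := autFun_mem_R _ hx
          have h1 := hδW _ hv
          rw [autFun_inv' δ hx] at h1
          have e : x⁻¹ * autFun δ⁻¹ x = ((autFun δ⁻¹ x)⁻¹ * x)⁻¹ := by group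
          rw [e]
          exact R.inv_mem h1 }
  have hZ'mem : ∀ δ : MulAut ↥(R ⊔ P), δ ∈ Z' ↔ (δ ∈ F.autGroup (R ⊔ P) ∧
      (∀ x ∈ R, autFun δ x = x) ∧ ∀ x ∈ R ⊔ P, x⁻¹ * autFun δ x ∈ R) := fun δ => Iff.rfl
  -- equality of automorphisms through `autFun`
  have hext : ∀ δ δ' : MulAut ↥(R ⊔ P), (∀ x ∈ R ⊔ P, autFun δ x = autFun δ' x) → δ = δ' := by
    intro δ δ' h
    apply MulEquiv.ext
    intro x
    apply Subtype.ext
    have h1 := h x x.2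
    rw [autFun_mem δ x.2, autFun_mem δ' x.2] at h1
    exact h1
  -- the elements `x⁻¹ δ(x)` are central in `R`
  have hcent : ∀ δ ∈ Z', ∀ x ∈ R ⊔ P, ∀ r ∈ R,
      (x⁻¹ * autFun δ x) * r = r * (x⁻¹ * autFun δ x) := by
    rintro δ ⟨hδ, hδR, hδW⟩ x hx r hr
    have hδm : Mor F (R ⊔ P) (autFun δ) := autFun_mor F hWS hδ
    have h1 : autFun δ (x * r * x⁻¹) = x * r * x⁻¹ := hδR _ (hnormR x hx r hr)
    rw [hδm.map_mul (Subgroup.mul_mem _ hx (hRW hr)) (Subgroup.inv_mem _ hx),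
      hδm.map_mul hx (hRW hr), hδm.map_inv hx, hδR r hr] at h1
    calc (x⁻¹ * autFun δ x) * r = x⁻¹ * (autFun δ x * r * (autFun δ x)⁻¹) * autFun δ x := by
          group
      _ = x⁻¹ * (x * r * x⁻¹) * autFun δ x := by rw [h1]
      _ = r * (x⁻¹ * autFun δ x) := by group
  -- formula for a product with an element of `Z'`
  have hprodform : ∀ (γ : MulAut ↥(R ⊔ P)), γ ∈ F.autGroup (R ⊔ P) → (∀ x ∈ R, autFun γ x = x) →
      ∀ δ ∈ Z', ∀ x ∈ R ⊔ P, autFun (γ * δ) x = autFun γ x * (x⁻¹ * autFun δ x) := by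
    rintro γ hγ hγR δ ⟨hδ, hδR, hδW⟩ x hx
    have hγm : Mor F (R ⊔ P) (autFun γ) := autFun_mor F hWS hγ
    rw [autFun_mul γ δ hx]
    have e : autFun γ (autFun δ x) = autFun γ (x * (x⁻¹ * autFun δ x)) := by
      congr 1; group
    rw [e, hγm.map_mul hx (hRW (hδW x hx)), hγR _ (hδW x hx)]
  have hZc : ∀ δ ∈ Z', ∀ δ' ∈ Z', δ * δ' = δ' * δ := by
    intro δ hδ δ' hδ'
    apply hext
    intro x hx
    rw [hprodform δ hδ.1 hδ.2.1 δ' hδ' x hx, hprodform δ' hδ'.1 hδ'.2.1 δ hδ x hx]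
    have h1 := hcent δ' hδ' x hx _ (hδ.2.2 x hx)
    calc autFun δ x * (x⁻¹ * autFun δ' x) = x * ((x⁻¹ * autFun δ x) * (x⁻¹ * autFun δ' x)) := by
          group
      _ = x * ((x⁻¹ * autFun δ' x) * (x⁻¹ * autFun δ x)) := by rw [h1]
      _ = autFun δ' x * (x⁻¹ * autFun δ x) := by group
  -- exponent
  have hpowform : ∀ δ ∈ Z', ∀ n : ℕ, ∀ x ∈ R ⊔ P,
      autFun (δ ^ n) x = x * (x⁻¹ * autFun δ x) ^ n := by
    intro δ hδ n
    induction n with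
    | zero => intro x hx; rw [pow_zero, pow_zero, mul_one]; exact autFun_one hx
    | succ n ih =>
      intro x hx
      have hδm : Mor F (R ⊔ P) (autFun δ) := autFun_mor F hWS hδ.1
      have hun : (x⁻¹ * autFun δ x) ^ n ∈ R := R.pow_mem (hδ.2.2 x hx) n
      rw [pow_succ', autFun_mul δ (δ ^ n) hx, ih x hx, hδm.map_mul hx (hRW hun),
        hδ.2.1 _ hun, pow_succ']
      generalize (x⁻¹ * autFun δ x) ^ n = w
      group
  have hq : ∀ δ ∈ Z', δ ^ Nat.card R = 1 := by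
    intro δ hδ
    apply hext
    intro x hx
    rw [hpowform δ hδ _ x hx, autFun_one hx]
    have h1 : ((⟨x⁻¹ * autFun δ x, hδ.2.2 x hx⟩ : R)) ^ Nat.card R = 1 := pow_card_eq_one'
    have h2 := congrArg (fun z : R => (z : Ω)) h1
    simp only [Subgroup.coe_pow, Subgroup.coe_one] at h2
    rw [h2, mul_one]
  -- `ŝ` normalizes `Z'`
  have hnorm : ∀ δ ∈ Z', ŝ * δ * ŝ⁻¹ ∈ Z' := by
    rintro δ ⟨hδ, hδR, hδW⟩
    have hδm : Mor F (R ⊔ P) (autFun δ) := autFun_mor F hWS hδ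
    refine ⟨(F.autGroup (R ⊔ P)).mul_mem ((F.autGroup (R ⊔ P)).mul_mem hŝ hδ)
      ((F.autGroup (R ⊔ P)).inv_mem hŝ), fun x hx => ?_, fun x hx => ?_⟩
    · rw [autFun_mul (ŝ * δ) ŝ⁻¹ (hRW hx), hŝinvR x hx, autFun_mul ŝ δ (hRW hx), hδR x hx,
        hŝR x hx]
    · have hv : autFun ŝ⁻¹ x ∈ R ⊔ P := autFun_mem_R _ hx
      have hu := hδW _ hv
      rw [autFun_mul (ŝ * δ) ŝ⁻¹ hx, autFun_mul ŝ δ hv]
      have e : autFun ŝ (autFun δ (autFun ŝ⁻¹ x)) =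
          autFun ŝ (autFun ŝ⁻¹ x * ((autFun ŝ⁻¹ x)⁻¹ * autFun δ (autFun ŝ⁻¹ x))) := by
        congr 1; group
      rw [e, hŝm.map_mul hv (hRW hu), autFun_inv' ŝ hx, hŝR _ hu]
      have e2 : x⁻¹ * (x * ((autFun ŝ⁻¹ x)⁻¹ * autFun δ (autFun ŝ⁻¹ x))) =
          (autFun ŝ⁻¹ x)⁻¹ * autFun δ (autFun ŝ⁻¹ x) := by group
      rw [e2]
      exact hu
  -- the commutator lies in `Z'`
  have h1 : â⁻¹ * (ŝ * â * ŝ⁻¹) ∈ Z' := by
    refine ⟨(F.autGroup (R ⊔ P)).mul_mem ((F.autGroup (R ⊔ P)).inv_mem hâ)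
      ((F.autGroup (R ⊔ P)).mul_mem ((F.autGroup (R ⊔ P)).mul_mem hŝ hâ)
        ((F.autGroup (R ⊔ P)).inv_mem hŝ)), fun x hx => ?_, fun x hx => ?_⟩
    · have hxW := hRW hx
      rw [autFun_mul â⁻¹ (ŝ * â * ŝ⁻¹) hxW, autFun_mul (ŝ * â) ŝ⁻¹ hxW, hŝinvR x hx,
        autFun_mul ŝ â hxW, hŝR _ (hâR x hx), autFun_inv â hxW]
    · have hv : autFun ŝ⁻¹ x ∈ R ⊔ P := autFun_mem_R _ hx
      have ht := hâA _ hv
      rw [autFun_mul â⁻¹ (ŝ * â * ŝ⁻¹) hx, autFun_mul (ŝ * â) ŝ⁻¹ hx, autFun_mul ŝ â hv]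
      have e : autFun ŝ (autFun â (autFun ŝ⁻¹ x)) =
          autFun ŝ (autFun ŝ⁻¹ x * ((autFun ŝ⁻¹ x)⁻¹ * autFun â (autFun ŝ⁻¹ x))) := by
        congr 1; group
      have hâinvm : Mor F (R ⊔ P) (autFun â⁻¹) :=
        autFun_mor F hWS ((F.autGroup (R ⊔ P)).inv_mem hâ)
      rw [e, hŝm.map_mul hv (hRW ht), autFun_inv' ŝ hx, hŝR _ ht,
        hâinvm.map_mul hx (hRW ht)]
      have e2 : x⁻¹ * (autFun â⁻¹ x *
          autFun â⁻¹ ((autFun ŝ⁻¹ x)⁻¹ * autFun â (autFun ŝ⁻¹ x))) =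
          (x⁻¹ * autFun â⁻¹ x) *
            autFun â⁻¹ ((autFun ŝ⁻¹ x)⁻¹ * autFun â (autFun ŝ⁻¹ x)) := by group
      rw [e2]
      exact R.mul_mem (hâinvA x hx) (hâinvR _ ht)
  -- `ŝ ^ m = 1`
  have hs : ŝ ^ m = 1 := by
    apply hext
    intro x hx
    rw [autFun_pow_iterate ŝ m x hx, iterate_agree hŝf hψmaps m x hx, hψmW x hx, autFun_one hx]
  -- arithmetic
  obtain ⟨k, hk⟩ := (hS.to_le hRS).exists_card_eq
  have hcop : Nat.Coprime m (Nat.card R) := by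
    rw [hk]; exact Nat.Coprime.pow_right k hm
  have hme : ∃ e : ℕ, m * e ≡ 1 [MOD Nat.card R] := by
    by_cases h1q : Nat.card R = 1
    · exact ⟨0, by rw [h1q]; exact Nat.modEq_one⟩
    · have hpos : 0 < Nat.card R := Nat.card_pos
      have h1lt : 1 < Nat.card R := by omega
      obtain ⟨e, -, he⟩ := Nat.exists_mul_mod_eq_one_of_coprime hcop h1lt
      refine ⟨e, ?_⟩
      show m * e % Nat.card R = 1 % Nat.card R
      rw [he, Nat.mod_eq_of_lt h1lt]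
  obtain ⟨e, hme⟩ := hme
  obtain ⟨ζ, hζ, hcm⟩ := comm_lift Z' hZc ŝ â m (Nat.card R) e hs hnorm hq hme h1
  -- the corrected lift
  have hγ : â * ζ ∈ F.autGroup (R ⊔ P) := (F.autGroup (R ⊔ P)).mul_mem hâ hζ.1
  have hγm : Mor F (R ⊔ P) (autFun (â * ζ)) := autFun_mor F hWS hγ
  have hγR : ∀ x ∈ R, autFun (â * ζ) x = ρ x := by
    intro x hx
    rw [autFun_mul â ζ (hRW hx), hζ.2.1 x hx, hâf x (hRW hx), hbρ x hx]
  have hγA : ∀ x ∈ R ⊔ P, x⁻¹ * autFun (â * ζ) x ∈ R := by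
    intro x hx
    rw [autFun_mul â ζ hx]
    have hu := hζ.2.2 x hx
    have e1 : autFun â (autFun ζ x) = autFun â (x * (x⁻¹ * autFun ζ x)) := by
      congr 1; group
    rw [e1, hâm.map_mul hx (hRW hu)]
    have e2 : x⁻¹ * (autFun â x * autFun â (x⁻¹ * autFun ζ x)) =
        (x⁻¹ * autFun â x) * autFun â (x⁻¹ * autFun ζ x) := by group
    rw [e2]
    exact R.mul_mem (hâA x hx) (hâR _ hu)
  have hcm2 : ŝ * (â * ζ) = (â * ζ) * ŝ := by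
    calc ŝ * (â * ζ) = (ŝ * (â * ζ) * ŝ⁻¹) * ŝ := by group
      _ = (â * ζ) * ŝ := by rw [hcm]
  have hgen : ∀ c ∈ P, autFun (â * ζ) (c⁻¹ * ψ c) = c⁻¹ * ψ c := by
    intro c hc
    have hcW := hPW hc
    have hψcW : ψ c ∈ R ⊔ P := hPW (hψP c hc)
    have ht := hγA c hcW
    have h2 : autFun (ŝ * (â * ζ)) c = autFun ((â * ζ) * ŝ) c := by rw [hcm2]
    rw [autFun_mul ŝ (â * ζ) hcW, autFun_mul (â * ζ) ŝ hcW, hŝf c hcW] at h2
    have e1 : autFun ŝ (autFun (â * ζ) c) = autFun ŝ (c * (c⁻¹ * autFun (â * ζ) c)) := by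
      congr 1; group
    rw [e1, hŝm.map_mul hcW (hRW ht), hŝf c hcW, hŝR _ ht] at h2
    rw [hγm.map_mul (Subgroup.inv_mem _ hcW) hψcW, hγm.map_inv hcW, ← h2]
    have h3 : (c⁻¹ * autFun (â * ζ) c) * (c⁻¹ * ψ c) = (c⁻¹ * ψ c) * (c⁻¹ * autFun (â * ζ) c) :=
      hcomm _ (hRT ht) _ (P.mul_mem (P.inv_mem hc) (hψP c hc))
    calc (autFun (â * ζ) c)⁻¹ * (ψ c * (c⁻¹ * autFun (â * ζ) c))
        = (c⁻¹ * autFun (â * ζ) c)⁻¹ * ((c⁻¹ * ψ c) * (c⁻¹ * autFun (â * ζ) c)) := by group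
      _ = (c⁻¹ * autFun (â * ζ) c)⁻¹ * ((c⁻¹ * autFun (â * ζ) c) * (c⁻¹ * ψ c)) := by rw [h3]
      _ = c⁻¹ * ψ c := by group
  have hXP : Subgroup.closure {y | ∃ c ∈ P, y = c⁻¹ * ψ c} ≤ P := by
    rw [Subgroup.closure_le]
    rintro y ⟨c, hc, rfl⟩
    exact P.mul_mem (P.inv_mem hc) (hψP c hc)
  have hfix : ∀ x ∈ Subgroup.closure {y | ∃ c ∈ P, y = c⁻¹ * ψ c}, autFun (â * ζ) x = x := by
    intro x hx
    induction hx using Subgroup.closure_induction with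
    | mem x hx =>
      obtain ⟨c, hc, rfl⟩ := hx
      exact hgen c hc
    | one => exact hγm.map_one
    | mul x y hx hy ihx ihy =>
      rw [hγm.map_mul (hPW (hXP hx)) (hPW (hXP hy)), ihx, ihy]
    | inv x hx ihx =>
      rw [hγm.map_inv (hPW (hXP hx)), ihx]
  exact ⟨autFun (â * ζ), hγm.res (sup_le_sup_left (hXP.trans le_rfl) R), hγR, hfix⟩

end Cfsg.Agent.Lib.Helper42.Cen
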