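import Mathlib
import Cfsg.Agent.Lib.Helper42.CenC
import Cfsg.Agent.Lib.Helper84.DFac1
import Cfsg.Agent.Lib.Helper84.PFocal
import Cfsg.Agent.Lib.Helper87.FusionAlperin

set_option autoImplicit false
set_option linter.style.haveILetI false

/-!
# Centralizers of normal subsystems.  Part D

For a normal subsystem `E` over `T` of a saturated system `F` over `S`: the commutator subgroup
of `C_S(T)`, and the subgroups `[P, ψ]` for `ψ` an automorphism of order prime to `p` in the
centralizer system of `T`, are centralized by `E`; hence the focal subgroup of `C_F(T)` lies in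
the join of the subgroups of `C_S(T)` centralized by `E`.
-/

namespace Cfsg.Agent.Lib.Helper42.Cen

open Cfsg Cfsg.FusionSystem Cfsg.Agent.Lib.Helper84 Cfsg.Agent.Lib.Helper84.SatCrit
open Cfsg.Agent.Lib.Helper84.PPrimeRes
open Cfsg.Agent.Lib.Helper88 (Mor extFun extFun_mem extFun_apply img mor_of_hom hom_of_mor
  mor_conj mor_id)
open Cfsg.Agent.Lib.Helper42.PRes (TC NA si_aut pelt_mem tc_of_centric frSys_isPPrimeResidual)
open Cfsg.Agent.Lib.Helper42.PNorm
open Cfsg.Agent.Lib.Helper84.DFac (centSystem)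

variable {Ω : Type*} [Group Ω] {S T : Subgroup Ω}

/-- the maps of `E` that lie in the centralizer system of `X`. -/
def cenSub (E : FusionSystem T) (F : FusionSystem S) (X : Subgroup Ω) (hXS : X ≤ S)
    (hTX : T ≤ centralizerIn S X) : FusionSystem T where
  Hom P := {φ | φ ∈ E.Hom P ∧ φ ∈ F.centralizerHom X P}
  le_of_mem h := E.le_of_mem h.1
  injective_of_mem h := E.injective_of_mem h.1
  conj_mem hP hg := ⟨E.conj_mem hP hg, (centSystem F X hXS).conj_mem (hP.trans hTX) (hTX hg)⟩
  comp_mem hφ hψ h := ⟨E.comp_mem hφ.1 hψ.1 h, (centSystem F X hXS).comp_mem hφ.2 hψ.2 h⟩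
  inv_mem := by
    rintro P φ ⟨hφ, hφc⟩
    obtain ⟨ψ, hψ, hψx⟩ := E.inv_mem hφ
    obtain ⟨ψ', hψ', hψ'x⟩ := (centSystem F X hXS).inv_mem hφc
    have e : ψ = ψ' := by
      apply MonoidHom.ext
      rintro ⟨_, x, rfl⟩
      rw [hψx, hψ'x]
    exact ⟨ψ, ⟨hψ, e ▸ hψ'⟩, hψx⟩

/-- If every automorphism in `E` of every `E`-centric subgroup `R` extends to a map of `F` on
`R X` fixing `X` elementwise, then `E` lies in the centralizer system of `X`. -/
theorem le_cen_of_aut [Finite S] (p : ℕ) [Fact p.Prime] (hS : IsPGroup p S) (F : FusionSystem S)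
    (E : FusionSystem T) (hEsat : E.IsSaturated p) (hEF : E.IsSubsystemOf F) (hTS : T ≤ S)
    (X : Subgroup Ω) (hX : X ≤ centralizerIn S T)
    (h : ∀ R : Subgroup Ω, E.IsCentric R → ∀ ρ : Ω → Ω, Mor E R ρ → (∀ x ∈ R, ρ x ∈ R) →
      ∃ a' : Ω → Ω, Mor F (R ⊔ X) a' ∧ (∀ x ∈ R, a' x = ρ x) ∧ ∀ x ∈ X, a' x = x) :
    ∀ P : Subgroup Ω, E.Hom P ⊆ F.centralizerHom X P := by
  haveI hfinT : Finite T := Finite.of_injective _ (Subgroup.inclusion_injective hTS)
  have hT : IsPGroup p T := hS.to_le hTS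
  have hXS : X ≤ S := hX.trans inf_le_left
  have hTX : T ≤ centralizerIn S X := by
    intro t ht
    rw [Helper88.mem_centralizerIn]
    refine ⟨hTS ht, fun q hq => ?_⟩
    exact ((Helper88.mem_centralizerIn.mp (hX hq)).2 t ht).symm
  have hsub : ∀ P : Subgroup Ω, E.Hom P ⊆ (cenSub E F X hXS hTX).Hom P := by
    refine Helper87.alperin hT E hEsat _ ?_
    intro R hfa hrec hc hr _ α hα
    have hRT : R ≤ T := hrec.1
    have hφ : R.subtype.comp α.toMonoidHom ∈ E.Hom R := (Helper87.mem_autGroup_iff E hRT α).1 hα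
    obtain ⟨a', ha', ha'R, ha'X⟩ := h R hc (autFun α) (autFun_mor E hRT hα)
      (fun x hx => autFun_mem_R _ hx)
    obtain ⟨ψ, hψ, hψa⟩ := ha'
    refine ⟨hφ, hEF R hφ, hRT.trans hTX, fun x => hTX (hRT (α x).2), ψ, hψ, fun x => ?_,
      fun x => ?_⟩
    · rw [hψa]
      show a' (x : Ω) = ((α x : R) : Ω)
      rw [ha'R _ x.2, autFun_mem α x.2]
    · rw [hψa]
      exact ha'X _ x.2
  intro P φ hφ
  exact (hsub P hφ).2

/-- The focal subgroup of the centralizer system of `T` lies in the join of the subgroups of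
`C_S(T)` centralized by the normal subsystem `E` over `T`. -/
theorem focal_cen_le [Finite S] (p : ℕ) [Fact p.Prime] (hS : IsPGroup p S)
    (F : FusionSystem S) (hF : F.IsSaturated p) (E : FusionSystem T) (hE : E.IsNormalIn F p)
    (D : FusionSystem (centralizerIn S T)) (hD : F.IsCentralizerSystem T D) :
    D.focalSubgroup ≤ sSup {X : Subgroup Ω | X ≤ centralizerIn S T ∧
      ∀ P : Subgroup Ω, E.Hom P ⊆ F.centralizerHom X P} := by
  obtain ⟨⟨hEsat, -, hEinv⟩, -⟩ := id hE
  have hEF := hEinv.1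
  have hTcl := hEinv.2.1
  have hTS : T ≤ S := hTcl.1
  haveI hfinT : Finite T := Finite.of_injective _ (Subgroup.inclusion_injective hTS)
  haveI hfinC : Finite (centralizerIn S T) :=
    Finite.of_injective _ (Subgroup.inclusion_injective (inf_le_left : centralizerIn S T ≤ S))
  have hCp : IsPGroup p (centralizerIn S T) := hS.to_le inf_le_left
  -- `T` is fully centralized
  have hTfc : F.IsFullyCentralized T := by
    refine ⟨hTS, fun Q hQ => ?_⟩
    obtain ⟨φ, hφ, hφr⟩ := hQ
    have hQT : Q ≤ T := by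
      rw [← hφr]
      rintro _ ⟨x, rfl⟩
      exact hTcl.2 T le_rfl φ hφ x
    have hcard : Nat.card Q = Nat.card T := by
      rw [← hφr]
      exact (Nat.card_congr (Equiv.ofInjective φ (F.injective_of_mem hφ))).symm
    have hQeq : Q = T := by
      apply le_antisymm hQT
      intro x hx
      have h1 : (Q : Set Ω) = (T : Set Ω) := by
        apply Set.eq_of_subset_of_ncard_le hQT
        show Nat.card T ≤ Nat.card Q
        rw [hcard]
      have h2 : x ∈ (T : Set Ω) := hx
      rw [← h1] at h2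
      exact h2
    rw [hQeq]
  have hDsat : D.IsSaturated p := Helper84.centralizerSystem_saturated p hS F hF T hTfc D hD
  -- the key criterion
  have hkey : ∀ X : Subgroup Ω, X ≤ centralizerIn S T →
      (∀ R : Subgroup Ω, E.IsCentric R → ∀ ρ : Ω → Ω, Mor E R ρ → (∀ x ∈ R, ρ x ∈ R) →
        ∃ a' : Ω → Ω, Mor F (R ⊔ X) a' ∧ (∀ x ∈ R, a' x = ρ x) ∧ ∀ x ∈ X, a' x = x) →
      X ≤ sSup {X : Subgroup Ω | X ≤ centralizerIn S T ∧
        ∀ P : Subgroup Ω, E.Hom P ⊆ F.centralizerHom X P} := by
    intro X hX h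
    exact le_sSup ⟨hX, le_cen_of_aut p hS F E hEsat hEF hTS X hX h⟩
  -- data attached to an automorphism of an `E`-centric subgroup
  have hdata : ∀ R : Subgroup Ω, E.IsCentric R → ∀ ρ : Ω → Ω, Mor E R ρ → (∀ x ∈ R, ρ x ∈ R) →
      Ext F T R ρ ∧ img R ρ = R ∧ centralizerIn T R ≤ R := by
    intro R hc ρ hρ hρR
    refine ⟨ext_all p hS F hF E hE hc hρ, hρ.img_eq_self hρR, ?_⟩
    exact hc.2 R ⟨conjHom R 1, E.conj_mem hc.1 T.one_mem, by
      ext y
      constructor
      · rintro ⟨x, rfl⟩
        simp [conjHom]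
      · intro hy
        exact ⟨⟨y, hy⟩, by simp [conjHom]⟩⟩
  refine Helper84.PFocal.focal_le p hCp D hDsat ?_ ?_
  · -- commutators
    intro a ha b hb
    have h1 : ⁅centralizerIn S T, centralizerIn S T⁆ ≤ sSup {X : Subgroup Ω |
        X ≤ centralizerIn S T ∧ ∀ P : Subgroup Ω, E.Hom P ⊆ F.centralizerHom X P} := by
      refine hkey _ ?_ ?_
      · rw [Subgroup.commutator_le]
        intro a ha b hb
        exact Subgroup.mul_mem _ (Subgroup.mul_mem _ (Subgroup.mul_mem _ ha hb)
          (Subgroup.inv_mem _ ha)) (Subgroup.inv_mem _ hb)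
      · intro R hc ρ hρ hρR
        obtain ⟨h1, h2, h3⟩ := hdata R hc ρ hρ hρR
        exact fix_comm h1 hρR h2 h3
    exact h1 (Subgroup.commutator_mem_commutator ha hb)
  · -- the hyperfocal subgroup
    unfold FusionSystem.hyperfocalSubgroup
    rw [Subgroup.closure_le]
    rintro y ⟨P, α, x, hP, hα, rfl⟩
    have hgoal : ∀ β : D.autGroup P, β ∈ pResidual p (D.autGroup P) → ∀ x : P,
        (x : Ω)⁻¹ * (((β : MulAut P) x : P) : Ω) ∈ sSup {X : Subgroup Ω |
          X ≤ centralizerIn S T ∧ ∀ P : Subgroup Ω, E.Hom P ⊆ F.centralizerHom X P} := by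
      intro β hβ
      unfold pResidual at hβ
      induction hβ using Subgroup.closure_induction with
      | mem β hβ =>
        intro x
        have hcop : Nat.Coprime (orderOf β) p := hβ
        -- the extension of `β` to `P T`
        have hβD : P.subtype.comp (β : MulAut P).toMonoidHom ∈ D.Hom P :=
          (Helper87.mem_autGroup_iff D hP _).1 β.2
        rw [hD P] at hβD
        obtain ⟨-, -, -, ψ₀, hψ₀, hψ₀P, hψ₀T⟩ := hβD
        have hψ : Mor F (P ⊔ T) (extFun ψ₀) := mor_of_hom F hψ₀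
        have hψP' : ∀ c ∈ P, extFun ψ₀ c = autFun (β : MulAut P) c := by
          intro c hc
          rw [extFun_mem ψ₀ (Subgroup.mem_sup_left hc), autFun_mem _ hc]
          exact hψ₀P ⟨c, hc⟩
        have hψT : ∀ t ∈ T, extFun ψ₀ t = t := by
          intro t ht
          rw [extFun_mem ψ₀ (Subgroup.mem_sup_right ht)]
          exact hψ₀T ⟨t, ht⟩
        have hψPP : ∀ c ∈ P, extFun ψ₀ c ∈ P := fun c hc => by
          rw [hψP' c hc]; exact autFun_mem_R _ hc
        have hpow : ((β : MulAut P)) ^ orderOf β = 1 := by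
          have h2 : β ^ orderOf β = 1 := pow_orderOf_eq_one β
          have h3 : ((β ^ orderOf β : D.autGroup P) : MulAut P) = 1 := by rw [h2]; rfl
          rwa [Subgroup.coe_pow] at h3
        have hψm : ∀ c ∈ P, (extFun ψ₀)^[orderOf β] c = c := by
          intro c hc
          rw [iterate_agree hψP' (fun x hx => autFun_mem_R _ hx) (orderOf β) c hc,
            ← autFun_pow_iterate _ _ c hc, hpow, autFun_one hc]
        have hX : Subgroup.closure {y | ∃ c ∈ P, y = c⁻¹ * extFun ψ₀ c} ≤
            sSup {X : Subgroup Ω | X ≤ centralizerIn S T ∧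
              ∀ P : Subgroup Ω, E.Hom P ⊆ F.centralizerHom X P} := by
          refine hkey _ ?_ ?_
          · rw [Subgroup.closure_le]
            rintro y ⟨c, hc, rfl⟩
            exact Subgroup.mul_mem _ (Subgroup.inv_mem _ (hP hc)) (hP (hψPP c hc))
          · intro R hc ρ hρ hρR
            obtain ⟨h1, h2, h3⟩ := hdata R hc ρ hρ hρR
            exact fix_aut hS hTS h1 hρR h2 h3 hP hψ hψT hψPP (orderOf β) hcop hψm
        apply hX
        apply Subgroup.subset_closure
        refine ⟨x, x.2, ?_⟩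
        rw [hψP' x x.2, autFun_mem _ x.2]
      | one =>
        intro x
        simp
      | mul a b _ _ iha ihb =>
        intro x
        have h1 := ihb x
        have h2 := iha ((b : MulAut P) x)
        have e : (x : Ω)⁻¹ * ((((a * b : D.autGroup P) : MulAut P) x : P) : Ω) =
            ((x : Ω)⁻¹ * (((b : MulAut P) x : P) : Ω)) *
              ((((b : MulAut P) x : P) : Ω)⁻¹ *
                (((a : MulAut P) ((b : MulAut P) x) : P) : Ω)) := by
          rw [Subgroup.coe_mul, MulAut.mul_apply]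
          group
        rw [e]
        exact Subgroup.mul_mem _ h1 h2
      | inv a _ iha =>
        intro x
        have h1 := iha (((a : MulAut P)⁻¹) x)
        rw [MulAut.apply_inv_self] at h1
        have e : (x : Ω)⁻¹ * ((((a⁻¹ : D.autGroup P) : MulAut P) x : P) : Ω) =
            (((((a : MulAut P)⁻¹) x : P) : Ω)⁻¹ * (x : Ω))⁻¹ := by
          rw [Subgroup.coe_inv]
          group
        rw [e]
        exact Subgroup.inv_mem _ h1
    exact hgoal α hα x

end Cfsg.Agent.Lib.Helper42.Cen
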