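import Mathlib
import Cfsg.Prelude.Def_FusionSystem
import Cfsg.Agent.Lib.Helper84.AbelEss
import Cfsg.Agent.Lib.Helper2.Class2
import Cfsg.Agent.S0016

set_option autoImplicit false

namespace Cfsg.Agent.Lib.Helper42.EssP3

open Cfsg Cfsg.FusionSystem Cfsg.Agent.Lib

open scoped commutatorElement

/-! ### An endomorphism of `p`-power order acts trivially on a quotient of order `p` -/

theorem sub_mem_of_index_prime_pow {G : Type*} [Group G] {p : ℕ} [Fact p.Prime] (M : Subgroup G)
    [M.Normal] (hM : M.index = p) (φ : G →* G) (hφM : ∀ x ∈ M, φ x ∈ M) (k : ℕ)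
    (hφp : ∀ x, φ^[p ^ k] x = x) : ∀ x, x⁻¹ * φ x ∈ M := by
  have hp : p.Prime := Fact.out
  have hcard : Nat.card (G ⧸ M) = p := hM
  haveI : IsCyclic (G ⧸ M) := isCyclic_of_prime_card hcard
  have hle : M ≤ M.comap φ := fun x hx => hφM x hx
  obtain ⟨m, hm⟩ := MonoidHom.map_cyclic (QuotientGroup.map M M φ hle)
  have hmk : ∀ y : G, (QuotientGroup.mk (φ y) : G ⧸ M) = (QuotientGroup.mk y : G ⧸ M) ^ m := by
    intro y
    rw [← hm]
    rfl
  have hiter : ∀ (j : ℕ) (x : G), (QuotientGroup.mk (φ^[j] x) : G ⧸ M) =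
      (QuotientGroup.mk x : G ⧸ M) ^ (m ^ j) := by
    intro j
    induction j with
    | zero => intro x; simp
    | succ j ih =>
      intro x
      rw [Function.iterate_succ_apply', hmk, ih, ← zpow_mul, pow_succ]
  have hfin : Finite (G ⧸ M) := Nat.finite_of_card_ne_zero (by rw [hcard]; exact hp.ne_zero)
  have hzp : ∀ z : G ⧸ M, z ^ (p : ℤ) = 1 := by
    intro z
    have h1 : z ^ Nat.card (G ⧸ M) = 1 := pow_card_eq_one'
    rw [hcard] at h1
    exact_mod_cast h1
  have hdvd : (p : ℤ) ∣ m - 1 := by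
    have hnt : Nontrivial (G ⧸ M) := by
      rw [← Finite.one_lt_card_iff_nontrivial, hcard]
      exact hp.one_lt
    obtain ⟨z, hz⟩ := exists_ne (1 : G ⧸ M)
    obtain ⟨x, rfl⟩ := QuotientGroup.mk_surjective z
    have h1 := hiter (p ^ k) x
    rw [hφp x] at h1
    have h2 : (QuotientGroup.mk x : G ⧸ M) ^ (m ^ (p ^ k) - 1) = 1 := by
      rw [zpow_sub, zpow_one, ← h1, mul_inv_cancel]
    have h3 : orderOf (QuotientGroup.mk x : G ⧸ M) = p := by
      have h4 : orderOf (QuotientGroup.mk x : G ⧸ M) ∣ p := by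
        rw [← hcard]; exact orderOf_dvd_natCard _
      rcases (Nat.dvd_prime hp).1 h4 with h5 | h5
      · exact absurd (orderOf_eq_one_iff.1 h5) hz
      · exact h5
    have h6 : (p : ℤ) ∣ m ^ (p ^ k) - 1 := by
      have h6' := orderOf_dvd_iff_zpow_eq_one.2 h2
      rwa [h3] at h6'
    have h7 : (p : ℤ) ∣ m ^ (p ^ k) - m := by
      rw [← ZMod.intCast_zmod_eq_zero_iff_dvd]
      push_cast
      rw [ZMod.pow_card_pow, sub_self]
    have h8 : m - 1 = (m ^ (p ^ k) - 1) - (m ^ (p ^ k) - m) := by ring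
    rw [h8]
    exact dvd_sub h6 h7
  intro x
  rw [← QuotientGroup.eq_one_iff, QuotientGroup.mk_mul, QuotientGroup.mk_inv, hmk]
  obtain ⟨k', hk'⟩ := hdvd
  have h9 : m = 1 + (p : ℤ) * k' := by omega
  rw [h9, zpow_add, zpow_one, zpow_mul, hzp, one_zpow, mul_one, inv_mul_cancel]

/-! ### The stability group of a chain through the Frattini subgroup (any `p`-group) -/

theorem pow_p_mem_trivFrat' {H : Type*} [Group H] [Finite H] {p : ℕ} [Fact p.Prime]
    (hH : IsPGroup p H) (L : Subgroup H) {α : MulAut H}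
    (hα : α ∈ Helper84.stabChain L) : α ^ p ∈ Helper87.trivFrat H := by
  have hnorm : (frattini H).Normal := inferInstance
  -- the Frattini quotient is abelian of exponent p
  have hQc : ∀ u v : H ⧸ frattini H, u * v = v * u := by
    intro u v
    obtain ⟨x, rfl⟩ := QuotientGroup.mk_surjective u
    obtain ⟨y, rfl⟩ := QuotientGroup.mk_surjective v
    have h1 := Helper87.comm_mem_frattini hH x y
    rw [← QuotientGroup.eq_one_iff] at h1
    have h2 : (QuotientGroup.mk x : H ⧸ frattini H) * QuotientGroup.mk y *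
        (QuotientGroup.mk x)⁻¹ * (QuotientGroup.mk y)⁻¹ = 1 := by
      rw [← h1]; rfl
    calc (QuotientGroup.mk x : H ⧸ frattini H) * QuotientGroup.mk y
        = (QuotientGroup.mk x * QuotientGroup.mk y * (QuotientGroup.mk x)⁻¹ *
            (QuotientGroup.mk y)⁻¹) * (QuotientGroup.mk y * QuotientGroup.mk x) := by group
      _ = QuotientGroup.mk y * QuotientGroup.mk x := by rw [h2, one_mul]
  have hQp : ∀ u : H ⧸ frattini H, u ^ p = 1 := by
    intro u
    obtain ⟨x, rfl⟩ := QuotientGroup.mk_surjective u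
    rw [← QuotientGroup.mk_pow, QuotientGroup.eq_one_iff]
    exact Helper87.pow_p_mem_frattini hH x
  -- the derivation attached to an element of the stability group
  have hd1 : ∀ β ∈ Helper84.stabChain L, ∀ x ∈ L,
      (QuotientGroup.mk (x⁻¹ * β x) : H ⧸ frattini H) = 1 := by
    intro β hβ x hx
    rw [QuotientGroup.eq_one_iff]
    exact hβ.2 x hx
  have hd2 : ∀ β : MulAut H, ∀ x y : H,
      (QuotientGroup.mk ((x * y)⁻¹ * β (x * y)) : H ⧸ frattini H) =
        QuotientGroup.mk (x⁻¹ * β x) * QuotientGroup.mk (y⁻¹ * β y) := by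
    intro β x y
    have e : (x * y)⁻¹ * β (x * y) = y⁻¹ * (x⁻¹ * β x) * y * (y⁻¹ * β y) := by
      rw [map_mul]; group
    have e' : (QuotientGroup.mk (y⁻¹ * (x⁻¹ * β x) * y * (y⁻¹ * β y)) : H ⧸ frattini H) =
        (QuotientGroup.mk y : H ⧸ frattini H)⁻¹ * QuotientGroup.mk (x⁻¹ * β x) *
          QuotientGroup.mk y * QuotientGroup.mk (y⁻¹ * β y) := rfl
    rw [e, e', hQc (QuotientGroup.mk y : H ⧸ frattini H)⁻¹ (QuotientGroup.mk (x⁻¹ * β x))]
    group
  have key : ∀ (k : ℕ) (x : H), (QuotientGroup.mk (x⁻¹ * (α ^ k) x) : H ⧸ frattini H) =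
      (QuotientGroup.mk (x⁻¹ * α x)) ^ k := by
    intro k
    induction k with
    | zero => intro x; simp
    | succ k ih =>
      intro x
      have hk : α ^ k ∈ Helper84.stabChain L := Subgroup.pow_mem _ hα k
      have e1 : x⁻¹ * (α ^ (k + 1)) x =
          (x⁻¹ * (α ^ k) x) * (((α ^ k) x)⁻¹ * α ((α ^ k) x)) := by
        rw [pow_succ', MulAut.mul_apply]; group
      have e2 : (α ^ k) x = x * (x⁻¹ * (α ^ k) x) := by group
      have e3 : (QuotientGroup.mk (((α ^ k) x)⁻¹ * α ((α ^ k) x)) : H ⧸ frattini H) =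
          QuotientGroup.mk (x⁻¹ * α x) := by
        conv_lhs => rw [e2]
        rw [hd2 α x (x⁻¹ * (α ^ k) x), hd1 α hα _ (hk.1 x), mul_one]
      rw [e1, QuotientGroup.mk_mul, ih x, e3, pow_succ]
  rw [Helper87.mem_trivFrat]
  intro x
  rw [← QuotientGroup.eq_one_iff, key p x, hQp]

theorem isPGroup_stabChain' {H : Type*} [Group H] [Finite H] {p : ℕ} [Fact p.Prime]
    (hH : IsPGroup p H) (L : Subgroup H) :
    IsPGroup p (Helper84.stabChain L) := by
  intro β
  have h1 := pow_p_mem_trivFrat' hH L β.2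
  obtain ⟨k, hk⟩ := Helper87.isPGroup_trivFrat hH ⟨_, h1⟩
  refine ⟨k + 1, ?_⟩
  apply Subtype.ext
  have h2 := congrArg Subtype.val hk
  rw [pow_succ', pow_mul]
  simpa using h2

/-! ### An essential subgroup has no invariant chain through its Frattini subgroup -/

section ess

variable {Ω : Type*} [Group Ω] {S : Subgroup Ω}

/-- an essential subgroup `H` has no `Aut_F(H)`-invariant subgroup `K` with `Φ(H) ≤ K ≤ H` and
both `|H : K|` and `|K : Φ(H)|` dividing `p`. -/
theorem essential_no_chain [Finite S] (p : ℕ) [Fact p.Prime] (hS : IsPGroup p S)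
    (F : FusionSystem S) {H : Subgroup Ω} (hH : F.IsEssential p H) (K : Subgroup H)
    (hΦK : frattini H ≤ K) (hKA : ∀ α ∈ F.autGroup H, ∀ x ∈ K, α x ∈ K)
    (h1 : (frattini H).relIndex K ∣ p) (h2 : K.index ∣ p) : False := by
  have hp : p.Prime := Fact.out
  obtain ⟨hcen, -, hN, E, hE⟩ := hH
  have hHS : H ≤ S := hcen.1
  have hfin : Finite H :=
    Finite.of_injective (Subgroup.inclusion hHS) (Subgroup.inclusion_injective hHS)
  have hHp : IsPGroup p H := hS.to_le hHS
  have hfinA : Finite (F.autGroup H) := Helper84.finite_autGroup F hHS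
  have hKn : K.Normal := by
    constructor
    intro x hx h
    have h3 := Helper87.comm_mem_frattini hHp h x
    have h4 : h * x * h⁻¹ = (h * x * h⁻¹ * x⁻¹) * x := by group
    rw [h4]
    exact K.mul_mem (hΦK h3) hx
  obtain ⟨gbar, hg⟩ := exists_prime_orderOf_dvd_card' p hE.1
  obtain ⟨g, rfl⟩ := QuotientGroup.mk_surjective gbar
  have hgp : g ^ p ∈ (Inn H).subgroupOf (F.autGroup H) := by
    rw [← QuotientGroup.eq_one_iff, QuotientGroup.mk_pow, ← hg]
    exact pow_orderOf_eq_one _
  rw [Subgroup.mem_subgroupOf] at hgp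
  obtain ⟨t, ht⟩ := hgp
  obtain ⟨n, hn⟩ := IsPGroup.iff_card.1 hHp
  have hgpow : (g : MulAut H) ^ (p ^ (n + 1)) = 1 := by
    have h3 : (g : MulAut H) ^ p = MulAut.conj t := by
      rw [ht]; rfl
    rw [pow_succ', pow_mul, h3, ← map_pow, ← hn, pow_card_eq_one', map_one]
  have hgK : ∀ x ∈ K, (g : MulAut H) x ∈ K := hKA g g.2
  have hiter : ∀ x, ((g : MulAut H).toMonoidHom)^[p ^ (n + 1)] x = x := by
    intro x
    rw [Helper84.iterate_aut, hgpow]
    rfl
  have hmem : (g : MulAut H) ∈ Helper84.stabChain K := by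
    refine ⟨?_, ?_⟩
    · rcases (Nat.dvd_prime hp).1 h2 with h | h
      · intro x
        rw [Subgroup.index_eq_one.1 h]
        exact Subgroup.mem_top _
      · exact sub_mem_of_index_prime_pow K h (g : MulAut H).toMonoidHom hgK (n + 1) hiter
    · rcases (Nat.dvd_prime hp).1 h1 with h | h
      · intro x hx
        have hx' : x ∈ frattini H := (Subgroup.relIndex_eq_one.1 h) hx
        exact Subgroup.mul_mem _ (Subgroup.inv_mem _ hx')
          ((Helper84.aut_mem_frattini _).2 hx')
      · obtain ⟨ψ, hψ⟩ : ∃ ψ : K →* K, ∀ x : K, ((ψ x : K) : H) = (g : MulAut H) x :=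
          ⟨((g : MulAut H).toMonoidHom.comp K.subtype).codRestrict K (fun x => hgK x x.2),
            fun x => rfl⟩
        have hit2 : ∀ (j : ℕ) (x : K),
            ((ψ^[j] x : K) : H) = ((g : MulAut H).toMonoidHom)^[j] x := by
          intro j
          induction j with
          | zero => intro x; rfl
          | succ j ih =>
            intro x
            rw [Function.iterate_succ_apply', Function.iterate_succ_apply', hψ, ih]
            rfl
        have h5 := sub_mem_of_index_prime_pow ((frattini H).subgroupOf K) h ψ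
          (fun x hx => by
            rw [Subgroup.mem_subgroupOf] at hx ⊢
            rw [hψ]
            exact (Helper84.aut_mem_frattini _).2 hx) (n + 1)
          (fun x => by
            apply Subtype.ext
            rw [hit2]
            exact hiter x)
        intro x hx
        have h6 := h5 ⟨x, hx⟩
        rw [Subgroup.mem_subgroupOf] at h6
        have h7 : (((⟨x, hx⟩ : K)⁻¹ * ψ ⟨x, hx⟩ : K) : H) = x⁻¹ * (g : MulAut H) x := by
          rw [Subgroup.coe_mul, hψ]
          rfl
        rwa [h7] at h6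
  have hBn : ((Helper84.stabChain K ⊓ F.autGroup H).subgroupOf (F.autGroup H)).Normal := by
    constructor
    intro b hb γ
    rw [Subgroup.mem_subgroupOf] at hb ⊢
    refine ⟨?_, (F.autGroup H).mul_mem ((F.autGroup H).mul_mem γ.2 hb.2)
      ((F.autGroup H).inv_mem γ.2)⟩
    exact Helper84.stabChain_conj K (hKA γ γ.2) (hKA _ ((F.autGroup H).inv_mem γ.2)) hb.1
  have hBp : IsPGroup p ↥(Helper84.stabChain K ⊓ F.autGroup H) :=
    (isPGroup_stabChain' hHp K).to_le inf_le_left
  have hmapn : (((Helper84.stabChain K ⊓ F.autGroup H).subgroupOf (F.autGroup H)).map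
      (QuotientGroup.mk' ((Inn H).subgroupOf (F.autGroup H)))).Normal :=
    Subgroup.Normal.map hBn _ (QuotientGroup.mk'_surjective _)
  have hmapp : IsPGroup p (((Helper84.stabChain K ⊓ F.autGroup H).subgroupOf (F.autGroup H)).map
      (QuotientGroup.mk' ((Inn H).subgroupOf (F.autGroup H)))) :=
    (hBp.comap_subtype).map _
  have h3 := Helper84.eq_bot_of_normal_of_stronglyPEmbedded hE _ hmapp
  have h4 : (QuotientGroup.mk' ((Inn H).subgroupOf (F.autGroup H))) g ∈
      ((Helper84.stabChain K ⊓ F.autGroup H).subgroupOf (F.autGroup H)).map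
        (QuotientGroup.mk' ((Inn H).subgroupOf (F.autGroup H))) :=
    ⟨g, Subgroup.mem_subgroupOf.2 ⟨hmem, g.2⟩, rfl⟩
  rw [h3, Subgroup.mem_bot] at h4
  have h5 : orderOf (QuotientGroup.mk g : ↥(F.autGroup H) ⧸ (Inn H).subgroupOf (F.autGroup H)) = 1 := by
    rw [orderOf_eq_one_iff]
    exact h4
  rw [hg] at h5
  exact hp.one_lt.ne' h5

end ess

/-! ### Nonabelian groups of order `p³` -/

section p3

variable {H : Type*} [Group H] [Finite H] {p : ℕ} [Fact p.Prime]

theorem card_center_of_p3 (hcard : Nat.card H = p ^ 3) (hnc : ¬ ∀ a b : H, a * b = b * a) :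
    Nat.card (Subgroup.center H) = p := by
  have hp : p.Prime := Fact.out
  have hHp : IsPGroup p H := IsPGroup.of_card hcard
  have hnt : Nontrivial H := by
    rw [← Finite.one_lt_card_iff_nontrivial, hcard]
    exact Nat.one_lt_pow (by norm_num) hp.one_lt
  have hZnt : Nontrivial (Subgroup.center H) := hHp.center_nontrivial
  have hdvd : Nat.card (Subgroup.center H) ∣ p ^ 3 := hcard ▸ Subgroup.card_subgroup_dvd_card _
  obtain ⟨j, hj, hcj⟩ := (Nat.dvd_prime_pow hp).1 hdvd
  have hj0 : j ≠ 0 := by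
    rintro rfl
    rw [pow_zero] at hcj
    have := Finite.one_lt_card_iff_nontrivial.2 hZnt
    omega
  have hj3 : j ≠ 3 := by
    rintro rfl
    apply hnc
    have htop : Subgroup.center H = ⊤ := Subgroup.eq_top_of_card_eq _ (by rw [hcj, hcard])
    intro a b
    have hb : b ∈ Subgroup.center H := by rw [htop]; exact Subgroup.mem_top _
    exact (Subgroup.mem_center_iff.1 hb a)
  have hj2 : j ≠ 2 := by
    rintro rfl
    apply hnc
    have hq : Nat.card (H ⧸ Subgroup.center H) = p := by
      have h := Subgroup.card_eq_card_quotient_mul_card_subgroup (Subgroup.center H)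
      rw [hcard, hcj] at h
      have h3 : p ^ 3 = p * p ^ 2 := by ring
      rw [h3] at h
      exact (Nat.eq_of_mul_eq_mul_right (pow_pos hp.pos 2) h).symm
    haveI : IsCyclic (H ⧸ Subgroup.center H) := isCyclic_of_prime_card hq
    exact commutative_of_cyclic_center_quotient (QuotientGroup.mk' (Subgroup.center H))
      (by rw [QuotientGroup.ker_mk'])
  have hj1 : j = 1 := by omega
  rw [hcj, hj1, pow_one]

theorem p3_struct (hcard : Nat.card H = p ^ 3) (hnc : ¬ ∀ a b : H, a * b = b * a) :
    commutator H = Subgroup.center H ∧ frattini H = Subgroup.center H ∧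
      ∀ x : H, x ^ p ∈ Subgroup.center H := by
  have hp : p.Prime := Fact.out
  have hHp : IsPGroup p H := IsPGroup.of_card hcard
  have hZ := card_center_of_p3 hcard hnc
  have hq : Nat.card (H ⧸ Subgroup.center H) = p ^ 2 := by
    have h := Subgroup.card_eq_card_quotient_mul_card_subgroup (Subgroup.center H)
    rw [hcard, hZ] at h
    have h3 : p ^ 3 = p ^ 2 * p := by ring
    rw [h3] at h
    exact (Nat.eq_of_mul_eq_mul_right hp.pos h).symm
  have hQc : ∀ u v : H ⧸ Subgroup.center H, u * v = v * u :=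
    (IsPGroup.isMulCommutative_of_card_eq_prime_sq hq).is_comm.comm
  have hncyc : ¬ IsCyclic (H ⧸ Subgroup.center H) := by
    intro hc
    exact hnc (commutative_of_cyclic_center_quotient (QuotientGroup.mk' (Subgroup.center H))
      (by rw [QuotientGroup.ker_mk']))
  have hQp : ∀ u : H ⧸ Subgroup.center H, u ^ p = 1 := by
    intro u
    have h1 : orderOf u ∣ p ^ 2 := hq ▸ orderOf_dvd_natCard u
    obtain ⟨i, hi, hoi⟩ := (Nat.dvd_prime_pow hp).1 h1
    have hi2 : i ≠ 2 := by
      rintro rfl
      exact hncyc (isCyclic_of_orderOf_eq_card u (by rw [hoi, hq]))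
    have hi1 : i ≤ 1 := by omega
    apply orderOf_dvd_iff_pow_eq_one.1
    rw [hoi]
    have h2 : p ^ i ∣ p ^ 1 := pow_dvd_pow p hi1
    rwa [pow_one] at h2
  have hpowZ : ∀ x : H, x ^ p ∈ Subgroup.center H := by
    intro x
    rw [← QuotientGroup.eq_one_iff, QuotientGroup.mk_pow]
    exact hQp _
  have hcomZ : commutator H ≤ Subgroup.center H := by
    rw [commutator_def, Subgroup.commutator_le]
    intro a _ b _
    rw [← QuotientGroup.eq_one_iff, commutatorElement_def]
    have e : (QuotientGroup.mk (a * b * a⁻¹ * b⁻¹) : H ⧸ Subgroup.center H) =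
        QuotientGroup.mk a * QuotientGroup.mk b * (QuotientGroup.mk a)⁻¹ *
          (QuotientGroup.mk b)⁻¹ := rfl
    rw [e, hQc (QuotientGroup.mk a) (QuotientGroup.mk b)]
    group
  have hfrZ : frattini H ≤ Subgroup.center H := by
    letI : CommGroup (H ⧸ Subgroup.center H) :=
      { (inferInstance : Group (H ⧸ Subgroup.center H)) with mul_comm := hQc }
    have h := Helper87.frattini_le_ker_of_exponent (p := p)
      (QuotientGroup.mk' (Subgroup.center H)) (fun g => hQp _)
    rwa [QuotientGroup.ker_mk'] at h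
  have hcomne : commutator H ≠ ⊥ := by
    intro hbot
    apply hnc
    intro a b
    have h1 : ⁅a, b⁆ ∈ commutator H := by
      rw [commutator_def]
      exact Subgroup.commutator_mem_commutator (Subgroup.mem_top a) (Subgroup.mem_top b)
    rw [hbot, Subgroup.mem_bot, commutatorElement_def] at h1
    have h2 : a * b = (a * b * a⁻¹ * b⁻¹) * (b * a) := by group
    rw [h2, h1, one_mul]
  have hcomeq : commutator H = Subgroup.center H := by
    apply Subgroup.eq_of_le_of_card_ge hcomZ
    have h1 : Nat.card (commutator H) ∣ p := hZ ▸ Subgroup.card_dvd_of_le hcomZ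
    rcases (Nat.dvd_prime hp).1 h1 with h | h
    · exact absurd (Subgroup.card_eq_one.1 h) hcomne
    · rw [hZ, h]
  have hcomfr : commutator H ≤ frattini H := by
    rw [commutator_def, Subgroup.commutator_le]
    intro a _ b _
    rw [commutatorElement_def]
    exact Helper87.comm_mem_frattini hHp a b
  exact ⟨hcomeq, le_antisymm hfrZ (hcomeq ▸ hcomfr), hpowZ⟩

theorem extraspecial_of_p3 (hcard : Nat.card H = p ^ 3) (hnc : ¬ ∀ a b : H, a * b = b * a) :
    IsExtraspecial p H := by
  obtain ⟨h1, h2, -⟩ := p3_struct hcard hnc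
  exact ⟨⟨IsPGroup.of_card hcard, h2, h1⟩, card_center_of_p3 hcard hnc⟩

theorem pow_eq_one_of_mem_center (hcard : Nat.card H = p ^ 3)
    (hnc : ¬ ∀ a b : H, a * b = b * a) {z : H} (hz : z ∈ Subgroup.center H) : z ^ p = 1 := by
  have hZ := card_center_of_p3 hcard hnc
  have h1 : (⟨z, hz⟩ : Subgroup.center H) ^ Nat.card (Subgroup.center H) = 1 := pow_card_eq_one'
  rw [hZ] at h1
  exact congrArg Subtype.val h1

/-- the chain alternative for odd `p`. -/
theorem p3_odd (hp2 : p ≠ 2) (hcard : Nat.card H = p ^ 3) (hnc : ¬ ∀ a b : H, a * b = b * a) :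
    (∃ K : Subgroup H, frattini H ≤ K ∧ (∀ α : MulAut H, ∀ x ∈ K, α x ∈ K) ∧
        (frattini H).relIndex K ∣ p ∧ K.index ∣ p) ∨ (∀ x : H, x ^ p = 1) := by
  have hp : p.Prime := Fact.out
  obtain ⟨hcom, hfr, hpowZ⟩ := p3_struct hcard hnc
  have hZ := card_center_of_p3 hcard hnc
  have hmul : ∀ x y : H, (x * y) ^ p = x ^ p * y ^ p := by
    intro x y
    have hc : ⁅y, x⁆ ∈ Subgroup.center H := by
      rw [← hcom, commutator_def]
      exact Subgroup.commutator_mem_commutator (Subgroup.mem_top y) (Subgroup.mem_top x)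
    exact Helper2.mul_pow_prime_of_commutator_central hp hp2 x y hc
      (pow_eq_one_of_mem_center hcard hnc hc)
  by_cases hall : ∀ x : H, x ^ p = 1
  · exact Or.inr hall
  left
  let pw : H →* H := { toFun := fun x => x ^ p, map_one' := one_pow p, map_mul' := hmul }
  have hpw : ∀ x, pw x = x ^ p := fun x => rfl
  have hΦK : frattini H ≤ pw.ker := by
    rw [hfr]
    intro z hz
    rw [MonoidHom.mem_ker, hpw]
    exact pow_eq_one_of_mem_center hcard hnc hz
  have hidx : pw.ker.index = p := by
    rw [Subgroup.index_ker]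
    have hle : pw.range ≤ Subgroup.center H := by
      rintro _ ⟨x, rfl⟩
      exact hpowZ x
    have h1 : Nat.card pw.range ∣ p := hZ ▸ Subgroup.card_dvd_of_le hle
    rcases (Nat.dvd_prime hp).1 h1 with h | h
    · exfalso
      apply hall
      intro x
      have h2 : pw x ∈ pw.range := ⟨x, rfl⟩
      rw [Subgroup.card_eq_one.1 h, Subgroup.mem_bot] at h2
      exact h2
    · exact h
  refine ⟨pw.ker, hΦK, ?_, ?_, hidx ▸ dvd_rfl⟩
  · intro α x hx
    rw [MonoidHom.mem_ker, hpw] at hx ⊢
    rw [← map_pow, hx, map_one]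
  · have h1 := Subgroup.relIndex_mul_index hΦK
    have h2 := Subgroup.card_mul_index (frattini H)
    rw [hfr, hZ, hcard] at h2
    have h3 : (Subgroup.center H).index = p ^ 2 := by
      have h4 : p ^ 3 = p * p ^ 2 := by ring
      rw [h4] at h2
      exact Nat.eq_of_mul_eq_mul_left hp.pos h2
    rw [hidx, hfr, h3] at h1
    have h5 : p ^ 2 = p * p := by ring
    rw [h5] at h1
    rw [hfr, Nat.eq_of_mul_eq_mul_right hp.pos h1]

end p3

/-- the chain alternative for `p = 2`. -/
theorem p3_two {H : Type*} [Group H] [Finite H] (hcard : Nat.card H = 2 ^ 3)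
    (hnc : ¬ ∀ a b : H, a * b = b * a) :
    (∃ K : Subgroup H, frattini H ≤ K ∧ (∀ α : MulAut H, ∀ x ∈ K, α x ∈ K) ∧
        (frattini H).relIndex K ∣ 2 ∧ K.index ∣ 2) ∨ Nonempty (H ≃* QuaternionGroup 2) := by
  haveI : Fact (Nat.Prime 2) := ⟨Nat.prime_two⟩
  obtain ⟨hcom, hfr, hpowZ⟩ := p3_struct (p := 2) hcard hnc
  have hZ := card_center_of_p3 (p := 2) hcard hnc
  have hHp : IsPGroup 2 H := IsPGroup.of_card hcard
  have huniq : ∀ w ∈ Subgroup.center H, ∀ z ∈ Subgroup.center H, w ≠ 1 → z ≠ 1 → w = z := by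
    intro w hw z hz hw1 hz1
    obtain ⟨y, -, hy⟩ := (Nat.card_eq_two_iff' (1 : Subgroup.center H)).1 hZ
    have h1 := hy ⟨w, hw⟩ (fun h => hw1 (congrArg Subtype.val h))
    have h2 := hy ⟨z, hz⟩ (fun h => hz1 (congrArg Subtype.val h))
    exact congrArg Subtype.val (h1.trans h2.symm)
  have hsqZ : ∀ z ∈ Subgroup.center H, z ^ 2 = 1 :=
    fun z hz => pow_eq_one_of_mem_center (p := 2) hcard hnc hz
  by_cases hI : ∃ x : H, x ∉ Subgroup.center H ∧ x ^ 2 = 1
  · left
    have hex : ∃ a : H, a ^ 2 ≠ 1 := by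
      by_contra hcon
      push Not at hcon
      apply hnc
      intro a b
      have h1 := hcon (a * b)
      have ha := hcon a
      have hb := hcon b
      have ha' : a⁻¹ = a := by rw [inv_eq_iff_mul_eq_one, ← sq]; exact ha
      have hb' : b⁻¹ = b := by rw [inv_eq_iff_mul_eq_one, ← sq]; exact hb
      have hab' : (a * b)⁻¹ = a * b := by rw [inv_eq_iff_mul_eq_one, ← sq]; exact h1
      rw [← hab', mul_inv_rev, ha', hb']
    obtain ⟨a, ha⟩ := hex
    have haZ : a ^ 2 ∈ Subgroup.center H := hpowZ a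
    have ha4 : a ^ 4 = 1 := by
      have h1 := hsqZ _ haZ
      rw [← pow_mul] at h1
      exact h1
    have hord : orderOf a = 4 := by
      have h1 := orderOf_eq_prime_pow (p := 2) (n := 1) (x := a) (by simpa using ha)
        (by simpa using ha4)
      simpa using h1
    have hKcard : Nat.card (Subgroup.zpowers a) = 4 := by rw [Nat.card_zpowers, hord]
    have hKidx : (Subgroup.zpowers a).index = 2 := by
      have h := Subgroup.card_mul_index (Subgroup.zpowers a)
      rw [hKcard, hcard] at h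
      omega
    have hZK : Subgroup.center H ≤ Subgroup.zpowers a := by
      intro w hw
      by_cases hw1 : w = 1
      · rw [hw1]; exact Subgroup.one_mem _
      · rw [huniq w hw (a ^ 2) haZ hw1 ha]
        exact Subgroup.pow_mem _ (Subgroup.mem_zpowers a) 2
    have haZ' : a ∉ Subgroup.center H := fun h => ha (hsqZ a h)
    have hcent : ∀ y : H, y * a = a * y → y ∈ Subgroup.zpowers a := by
      intro y hy
      by_contra hyK
      apply haZ'
      rw [Subgroup.mem_center_iff]
      intro g
      by_cases hg : g ∈ Subgroup.zpowers a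
      · obtain ⟨k, rfl⟩ := Subgroup.mem_zpowers_iff.1 hg
        exact ((Commute.refl a).zpow_left k).eq
      · have h1 : y⁻¹ * g ∈ Subgroup.zpowers a := by
          rw [Subgroup.mul_mem_iff_of_index_two hKidx]
          exact ⟨fun h => absurd ((Subgroup.zpowers a).inv_mem_iff.1 h) hyK,
            fun h => absurd h hg⟩
        obtain ⟨k, hk⟩ := Subgroup.mem_zpowers_iff.1 h1
        have hg' : g = y * a ^ k := by rw [hk]; group
        rw [hg']
        have hya : Commute y a := hy
        exact (hya.mul_left ((Commute.refl a).zpow_left k)).eq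
    have hkey : ∀ y : H, y ^ 2 ≠ 1 → y ∈ Subgroup.zpowers a := by
      intro y hy
      by_contra hyK
      obtain ⟨x, hxZ, hx1⟩ := hI
      have hc : y * a * y⁻¹ * a⁻¹ ∈ Subgroup.center H := by
        rw [← hcom, commutator_def, ← commutatorElement_def]
        exact Subgroup.commutator_mem_commutator (Subgroup.mem_top y) (Subgroup.mem_top a)
      have hc1 : y * a * y⁻¹ * a⁻¹ ≠ 1 := by
        intro h
        apply hyK
        apply hcent
        have h2 : y * a = (y * a * y⁻¹ * a⁻¹) * (a * y) := by group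
        rw [h2, h, one_mul]
      have hc2 : y * a * y⁻¹ * a⁻¹ = a ^ 2 := huniq _ hc _ haZ hc1 ha
      have hconj : y * a * y⁻¹ = a⁻¹ := by
        have h1 : y * a * y⁻¹ = (y * a * y⁻¹ * a⁻¹) * a := by group
        rw [h1, hc2, eq_inv_iff_mul_eq_one, ← pow_succ, ← pow_succ]
        exact ha4
      have hconjk : ∀ w ∈ Subgroup.zpowers a, y * w * y⁻¹ = w⁻¹ := by
        intro w hw
        obtain ⟨k, rfl⟩ := Subgroup.mem_zpowers_iff.1 hw
        rw [← conj_zpow, hconj, inv_zpow]
      apply absurd hx1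
      by_cases hxK : x ∈ Subgroup.zpowers a
      · obtain ⟨n, rfl⟩ := (Submonoid.mem_powers_iff _ _).1 ((mem_powers_iff_mem_zpowers).2 hxK)
        obtain ⟨m, rfl | rfl⟩ := Nat.even_or_odd' n
        · exfalso
          apply hxZ
          rw [pow_mul]
          exact Subgroup.pow_mem _ haZ m
        · have h1 : (a ^ (2 * m + 1)) ^ 2 = (a ^ 4) ^ m * a ^ 2 := by
            rw [← pow_mul, ← pow_mul, ← pow_add]
            congr 1
            ring
          rw [h1, ha4, one_pow, one_mul]
          exact ha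
      · have h1 : y⁻¹ * x ∈ Subgroup.zpowers a := by
          rw [Subgroup.mul_mem_iff_of_index_two hKidx]
          exact ⟨fun h => absurd ((Subgroup.zpowers a).inv_mem_iff.1 h) hyK,
            fun h => absurd h hxK⟩
        have h2 := hconjk _ h1
        have h4 : x * y⁻¹ = x⁻¹ * y := by
          have h5 : y * (y⁻¹ * x) * y⁻¹ = x * y⁻¹ := by group
          rw [h5] at h2
          rw [h2]
          group
        have h3 : x ^ 2 = y ^ 2 := by
          calc x ^ 2 = x * x := sq x
            _ = x * (x * y⁻¹) * y := by group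
            _ = x * (x⁻¹ * y) * y := by rw [h4]
            _ = y * y := by group
            _ = y ^ 2 := (sq y).symm
        rw [h3]
        exact hy
    have hKinv : ∀ α : MulAut H, ∀ x ∈ Subgroup.zpowers a, α x ∈ Subgroup.zpowers a := by
      intro α x hx
      obtain ⟨k, rfl⟩ := Subgroup.mem_zpowers_iff.1 hx
      rw [map_zpow]
      apply Subgroup.zpow_mem
      apply hkey
      rw [← map_pow]
      intro h
      apply ha
      exact α.injective (by rw [h, map_one])
    have hΦK : frattini H ≤ Subgroup.zpowers a := by rw [hfr]; exact hZK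
    refine ⟨Subgroup.zpowers a, hΦK, hKinv, ?_, hKidx ▸ dvd_rfl⟩
    have h1 := Subgroup.relIndex_mul_index hΦK
    have h2 := Subgroup.card_mul_index (frattini H)
    rw [hfr, hZ, hcard] at h2
    rw [hKidx, hfr] at h1
    have h3 : (Subgroup.center H).relIndex (Subgroup.zpowers a) = 2 := by omega
    rw [hfr, h3]
  · right
    push Not at hI
    have hinvol : ∀ x : H, x ^ 2 = 1 → x ∈ Subgroup.center H := fun x hx => by
      by_contra h
      exact hI x h hx
    have hPZ : ∀ P : Subgroup H, Nat.card P = 2 → P = Subgroup.center H := by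
      intro P hP
      apply Subgroup.eq_of_le_of_card_ge
      · intro x hx
        apply hinvol
        have h1 : (⟨x, hx⟩ : P) ^ Nat.card P = 1 := pow_card_eq_one'
        rw [hP] at h1
        exact congrArg Subtype.val h1
      · rw [hP, hZ]
    rcases Cfsg.Agent.S0016.result 2 hHp
      (fun P Q hP hQ => (hPZ P hP).trans (hPZ Q hQ).symm) with hc | ⟨-, n, ⟨e⟩⟩
    · exfalso
      apply hnc
      obtain ⟨g, hg⟩ := IsCyclic.exists_generator (α := H)
      intro a b
      obtain ⟨i, rfl⟩ := Subgroup.mem_zpowers_iff.1 (hg a)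
      obtain ⟨j, rfl⟩ := Subgroup.mem_zpowers_iff.1 (hg b)
      exact (Commute.zpow_zpow_self g i j).eq
    · have hn : 2 ^ n = 2 := by
        have h1 : Nat.card H = 4 * 2 ^ n := by
          rw [Nat.card_congr e.toEquiv, Nat.card_eq_fintype_card, QuaternionGroup.card]
        rw [hcard] at h1
        omega
      rw [hn] at e
      exact ⟨e⟩

/-- **Nonabelian groups of order `p³`**: either there is a characteristic subgroup of index `p`,
or `p` is odd and the exponent is `p`, or the group is the quaternion group of order `8`. -/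
theorem order_p3_cases {H : Type*} [Group H] [Finite H] {p : ℕ} [Fact p.Prime]
    (hcard : Nat.card H = p ^ 3) (hnc : ¬ ∀ a b : H, a * b = b * a) :
    (∃ K : Subgroup H, frattini H ≤ K ∧ (∀ α : MulAut H, ∀ x ∈ K, α x ∈ K) ∧
        (frattini H).relIndex K ∣ p ∧ K.index ∣ p) ∨
      (Odd p ∧ ∀ x : H, x ^ p = 1) ∨ (p = 2 ∧ Nonempty (H ≃* QuaternionGroup 2)) := by
  have hp : p.Prime := Fact.out
  by_cases hp2 : p = 2
  · subst hp2
    rcases p3_two hcard hnc with h | h
    · exact Or.inl h
    · exact Or.inr (Or.inr ⟨rfl, h⟩)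
  · rcases p3_odd hp2 hcard hnc with h | h
    · exact Or.inl h
    · exact Or.inr (Or.inl ⟨hp.odd_of_ne_two hp2, h⟩)

end Cfsg.Agent.Lib.Helper42.EssP3
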