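import Mathlib
import Cfsg.Prelude.Def_FusionSystem
import Cfsg.Agent.Lib.Helper42.EssP3
import Cfsg.Agent.Lib.Helper53.PGroups
import Cfsg.Agent.Lib.Helper2.FrattiniP
import Cfsg.Agent.Lib.Helper2.ESL

set_option autoImplicit false

namespace Cfsg.Agent.Lib.Helper42.EssP4

open Cfsg Cfsg.FusionSystem Cfsg.Agent.Lib

open scoped commutatorElement

/-! ### Stability groups of three-step chains through the Frattini subgroup -/

/-- one step: if `β` moves every element inside its coset of `M`, and every element of `M` inside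
its coset of `N ⊇ Φ(H)`, then `β ^ p` moves every element inside its coset of `N`. -/
theorem pow_p_step {H : Type*} [Group H] [Finite H] {p : ℕ} [Fact p.Prime]
    (hH : IsPGroup p H) (N M : Subgroup H) (hΦN : frattini H ≤ N) {β : MulAut H}
    (h1 : ∀ x, x⁻¹ * β x ∈ M) (h2 : ∀ x ∈ M, x⁻¹ * β x ∈ N) :
    ∀ x, x⁻¹ * (β ^ p) x ∈ N := by
  have hNn : N.Normal := by
    constructor
    intro x hx h
    have h3 := Helper87.comm_mem_frattini hH h x
    have h4 : h * x * h⁻¹ = (h * x * h⁻¹ * x⁻¹) * x := by group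
    rw [h4]
    exact N.mul_mem (hΦN h3) hx
  have hQc : ∀ u v : H ⧸ N, u * v = v * u := by
    intro u v
    obtain ⟨x, rfl⟩ := QuotientGroup.mk_surjective u
    obtain ⟨y, rfl⟩ := QuotientGroup.mk_surjective v
    have h3 := hΦN (Helper87.comm_mem_frattini hH x y)
    rw [← QuotientGroup.eq_one_iff] at h3
    have h4 : (QuotientGroup.mk x : H ⧸ N) * QuotientGroup.mk y *
        (QuotientGroup.mk x)⁻¹ * (QuotientGroup.mk y)⁻¹ = 1 := by
      rw [← h3]; rfl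
    calc (QuotientGroup.mk x : H ⧸ N) * QuotientGroup.mk y
        = (QuotientGroup.mk x * QuotientGroup.mk y * (QuotientGroup.mk x)⁻¹ *
            (QuotientGroup.mk y)⁻¹) * (QuotientGroup.mk y * QuotientGroup.mk x) := by group
      _ = QuotientGroup.mk y * QuotientGroup.mk x := by rw [h4, one_mul]
  have hQp : ∀ u : H ⧸ N, u ^ p = 1 := by
    intro u
    obtain ⟨x, rfl⟩ := QuotientGroup.mk_surjective u
    rw [← QuotientGroup.mk_pow, QuotientGroup.eq_one_iff]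
    exact hΦN (Helper87.pow_p_mem_frattini hH x)
  have hd1 : ∀ x ∈ M, (QuotientGroup.mk (x⁻¹ * β x) : H ⧸ N) = 1 := by
    intro x hx
    rw [QuotientGroup.eq_one_iff]
    exact h2 x hx
  have hd2 : ∀ x y : H, (QuotientGroup.mk ((x * y)⁻¹ * β (x * y)) : H ⧸ N) =
        QuotientGroup.mk (x⁻¹ * β x) * QuotientGroup.mk (y⁻¹ * β y) := by
    intro x y
    have e : (x * y)⁻¹ * β (x * y) = y⁻¹ * (x⁻¹ * β x) * y * (y⁻¹ * β y) := by
      rw [map_mul]; group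
    have e' : (QuotientGroup.mk (y⁻¹ * (x⁻¹ * β x) * y * (y⁻¹ * β y)) : H ⧸ N) =
        (QuotientGroup.mk y : H ⧸ N)⁻¹ * QuotientGroup.mk (x⁻¹ * β x) *
          QuotientGroup.mk y * QuotientGroup.mk (y⁻¹ * β y) := rfl
    rw [e, e', hQc (QuotientGroup.mk y : H ⧸ N)⁻¹ (QuotientGroup.mk (x⁻¹ * β x))]
    group
  have hM : ∀ (k : ℕ) (x : H), x⁻¹ * (β ^ k) x ∈ M := by
    intro k
    induction k with
    | zero => intro x; simp
    | succ k ih =>
      intro x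
      have e1 : x⁻¹ * (β ^ (k + 1)) x =
          (x⁻¹ * (β ^ k) x) * (((β ^ k) x)⁻¹ * β ((β ^ k) x)) := by
        rw [pow_succ', MulAut.mul_apply]; group
      rw [e1]
      exact M.mul_mem (ih x) (h1 _)
  have key : ∀ (k : ℕ) (x : H), (QuotientGroup.mk (x⁻¹ * (β ^ k) x) : H ⧸ N) =
      (QuotientGroup.mk (x⁻¹ * β x)) ^ k := by
    intro k
    induction k with
    | zero => intro x; simp
    | succ k ih =>
      intro x
      have e1 : x⁻¹ * (β ^ (k + 1)) x =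
          (x⁻¹ * (β ^ k) x) * (((β ^ k) x)⁻¹ * β ((β ^ k) x)) := by
        rw [pow_succ', MulAut.mul_apply]; group
      have e2 : (β ^ k) x = x * (x⁻¹ * (β ^ k) x) := by group
      have e3 : (QuotientGroup.mk (((β ^ k) x)⁻¹ * β ((β ^ k) x)) : H ⧸ N) =
          QuotientGroup.mk (x⁻¹ * β x) := by
        conv_lhs => rw [e2]
        rw [hd2 x (x⁻¹ * (β ^ k) x), hd1 _ (hM k x), mul_one]
      rw [e1, QuotientGroup.mk_mul, ih x, e3, pow_succ]
  intro x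
  rw [← QuotientGroup.eq_one_iff, key p x, hQp]

/-- automorphisms preserving `K₁` and `K₂` and acting trivially on `H / K₂`, `K₂ / K₁` and
`K₁ / Φ(H)` -/
def stab3 {H : Type*} [Group H] (K₁ K₂ : Subgroup H) : Subgroup (MulAut H) where
  carrier := {α | (∀ x ∈ K₁, α x ∈ K₁ ∧ α⁻¹ x ∈ K₁) ∧ (∀ x ∈ K₂, α x ∈ K₂ ∧ α⁻¹ x ∈ K₂) ∧
    (∀ x, x⁻¹ * α x ∈ K₂) ∧ (∀ x ∈ K₂, x⁻¹ * α x ∈ K₁) ∧ ∀ x ∈ K₁, x⁻¹ * α x ∈ frattini H}
  one_mem' := by
    refine ⟨fun x hx => ⟨hx, by simpa using hx⟩, fun x hx => ⟨hx, by simpa using hx⟩,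
      fun x => ?_, fun x _ => ?_, fun x _ => ?_⟩ <;> simp
  mul_mem' := by
    rintro a b ⟨ha1, ha2, ha3, ha4, ha5⟩ ⟨hb1, hb2, hb3, hb4, hb5⟩
    have e : ∀ x, x⁻¹ * (a * b) x = x⁻¹ * b x * ((b x)⁻¹ * a (b x)) := by
      intro x
      rw [MulAut.mul_apply]
      group
    have e2 : ∀ x, (a * b)⁻¹ x = b⁻¹ (a⁻¹ x) := by
      intro x
      rw [mul_inv_rev, MulAut.mul_apply]
    refine ⟨fun x hx => ⟨(ha1 _ (hb1 x hx).1).1, ?_⟩, fun x hx => ⟨(ha2 _ (hb2 x hx).1).1, ?_⟩,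
      fun x => ?_, fun x hx => ?_, fun x hx => ?_⟩
    · rw [e2]; exact (hb1 _ (ha1 x hx).2).2
    · rw [e2]; exact (hb2 _ (ha2 x hx).2).2
    · rw [e]; exact K₂.mul_mem (hb3 x) (ha3 (b x))
    · rw [e]; exact K₁.mul_mem (hb4 x hx) (ha4 _ (hb2 x hx).1)
    · rw [e]; exact Subgroup.mul_mem _ (hb5 x hx) (ha5 _ (hb1 x hx).1)
  inv_mem' := by
    rintro a ⟨ha1, ha2, ha3, ha4, ha5⟩
    have e : ∀ x, x⁻¹ * a⁻¹ x = ((a⁻¹ x)⁻¹ * a (a⁻¹ x))⁻¹ := by
      intro x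
      rw [MulAut.apply_inv_self]
      group
    refine ⟨fun x hx => ⟨(ha1 x hx).2, by rw [inv_inv]; exact (ha1 x hx).1⟩,
      fun x hx => ⟨(ha2 x hx).2, by rw [inv_inv]; exact (ha2 x hx).1⟩,
      fun x => ?_, fun x hx => ?_, fun x hx => ?_⟩
    · rw [e]; exact K₂.inv_mem (ha3 _)
    · rw [e]; exact K₁.inv_mem (ha4 _ (ha2 x hx).2)
    · rw [e]; exact Subgroup.inv_mem _ (ha5 _ (ha1 x hx).2)

theorem isPGroup_stab3 {H : Type*} [Group H] [Finite H] {p : ℕ} [Fact p.Prime]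
    (hH : IsPGroup p H) (K₁ K₂ : Subgroup H) (hΦ : frattini H ≤ K₁) :
    IsPGroup p (stab3 K₁ K₂) := by
  intro β
  obtain ⟨hβ1, hβ2, hβ3, hβ4, hβ5⟩ := β.2
  have hs1 := pow_p_step hH K₁ K₂ hΦ hβ3 hβ4
  have hβp : ((β : MulAut H) ^ p) ∈ stab3 K₁ K₂ := Subgroup.pow_mem _ β.2 p
  have hs2 := pow_p_step hH (frattini H) K₁ le_rfl hs1 hβp.2.2.2.2
  have h1 : ((β : MulAut H) ^ p) ^ p ∈ Helper87.trivFrat H := (Helper87.mem_trivFrat _).2 hs2
  obtain ⟨k, hk⟩ := Helper87.isPGroup_trivFrat hH ⟨_, h1⟩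
  refine ⟨k + 2, ?_⟩
  apply Subtype.ext
  have h2 : (((β : MulAut H) ^ p) ^ p) ^ (p ^ k) = 1 := by
    have := congrArg Subtype.val hk
    simpa using this
  show ((β ^ p ^ (k + 2) : stab3 K₁ K₂) : MulAut H) = 1
  rw [Subgroup.coe_pow, pow_succ', pow_succ', pow_mul, pow_mul]
  exact h2

theorem stab3_conj {H : Type*} [Group H] (K₁ K₂ : Subgroup H) {γ β : MulAut H}
    (h1 : ∀ x ∈ K₁, γ x ∈ K₁) (h1' : ∀ x ∈ K₁, γ⁻¹ x ∈ K₁)
    (h2 : ∀ x ∈ K₂, γ x ∈ K₂) (h2' : ∀ x ∈ K₂, γ⁻¹ x ∈ K₂)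
    (hβ : β ∈ stab3 K₁ K₂) : γ * β * γ⁻¹ ∈ stab3 K₁ K₂ := by
  obtain ⟨b1, b2, b3, b4, b5⟩ := hβ
  have e : ∀ x, x⁻¹ * (γ * β * γ⁻¹) x = γ ((γ⁻¹ x)⁻¹ * β (γ⁻¹ x)) := by
    intro x
    rw [MulAut.mul_apply, MulAut.mul_apply, map_mul, map_inv, MulAut.apply_inv_self]
  have e1 : ∀ x, (γ * β * γ⁻¹) x = γ (β (γ⁻¹ x)) := by
    intro x
    rw [MulAut.mul_apply, MulAut.mul_apply]
  have e2 : ∀ x, (γ * β * γ⁻¹)⁻¹ x = γ (β⁻¹ (γ⁻¹ x)) := by
    intro x
    rw [mul_inv_rev, mul_inv_rev, inv_inv, MulAut.mul_apply, MulAut.mul_apply]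
  refine ⟨fun x hx => ⟨?_, ?_⟩, fun x hx => ⟨?_, ?_⟩, fun x => ?_, fun x hx => ?_, fun x hx => ?_⟩
  · rw [e1]; exact h1 _ (b1 _ (h1' x hx)).1
  · rw [e2]; exact h1 _ (b1 _ (h1' x hx)).2
  · rw [e1]; exact h2 _ (b2 _ (h2' x hx)).1
  · rw [e2]; exact h2 _ (b2 _ (h2' x hx)).2
  · rw [e]; exact h2 _ (b3 _)
  · rw [e]; exact h1 _ (b4 _ (h2' x hx))
  · rw [e, Helper84.aut_mem_frattini]; exact b5 _ (h1' x hx)

/-- an automorphism of `p`-power order acts trivially on an invariant section of order `p`. -/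
theorem sub_mem_of_relIndex {H : Type*} [Group H] {p : ℕ} [Fact p.Prime] (N M : Subgroup H)
    (hNn : N.Normal) (h : N.relIndex M ∣ p) (g : MulAut H)
    (hgM : ∀ x ∈ M, g x ∈ M) (hgN : ∀ x ∈ N, g x ∈ N) (k : ℕ) (hg : g ^ (p ^ k) = 1) :
    ∀ x ∈ M, x⁻¹ * g x ∈ N := by
  have hp : p.Prime := Fact.out
  rcases (Nat.dvd_prime hp).1 h with h | h
  · intro x hx
    have hx' : x ∈ N := (Subgroup.relIndex_eq_one.1 h) hx
    exact N.mul_mem (N.inv_mem hx') (hgN x hx')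
  · obtain ⟨ψ, hψ⟩ : ∃ ψ : M →* M, ∀ x : M, ((ψ x : M) : H) = g x :=
      ⟨(g.toMonoidHom.comp M.subtype).codRestrict M (fun x => hgM x x.2), fun x => rfl⟩
    have hit2 : ∀ (j : ℕ) (x : M), ((ψ^[j] x : M) : H) = (g ^ j) x := by
      intro j
      induction j with
      | zero => intro x; rfl
      | succ j ih =>
        intro x
        rw [Function.iterate_succ_apply', hψ, ih, pow_succ', MulAut.mul_apply]
    haveI : (N.subgroupOf M).Normal := hNn.subgroupOf M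
    have h5 := EssP3.sub_mem_of_index_prime_pow (N.subgroupOf M) h ψ
      (fun x hx => by
        rw [Subgroup.mem_subgroupOf] at hx ⊢
        rw [hψ]
        exact hgN _ hx) k
      (fun x => by
        apply Subtype.ext
        rw [hit2, hg]
        rfl)
    intro x hx
    have h6 := h5 ⟨x, hx⟩
    rw [Subgroup.mem_subgroupOf] at h6
    have h7 : (((⟨x, hx⟩ : M)⁻¹ * ψ ⟨x, hx⟩ : M) : H) = x⁻¹ * g x := by
      rw [Subgroup.coe_mul, hψ]
      rfl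
    rwa [h7] at h6

section ess

variable {Ω : Type*} [Group Ω] {S : Subgroup Ω}

/-- an essential subgroup `H` has no `Aut_F(H)`-invariant chain `Φ(H) ≤ K₁ ≤ K₂ ≤ H` with all
three steps of index dividing `p`. -/
theorem essential_no_chain3 [Finite S] (p : ℕ) [Fact p.Prime] (hS : IsPGroup p S)
    (F : FusionSystem S) {H : Subgroup Ω} (hH : F.IsEssential p H) (K₁ K₂ : Subgroup H)
    (hΦK : frattini H ≤ K₁) (hK12 : K₁ ≤ K₂)
    (hK1A : ∀ α ∈ F.autGroup H, ∀ x ∈ K₁, α x ∈ K₁)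
    (hK2A : ∀ α ∈ F.autGroup H, ∀ x ∈ K₂, α x ∈ K₂)
    (h1 : (frattini H).relIndex K₁ ∣ p) (h2 : K₁.relIndex K₂ ∣ p) (h3 : K₂.index ∣ p) :
    False := by
  have hp : p.Prime := Fact.out
  obtain ⟨hcen, -, hN, E, hE⟩ := hH
  have hHS : H ≤ S := hcen.1
  have hfin : Finite H :=
    Finite.of_injective (Subgroup.inclusion hHS) (Subgroup.inclusion_injective hHS)
  have hHp : IsPGroup p H := hS.to_le hHS
  have hfinA : Finite (F.autGroup H) := Helper84.finite_autGroup F hHS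
  have hnorm : ∀ K : Subgroup H, frattini H ≤ K → K.Normal := by
    intro K hK
    constructor
    intro x hx h
    have h3 := Helper87.comm_mem_frattini hHp h x
    have h4 : h * x * h⁻¹ = (h * x * h⁻¹ * x⁻¹) * x := by group
    rw [h4]
    exact K.mul_mem (hK h3) hx
  have hK1n := hnorm K₁ hΦK
  have hK2n := hnorm K₂ (hΦK.trans hK12)
  obtain ⟨gbar, hg⟩ := exists_prime_orderOf_dvd_card' p hE.1
  obtain ⟨g, rfl⟩ := QuotientGroup.mk_surjective gbar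
  have hgp : g ^ p ∈ (Inn H).subgroupOf (F.autGroup H) := by
    rw [← QuotientGroup.eq_one_iff, QuotientGroup.mk_pow, ← hg]
    exact pow_orderOf_eq_one _
  rw [Subgroup.mem_subgroupOf] at hgp
  obtain ⟨t, ht⟩ := hgp
  obtain ⟨n, hn⟩ := IsPGroup.iff_card.1 hHp
  have hgpow : (g : MulAut H) ^ (p ^ (n + 1)) = 1 := by
    have h3 : (g : MulAut H) ^ p = MulAut.conj t := by
      rw [ht]; rfl
    rw [pow_succ', pow_mul, h3, ← map_pow, ← hn, pow_card_eq_one', map_one]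
  have hginv : (g : MulAut H)⁻¹ ∈ F.autGroup H := (F.autGroup H).inv_mem g.2
  have hΦg : ∀ (γ : MulAut H), ∀ x ∈ frattini H, γ x ∈ frattini H :=
    fun γ x hx => (Helper84.aut_mem_frattini γ).2 hx
  have hmem : (g : MulAut H) ∈ stab3 K₁ K₂ := by
    refine ⟨fun x hx => ⟨hK1A g g.2 x hx, hK1A _ hginv x hx⟩,
      fun x hx => ⟨hK2A g g.2 x hx, hK2A _ hginv x hx⟩, ?_, ?_, ?_⟩
    · intro x
      exact sub_mem_of_relIndex K₂ ⊤ hK2n (by rwa [Subgroup.relIndex_top_right]) (g : MulAut H)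
        (fun x _ => Subgroup.mem_top _) (hK2A g g.2) (n + 1) hgpow x (Subgroup.mem_top x)
    · exact sub_mem_of_relIndex K₁ K₂ hK1n h2 (g : MulAut H) (hK2A g g.2) (hK1A g g.2) (n + 1)
        hgpow
    · exact sub_mem_of_relIndex (frattini H) K₁ inferInstance h1 (g : MulAut H) (hK1A g g.2)
        (hΦg g) (n + 1) hgpow
  have hBn : ((stab3 K₁ K₂ ⊓ F.autGroup H).subgroupOf (F.autGroup H)).Normal := by
    constructor
    intro b hb γ
    rw [Subgroup.mem_subgroupOf] at hb ⊢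
    refine ⟨?_, (F.autGroup H).mul_mem ((F.autGroup H).mul_mem γ.2 hb.2)
      ((F.autGroup H).inv_mem γ.2)⟩
    exact stab3_conj K₁ K₂ (hK1A γ γ.2) (hK1A _ ((F.autGroup H).inv_mem γ.2))
      (hK2A γ γ.2) (hK2A _ ((F.autGroup H).inv_mem γ.2)) hb.1
  have hBp : IsPGroup p ↥(stab3 K₁ K₂ ⊓ F.autGroup H) :=
    (isPGroup_stab3 hHp K₁ K₂ hΦK).to_le inf_le_left
  have hmapn : (((stab3 K₁ K₂ ⊓ F.autGroup H).subgroupOf (F.autGroup H)).map
      (QuotientGroup.mk' ((Inn H).subgroupOf (F.autGroup H)))).Normal :=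
    Subgroup.Normal.map hBn _ (QuotientGroup.mk'_surjective _)
  have hmapp : IsPGroup p (((stab3 K₁ K₂ ⊓ F.autGroup H).subgroupOf (F.autGroup H)).map
      (QuotientGroup.mk' ((Inn H).subgroupOf (F.autGroup H)))) :=
    (hBp.comap_subtype).map _
  have h3' := Helper84.eq_bot_of_normal_of_stronglyPEmbedded hE _ hmapp
  have h4 : (QuotientGroup.mk' ((Inn H).subgroupOf (F.autGroup H))) g ∈
      ((stab3 K₁ K₂ ⊓ F.autGroup H).subgroupOf (F.autGroup H)).map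
        (QuotientGroup.mk' ((Inn H).subgroupOf (F.autGroup H))) :=
    ⟨g, Subgroup.mem_subgroupOf.2 ⟨hmem, g.2⟩, rfl⟩
  rw [h3', Subgroup.mem_bot] at h4
  have h5 : orderOf (QuotientGroup.mk g : ↥(F.autGroup H) ⧸ (Inn H).subgroupOf (F.autGroup H)) = 1 := by
    rw [orderOf_eq_one_iff]
    exact h4
  rw [hg] at h5
  exact hp.one_lt.ne' h5

end ess

end Cfsg.Agent.Lib.Helper42.EssP4
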