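import Mathlib
import Cfsg.Agent.Lib.Helper42.EssP4
import Cfsg.Agent.Lib.Helper42.EssP3
import Cfsg.Agent.S0016

set_option autoImplicit false

namespace Cfsg.Agent.Lib.Helper42.EssP4

open Cfsg Cfsg.Agent.Lib

open scoped commutatorElement

section util

variable {H : Type*} [Group H] [Finite H] {p : ℕ} [Fact p.Prime]

/-- a proper containment of subgroups of a `p`-group multiplies the order by at least `p`. -/
theorem card_ge_mul_of_lt (hHp : IsPGroup p H) {A B : Subgroup H} (hAB : A < B) :
    p * Nat.card A ≤ Nat.card B := by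
  have hp : p.Prime := Fact.out
  obtain ⟨a, ha⟩ := (hHp.to_subgroup A).exists_card_eq
  obtain ⟨b, hb⟩ := (hHp.to_subgroup B).exists_card_eq
  have hlt : Nat.card A < Nat.card B := by
    by_contra hcon
    push Not at hcon
    exact hAB.ne (Subgroup.eq_of_le_of_card_ge hAB.le hcon)
  rw [ha, hb] at hlt ⊢
  have hab : a < b := (Nat.pow_lt_pow_iff_right hp.one_lt).1 hlt
  calc p * p ^ a = p ^ (a + 1) := by ring
    _ ≤ p ^ b := Nat.pow_le_pow_right hp.pos hab

/-- a central element `c` of order dividing `p` outside a subgroup `M` gives an injective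
homomorphism `M × ℤ/p → H`. -/
theorem exists_hom_of_central (M : Subgroup H) (c : H) (hc : c ∈ Subgroup.center H)
    (hcp : c ^ p = 1) (hcM : c ∉ M) :
    ∃ θ : ↥M × Multiplicative (ZMod p) →* H, Function.Injective θ ∧
      ∀ z, θ z = (z.1 : H) * c ^ (Multiplicative.toAdd z.2).val := by
  have hp : p.Prime := Fact.out
  haveI : NeZero p := ⟨hp.ne_zero⟩
  haveI : Fact (1 < p) := ⟨hp.one_lt⟩
  have hcomm : ∀ (k : ℕ) (g : H), g * c ^ k = c ^ k * g := fun k g =>
    Subgroup.mem_center_iff.1 (Subgroup.pow_mem _ hc k) g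
  let θ : ↥M × Multiplicative (ZMod p) →* H :=
    { toFun := fun z => (z.1 : H) * c ^ (Multiplicative.toAdd z.2).val
      map_one' := by simp
      map_mul' := by
        intro z w
        show ((z.1 * w.1 : M) : H) *
          c ^ (Multiplicative.toAdd z.2 + Multiplicative.toAdd w.2).val = _
        rw [ZMod.val_add, ← pow_eq_pow_mod _ hcp, pow_add, Subgroup.coe_mul]
        have h := hcomm (Multiplicative.toAdd z.2).val (w.1 : H)
        calc (z.1 : H) * (w.1 : H) * (c ^ (Multiplicative.toAdd z.2).val *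
              c ^ (Multiplicative.toAdd w.2).val)
            = (z.1 : H) * ((w.1 : H) * c ^ (Multiplicative.toAdd z.2).val) *
              c ^ (Multiplicative.toAdd w.2).val := by simp only [mul_assoc]
          _ = (z.1 : H) * (c ^ (Multiplicative.toAdd z.2).val * (w.1 : H)) *
              c ^ (Multiplicative.toAdd w.2).val := by rw [h]
          _ = _ := by simp only [mul_assoc] }
  refine ⟨θ, ?_, fun z => rfl⟩
  rw [injective_iff_map_eq_one]
  rintro ⟨m, a⟩ hz
  have hz' : (m : H) * c ^ (Multiplicative.toAdd a).val = 1 := hz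
  have ha : Multiplicative.toAdd a = 0 := by
    by_contra hne
    apply hcM
    have h1 : c ^ (Multiplicative.toAdd a).val ∈ M := by
      have h2 : c ^ (Multiplicative.toAdd a).val = (m : H)⁻¹ :=
        eq_inv_of_mul_eq_one_right hz'
      rw [h2]
      exact M.inv_mem m.2
    have h3 : (c ^ (Multiplicative.toAdd a).val) ^ ((Multiplicative.toAdd a)⁻¹).val = c := by
      rw [← pow_mul, pow_eq_pow_mod _ hcp, ← ZMod.val_mul, mul_inv_cancel₀ hne, ZMod.val_one,
        pow_one]
    rw [← h3]
    exact M.pow_mem h1 _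
  have hm : m = 1 := by
    apply Subtype.ext
    rw [ha] at hz'
    simpa using hz'
  show (m, a) = 1
  rw [hm]
  have : a = 1 := ha
  rw [this]
  rfl

end util

section p4

variable {H : Type*} [Group H] [Finite H] {p : ℕ} [Fact p.Prime]

theorem center_char (α : MulAut H) {x : H} (hx : x ∈ Subgroup.center H) :
    α x ∈ Subgroup.center H := by
  rw [Subgroup.mem_center_iff] at hx ⊢
  intro g
  have h := hx (α⁻¹ g)
  have h2 := congrArg α h
  rw [map_mul, map_mul, MulAut.apply_inv_self] at h2
  exact h2

/-- a nonabelian group of order `p⁴` whose Frattini subgroup has order `p²` has a characteristic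
subgroup strictly between the Frattini subgroup and the whole group. -/
theorem chain_of_d2_nonab (hcard : Nat.card H = p ^ 4) (hnc : ¬ ∀ a b : H, a * b = b * a)
    (hΦ : Nat.card (frattini H) = p ^ 2) :
    ∃ L : Subgroup H, frattini H ≤ L ∧ (∀ α : MulAut H, ∀ x ∈ L, α x ∈ L) ∧
      (frattini H).relIndex L ∣ p ∧ L.index ∣ p := by
  have hp : p.Prime := Fact.out
  have hHp : IsPGroup p H := IsPGroup.of_card hcard
  have hp2 : 1 < p ^ 2 := Nat.one_lt_pow (by norm_num) hp.one_lt
  have hppos : p < p ^ 2 := by nlinarith [hp.one_lt]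
  have hidxΦ : (frattini H).index = p ^ 2 := by
    have h := Subgroup.card_mul_index (frattini H)
    rw [hΦ, hcard] at h
    have h4 : p ^ 4 = p ^ 2 * p ^ 2 := by ring
    rw [h4] at h
    exact Nat.eq_of_mul_eq_mul_left (pow_pos hp.pos 2) h
  have finish : ∀ L : Subgroup H, frattini H ≤ L → L.index ∣ p → L ≠ ⊤ →
      (frattini H).relIndex L ∣ p ∧ L.index ∣ p := by
    intro L hΦL hLp hLtop
    have hLidx : L.index = p := by
      rcases (Nat.dvd_prime hp).1 hLp with h | h
      · exact absurd (Subgroup.index_eq_one.1 h) hLtop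
      · exact h
    have h1 := Subgroup.relIndex_mul_index hΦL
    rw [hLidx, hidxΦ] at h1
    have h2 : (frattini H).relIndex L = p := by
      have h3 : p ^ 2 = p * p := by ring
      rw [h3] at h1
      exact Nat.eq_of_mul_eq_mul_right hp.pos h1
    exact ⟨h2 ▸ dvd_rfl, hLp⟩
  have relp : ∀ N : Subgroup H, N ≤ frattini H → Nat.card N = p → N.relIndex (frattini H) = p := by
    intro N hN hNc
    have h1 := Subgroup.relIndex_mul_index hN
    have h2 := Subgroup.card_mul_index N
    rw [hNc, hcard] at h2
    have h3 : N.index = p ^ 3 := by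
      have h4 : p ^ 4 = p * p ^ 3 := by ring
      rw [h4] at h2
      exact Nat.eq_of_mul_eq_mul_left hp.pos h2
    rw [hidxΦ, h3] at h1
    have h5 : p ^ 3 = p * p ^ 2 := by ring
    rw [h5] at h1
    exact Nat.eq_of_mul_eq_mul_right (pow_pos hp.pos 2) h1
  by_cases hΦZ : frattini H ≤ Subgroup.center H
  · -- the Frattini subgroup is central
    have hc : ∀ a b : H, ⁅a, b⁆ ∈ Subgroup.center H := fun a b => hΦZ (by
      rw [commutatorElement_def]; exact Helper87.comm_mem_frattini hHp a b)
    have hZtop : Subgroup.center H ≠ ⊤ := by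
      intro h
      apply hnc
      intro a b
      have ha : a ∈ Subgroup.center H := h ▸ Subgroup.mem_top a
      exact (Subgroup.mem_center_iff.1 ha b).symm
    obtain ⟨x, -, hxZ⟩ := SetLike.exists_of_lt (lt_top_iff_ne_top.2 hZtop)
    have hCx : Subgroup.centralizer ({x} : Set H) ≠ ⊤ := by
      intro h
      apply hxZ
      rw [Subgroup.mem_center_iff]
      intro g
      have hg : g ∈ Subgroup.centralizer ({x} : Set H) := h ▸ Subgroup.mem_top g
      exact (Subgroup.mem_centralizer_iff.1 hg x rfl).symm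
    have hM₁le : Subgroup.center H ⊔ Subgroup.zpowers x ≤ Subgroup.centralizer ({x} : Set H) := by
      apply sup_le
      · intro z hz
        rw [Subgroup.mem_centralizer_iff]
        intro x' hx'
        rw [Set.mem_singleton_iff] at hx'
        rw [hx']
        exact Subgroup.mem_center_iff.1 hz x
      · rw [Subgroup.zpowers_le, Subgroup.mem_centralizer_iff]
        intro x' hx'
        rw [Set.mem_singleton_iff] at hx'
        rw [hx']
    have hM₁top : Subgroup.center H ⊔ Subgroup.zpowers x ≠ ⊤ := by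
      intro h
      apply hCx
      rw [eq_top_iff, ← h]
      exact hM₁le
    obtain ⟨y, -, hyM⟩ := SetLike.exists_of_lt (lt_top_iff_ne_top.2 hM₁top)
    have hZM₁ : Subgroup.center H < Subgroup.center H ⊔ Subgroup.zpowers x := by
      refine lt_of_le_of_ne le_sup_left ?_
      intro h
      apply hxZ
      rw [h]
      exact Subgroup.mem_sup_right (Subgroup.mem_zpowers x)
    have hM₁T : Subgroup.center H ⊔ Subgroup.zpowers x <
        Subgroup.center H ⊔ Subgroup.zpowers x ⊔ Subgroup.zpowers y := by
      refine lt_of_le_of_ne le_sup_left ?_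
      intro h
      apply hyM
      rw [h]
      exact Subgroup.mem_sup_right (Subgroup.mem_zpowers y)
    have htop : Subgroup.center H ⊔ Subgroup.zpowers x ⊔ Subgroup.zpowers y = ⊤ := by
      have h1 := card_ge_mul_of_lt hHp hZM₁
      have h2 := card_ge_mul_of_lt hHp hM₁T
      have h3 : p ^ 2 ≤ Nat.card (Subgroup.center H) := by
        rw [← hΦ]; exact Subgroup.card_le_of_le hΦZ
      rw [← Subgroup.card_eq_iff_eq_top, hcard]
      apply le_antisymm
      · rw [← hcard]; exact Subgroup.card_le_card_group _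
      · calc p ^ 4 = p * (p * p ^ 2) := by ring
          _ ≤ p * (p * Nat.card (Subgroup.center H)) :=
              Nat.mul_le_mul_left _ (Nat.mul_le_mul_left _ h3)
          _ ≤ p * Nat.card ↥(Subgroup.center H ⊔ Subgroup.zpowers x) :=
              Nat.mul_le_mul_left _ h1
          _ ≤ _ := h2
    have gen : ∀ a : H, ⁅x, a⁆ ∈ Subgroup.zpowers ⁅x, y⁆ → ⁅y, a⁆ ∈ Subgroup.zpowers ⁅x, y⁆ →
        ∀ g : H, ⁅g, a⁆ ∈ Subgroup.zpowers ⁅x, y⁆ := by
      intro a hxa hya g
      let S : Subgroup H := ((Subgroup.zpowers ⁅x, y⁆).comap (Subgroup.center H).subtype).comap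
        (Helper2.ESL.commHomL hc a)
      have hS : ∀ u : H, u ∈ S ↔ ⁅u, a⁆ ∈ Subgroup.zpowers ⁅x, y⁆ := fun u => Iff.rfl
      have hle : (⊤ : Subgroup H) ≤ S := by
        rw [← htop]
        refine sup_le (sup_le ?_ ?_) ?_
        · intro z hz
          rw [hS]
          have h1 : ⁅z, a⁆ = 1 := by
            rw [commutatorElement_eq_one_iff_commute]
            exact (Subgroup.mem_center_iff.1 hz a).symm
          rw [h1]; exact Subgroup.one_mem _
        · rw [Subgroup.zpowers_le]; exact (hS x).2 hxa
        · rw [Subgroup.zpowers_le]; exact (hS y).2 hya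
      exact (hS g).1 (hle (Subgroup.mem_top g))
    have hinv : ∀ a b : H, ⁅a, b⁆ = ⁅b, a⁆⁻¹ := fun a b => (commutatorElement_inv b a).symm
    have hself : ∀ a : H, ⁅a, a⁆ = 1 := fun a => commutatorElement_self a
    have h1 : ∀ b : H, ⁅b, x⁆ ∈ Subgroup.zpowers ⁅x, y⁆ := by
      refine gen x ?_ ?_
      · rw [hself x]; exact Subgroup.one_mem _
      · have e := hinv y x
        exact e ▸ Subgroup.inv_mem _ (Subgroup.mem_zpowers _)
    have h2 : ∀ b : H, ⁅b, y⁆ ∈ Subgroup.zpowers ⁅x, y⁆ := by
      refine gen y (Subgroup.mem_zpowers _) ?_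
      rw [hself y]; exact Subgroup.one_mem _
    have hall : ∀ a g : H, ⁅g, a⁆ ∈ Subgroup.zpowers ⁅x, y⁆ := by
      intro a
      refine gen a ?_ ?_
      · have e := hinv x a
        exact e ▸ Subgroup.inv_mem _ (h1 a)
      · have e := hinv y a
        exact e ▸ Subgroup.inv_mem _ (h2 a)
    have hNle : commutator H ≤ Subgroup.zpowers ⁅x, y⁆ := by
      rw [commutator_def, Subgroup.commutator_le]
      intro a _ b _
      exact hall b a
    have hcp : ⁅x, y⁆ ^ p = 1 := by
      rw [← Helper2.commutatorElement_pow_left x y (hc x y) p,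
        commutatorElement_eq_one_iff_commute]
      exact (Subgroup.mem_center_iff.1 (hΦZ (Helper87.pow_p_mem_frattini hHp x)) y).symm
    have hNbot : commutator H ≠ ⊥ := by
      intro h
      apply hnc
      intro a b
      have h1 : ⁅a, b⁆ ∈ commutator H := by
        rw [commutator_def]
        exact Subgroup.commutator_mem_commutator (Subgroup.mem_top a) (Subgroup.mem_top b)
      rw [h, Subgroup.mem_bot, commutatorElement_eq_one_iff_commute] at h1
      exact h1
    have hNcard : Nat.card (commutator H) = p := by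
      have h1 : Nat.card (commutator H) ∣ p := by
        refine dvd_trans (Subgroup.card_dvd_of_le hNle) ?_
        rw [Nat.card_zpowers]
        exact orderOf_dvd_of_pow_eq_one hcp
      rcases (Nat.dvd_prime hp).1 h1 with h | h
      · exact absurd (Subgroup.card_eq_one.1 h) hNbot
      · exact h
    have hNΦ : commutator H ≤ frattini H := Helper2.commutator_le_frattini hHp
    have hidxN : ((commutator H).subgroupOf (frattini H)).index = p := relp _ hNΦ hNcard
    let f : H →* Abelianization H := (powMonoidHom p).comp Abelianization.of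
    have hfL : ∀ g : H, g ∈ f.ker ↔ g ^ p ∈ commutator H := by
      intro g
      rw [MonoidHom.mem_ker]
      show Abelianization.of g ^ p = 1 ↔ _
      rw [← map_pow, ← MonoidHom.mem_ker, Abelianization.ker_of]
    have hΦL : frattini H ≤ f.ker := by
      intro u hu
      rw [hfL]
      haveI : ((commutator H).subgroupOf (frattini H)).Normal :=
        (inferInstance : (commutator H).Normal).subgroupOf _
      have h6 := Subgroup.pow_index_mem ((commutator H).subgroupOf (frattini H))
        (⟨u, hu⟩ : frattini H)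
      rw [hidxN, Subgroup.mem_subgroupOf] at h6
      simpa using h6
    have hLchar : ∀ α : MulAut H, ∀ x ∈ f.ker, α x ∈ f.ker := by
      intro α u hu
      rw [hfL] at hu ⊢
      rw [← map_pow]
      have hchar := (inferInstance : (commutator H).Characteristic).fixed α
      have h3 : u ^ p ∈ (commutator H).comap α.toMonoidHom := by rw [hchar]; exact hu
      exact h3
    have hLidx : f.ker.index ∣ p := by
      rw [Subgroup.index_ker]
      let g₁ : ↥(frattini H) →* Abelianization H := Abelianization.of.comp (frattini H).subtype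
      have hg₁ker : g₁.ker = (commutator H).subgroupOf (frattini H) := by
        ext u
        rw [MonoidHom.mem_ker, Subgroup.mem_subgroupOf]
        show Abelianization.of (u : H) = 1 ↔ _
        rw [← MonoidHom.mem_ker, Abelianization.ker_of]
      have hg₁card : Nat.card g₁.range = p := by
        rw [← Subgroup.index_ker, hg₁ker]
        exact hidxN
      have hle : f.range ≤ g₁.range := by
        rintro _ ⟨g, rfl⟩
        refine ⟨⟨g ^ p, Helper87.pow_p_mem_frattini hHp g⟩, ?_⟩
        show Abelianization.of (g ^ p) = (Abelianization.of g) ^ p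
        rw [map_pow]
      exact hg₁card ▸ Subgroup.card_dvd_of_le hle
    have hLtop : f.ker ≠ ⊤ := by
      intro h
      have h1 : ∀ g : H, (Abelianization.of g : Abelianization H) ^ p = 1 := by
        intro g
        have hg : g ∈ f.ker := h ▸ Subgroup.mem_top g
        exact hg
      have h2 := Helper87.frattini_le_ker_of_exponent
        (Abelianization.of : H →* Abelianization H) h1
      rw [Abelianization.ker_of] at h2
      have h3 := Subgroup.card_le_of_le h2
      rw [hΦ, hNcard] at h3
      omega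
    obtain ⟨r1, r2⟩ := finish f.ker hΦL hLidx hLtop
    exact ⟨f.ker, hΦL, hLchar, r1, r2⟩
  · -- the Frattini subgroup is not central
    obtain ⟨y, hyΦ, hyZ⟩ := SetLike.not_le_iff_exists.1 hΦZ
    have hΦne : frattini H ≠ ⊥ := by
      intro h
      rw [h, Subgroup.card_bot] at hΦ
      omega
    obtain ⟨z, hzΦ, hz1, hzZ⟩ :=
      Helper53.exists_mem_center_of_normal_of_ne_bot hHp (frattini H) hΦne
    let Z₀ : Subgroup H := Subgroup.center H ⊓ frattini H
    have hZ₀le : Z₀ ≤ frattini H := inf_le_right
    have hZ₀card : Nat.card Z₀ = p := by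
      have hdvd : Nat.card Z₀ ∣ p ^ 2 := hΦ ▸ Subgroup.card_dvd_of_le hZ₀le
      obtain ⟨j, hj, hcj⟩ := (Nat.dvd_prime_pow hp).1 hdvd
      have hj' : j = 0 ∨ j = 1 ∨ j = 2 := by omega
      rcases hj' with rfl | rfl | rfl
      · exfalso
        have h0 : Z₀ = ⊥ := Subgroup.card_eq_one.1 (by simpa using hcj)
        have hz : z ∈ Z₀ := ⟨hzZ, hzΦ⟩
        rw [h0, Subgroup.mem_bot] at hz
        exact hz1 hz
      · simpa using hcj
      · exfalso
        have h0 : Z₀ = frattini H := Subgroup.eq_of_le_of_card_ge hZ₀le (by rw [hΦ, hcj])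
        have hy : y ∈ Z₀ := h0 ▸ hyΦ
        exact hyZ hy.1
    have hZ₀n : Z₀.Normal := by
      constructor
      intro n hn g
      have h1 : g * n * g⁻¹ = n := by
        have h2 := Subgroup.mem_center_iff.1 hn.1 g
        rw [h2]; group
      rw [h1]; exact hn
    have hrel : Z₀.relIndex (frattini H) = p := relp Z₀ hZ₀le hZ₀card
    have hc0 : ∀ h : H, y⁻¹ * (h * y * h⁻¹) ∈ Z₀ := by
      intro h
      have hpow : (MulAut.conj h) ^ (p ^ 4) = 1 := by
        rw [← map_pow, ← hcard, pow_card_eq_one', map_one]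
      have h3 := sub_mem_of_relIndex Z₀ (frattini H) hZ₀n (hrel ▸ dvd_rfl) (MulAut.conj h)
        (fun u hu => (Helper84.aut_mem_frattini _).2 hu)
        (fun u hu => by
          have h1 : (MulAut.conj h) u = u := by
            rw [MulAut.conj_apply]
            have h2 := Subgroup.mem_center_iff.1 hu.1 h
            rw [h2]; group
          rw [h1]; exact hu) 4 hpow y hyΦ
      rwa [MulAut.conj_apply] at h3
    have hcen : ∀ h : H, h * y * h⁻¹ * y⁻¹ ∈ Z₀ := by
      intro h
      have h1 := hc0 h
      have h2 : h * y * h⁻¹ * y⁻¹ = y * (y⁻¹ * (h * y * h⁻¹)) * y⁻¹ := by group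
      rw [h2]
      exact hZ₀n.conj_mem _ h1 y
    let κ : H →* H := MonoidHom.mk' (fun h => h * y * h⁻¹ * y⁻¹) (by
      intro a b
      show a * b * y * (a * b)⁻¹ * y⁻¹ = (a * y * a⁻¹ * y⁻¹) * (b * y * b⁻¹ * y⁻¹)
      have hb := Subgroup.mem_center_iff.1 (hcen b).1
      have e1 : a * b * y * (a * b)⁻¹ * y⁻¹ = a * (b * y * b⁻¹ * y⁻¹) * y * a⁻¹ * y⁻¹ := by
        group
      rw [e1, hb a, hb (a * y * a⁻¹ * y⁻¹)]
      simp only [mul_assoc])
    have hκ : ∀ h, κ h = h * y * h⁻¹ * y⁻¹ := fun h => rfl
    have hκr : κ.range ≤ Z₀ := by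
      rintro _ ⟨h, rfl⟩
      exact hcen h
    have hκidx : κ.ker.index ∣ p := by
      rw [Subgroup.index_ker]
      exact hZ₀card ▸ Subgroup.card_dvd_of_le hκr
    have hT : Z₀ ⊔ Subgroup.zpowers y = frattini H := by
      have hTle : Z₀ ⊔ Subgroup.zpowers y ≤ frattini H :=
        sup_le hZ₀le (Subgroup.zpowers_le.2 hyΦ)
      have hlt : Z₀ < Z₀ ⊔ Subgroup.zpowers y := by
        refine lt_of_le_of_ne le_sup_left ?_
        intro h
        have hy : y ∈ Z₀ := h ▸ (Subgroup.mem_sup_right (Subgroup.mem_zpowers y))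
        exact hyZ hy.1
      have h1 := card_ge_mul_of_lt hHp hlt
      rw [hZ₀card] at h1
      apply Subgroup.eq_of_le_of_card_ge hTle
      rw [hΦ]
      calc p ^ 2 = p * p := by ring
        _ ≤ _ := h1
    let L : Subgroup H := Subgroup.centralizer (frattini H : Set H)
    have hκL : κ.ker ≤ L := by
      intro h hh
      rw [MonoidHom.mem_ker, hκ] at hh
      have hhy : h * y = y * h := by
        have e : h * y = (h * y * h⁻¹ * y⁻¹) * (y * h) := by group
        rw [e, hh, one_mul]
      have hle : frattini H ≤ Subgroup.centralizer ({h} : Set H) := by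
        rw [← hT]
        apply sup_le
        · intro u hu
          rw [Subgroup.mem_centralizer_iff]
          intro h' hh'
          rw [Set.mem_singleton_iff] at hh'
          rw [hh']
          exact Subgroup.mem_center_iff.1 hu.1 h
        · rw [Subgroup.zpowers_le, Subgroup.mem_centralizer_iff]
          intro h' hh'
          rw [Set.mem_singleton_iff] at hh'
          rw [hh']
          exact hhy
      show h ∈ Subgroup.centralizer (frattini H : Set H)
      rw [Subgroup.mem_centralizer_iff]
      intro u hu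
      exact (Subgroup.mem_centralizer_iff.1 (hle hu) h rfl).symm
    have hLidx : L.index ∣ p := dvd_trans (Subgroup.index_dvd_of_le hκL) hκidx
    have hΦL : frattini H ≤ L := by
      have hcomm : IsMulCommutative ↥(frattini H) :=
        IsPGroup.isMulCommutative_of_card_eq_prime_sq hΦ
      intro u hu
      show u ∈ Subgroup.centralizer (frattini H : Set H)
      rw [Subgroup.mem_centralizer_iff]
      intro v hv
      have h1 := hcomm.is_comm.comm (⟨v, hv⟩ : frattini H) ⟨u, hu⟩
      exact congrArg Subtype.val h1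
    have hLtop : L ≠ ⊤ := by
      intro h
      apply hyZ
      rw [Subgroup.mem_center_iff]
      intro g
      have hg0 : g ∈ L := h ▸ Subgroup.mem_top g
      have hg : g ∈ Subgroup.centralizer (frattini H : Set H) := hg0
      exact (Subgroup.mem_centralizer_iff.1 hg y hyΦ).symm
    have hLchar : ∀ α : MulAut H, ∀ x ∈ L, α x ∈ L := by
      intro α u hu
      have hu' : u ∈ Subgroup.centralizer (frattini H : Set H) := hu
      show α u ∈ Subgroup.centralizer (frattini H : Set H)
      rw [Subgroup.mem_centralizer_iff] at hu' ⊢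
      intro v hv
      have hv' : α⁻¹ v ∈ frattini H := (Helper84.aut_mem_frattini _).2 hv
      have h1 := congrArg α (hu' _ hv')
      rw [map_mul, map_mul, MulAut.apply_inv_self] at h1
      exact h1
    obtain ⟨r1, r2⟩ := finish L hΦL hLidx hLtop
    exact ⟨L, hΦL, hLchar, r1, r2⟩


/-- relative index from the orders. -/
theorem relIndex_dvd_of_card {A B : Subgroup H} (hAB : A ≤ B)
    (h : Nat.card B = p * Nat.card A) : A.relIndex B ∣ p := by
  have h1 := Subgroup.relIndex_mul_index hAB
  have h2 := Subgroup.card_mul_index A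
  have h3 := Subgroup.card_mul_index B
  have hA : 0 < Nat.card A := Nat.card_pos
  have hB : 0 < B.index := Nat.pos_of_ne_zero Subgroup.index_ne_zero_of_finite
  have h4 : Nat.card A * (A.relIndex B * B.index) = Nat.card A * (p * B.index) := by
    rw [h1, h2, ← h3, h]; ring
  have h5 := Nat.eq_of_mul_eq_mul_left hA h4
  have h6 := Nat.eq_of_mul_eq_mul_right hB h5
  rw [h6]

/-- in a group of order `p⁴` whose centre has order at least `p²`, the centre and two
non-commuting elements generate everything. -/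
theorem sup_eq_top_of_noncomm (hHp : IsPGroup p H) (hcard : Nat.card H = p ^ 4)
    (hZ : p ^ 2 ≤ Nat.card (Subgroup.center H)) {x y : H} (hxy : x * y ≠ y * x) :
    Subgroup.center H ⊔ Subgroup.zpowers x ⊔ Subgroup.zpowers y = ⊤ := by
  have hp : p.Prime := Fact.out
  have hxZ : x ∉ Subgroup.center H := fun h => hxy ((Subgroup.mem_center_iff.1 h y).symm)
  have hM₁le : Subgroup.center H ⊔ Subgroup.zpowers x ≤ Subgroup.centralizer ({x} : Set H) := by
    apply sup_le
    · intro z hz
      rw [Subgroup.mem_centralizer_iff]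
      intro x' hx'
      rw [Set.mem_singleton_iff] at hx'
      rw [hx']
      exact Subgroup.mem_center_iff.1 hz x
    · rw [Subgroup.zpowers_le, Subgroup.mem_centralizer_iff]
      intro x' hx'
      rw [Set.mem_singleton_iff] at hx'
      rw [hx']
  have hyM : y ∉ Subgroup.center H ⊔ Subgroup.zpowers x := by
    intro h
    have h1 := Subgroup.mem_centralizer_iff.1 (hM₁le h) x rfl
    exact hxy h1
  have hZM₁ : Subgroup.center H < Subgroup.center H ⊔ Subgroup.zpowers x := by
    refine lt_of_le_of_ne le_sup_left ?_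
    intro h
    apply hxZ
    rw [h]
    exact Subgroup.mem_sup_right (Subgroup.mem_zpowers x)
  have hM₁T : Subgroup.center H ⊔ Subgroup.zpowers x <
      Subgroup.center H ⊔ Subgroup.zpowers x ⊔ Subgroup.zpowers y := by
    refine lt_of_le_of_ne le_sup_left ?_
    intro h
    apply hyM
    rw [h]
    exact Subgroup.mem_sup_right (Subgroup.mem_zpowers y)
  have h1 := card_ge_mul_of_lt hHp hZM₁
  have h2 := card_ge_mul_of_lt hHp hM₁T
  rw [← Subgroup.card_eq_iff_eq_top, hcard]
  apply le_antisymm
  · rw [← hcard]; exact Subgroup.card_le_card_group _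
  · calc p ^ 4 = p * (p * p ^ 2) := by ring
      _ ≤ p * (p * Nat.card (Subgroup.center H)) :=
          Nat.mul_le_mul_left _ (Nat.mul_le_mul_left _ hZ)
      _ ≤ p * Nat.card ↥(Subgroup.center H ⊔ Subgroup.zpowers x) :=
          Nat.mul_le_mul_left _ h1
      _ ≤ _ := h2

theorem mem_center_of_commute_pair (hHp : IsPGroup p H) (hcard : Nat.card H = p ^ 4)
    (hZ : p ^ 2 ≤ Nat.card (Subgroup.center H)) {x y : H} (hxy : x * y ≠ y * x) {h : H}
    (hx : h * x = x * h) (hy : h * y = y * h) : h ∈ Subgroup.center H := by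
  have htop := sup_eq_top_of_noncomm hHp hcard hZ hxy
  have hle : (⊤ : Subgroup H) ≤ Subgroup.centralizer ({h} : Set H) := by
    rw [← htop]
    refine sup_le (sup_le ?_ ?_) ?_
    · intro z hz
      rw [Subgroup.mem_centralizer_iff]
      intro h' hh'
      rw [Set.mem_singleton_iff] at hh'
      rw [hh']
      exact Subgroup.mem_center_iff.1 hz h
    · rw [Subgroup.zpowers_le, Subgroup.mem_centralizer_iff]
      intro h' hh'
      rw [Set.mem_singleton_iff] at hh'
      rw [hh']
      exact hx
    · rw [Subgroup.zpowers_le, Subgroup.mem_centralizer_iff]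
      intro h' hh'
      rw [Set.mem_singleton_iff] at hh'
      rw [hh']
      exact hy
  rw [Subgroup.mem_center_iff]
  intro g
  exact (Subgroup.mem_centralizer_iff.1 (hle (Subgroup.mem_top g)) h rfl).symm

theorem card_mult_zmod (n : ℕ) : Nat.card (Multiplicative (ZMod n)) = n := by
  show Nat.card (ZMod n) = n
  exact Nat.card_zmod n

/-- abelian groups of order `p⁴` with Frattini subgroup of order `p`. -/
theorem abelian_d3_iso (hcard : Nat.card H = p ^ 4) (hab : ∀ a b : H, a * b = b * a)
    (hΦ : Nat.card (frattini H) = p) :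
    Nonempty (H ≃* Multiplicative (ZMod (p ^ 2) × ZMod p × ZMod p)) := by
  have hp : p.Prime := Fact.out
  have hHp : IsPGroup p H := IsPGroup.of_card hcard
  have hZtop : ∀ g : H, g ∈ Subgroup.center H := fun g =>
    Subgroup.mem_center_iff.2 (fun h => hab h g)
  have hΦpow : ∀ u ∈ frattini H, u ^ p = 1 := by
    intro u hu
    have h1 : (⟨u, hu⟩ : frattini H) ^ Nat.card (frattini H) = 1 := pow_card_eq_one'
    rw [hΦ] at h1
    exact congrArg Subtype.val h1
  have hpowΦ : ∀ x : H, x ^ p ∈ frattini H := fun x => Helper87.pow_p_mem_frattini hHp x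
  have hexp : ∀ x : H, x ^ (p ^ 2) = 1 := by
    intro x
    rw [pow_two, pow_mul]
    exact hΦpow _ (hpowΦ x)
  have hcomm_bot : commutator H = ⊥ := by
    rw [eq_bot_iff, commutator_def, Subgroup.commutator_le]
    intro a _ b _
    rw [Subgroup.mem_bot, commutatorElement_eq_one_iff_commute]
    exact hab a b
  obtain ⟨x, hx⟩ : ∃ x : H, x ^ p ≠ 1 := by
    by_contra hcon
    push Not at hcon
    have h1 : ∀ g : H, (Abelianization.of g : Abelianization H) ^ p = 1 := fun g => by
      rw [← map_pow, hcon g, map_one]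
    have h2 := Helper87.frattini_le_ker_of_exponent
      (Abelianization.of : H →* Abelianization H) h1
    rw [Abelianization.ker_of, hcomm_bot] at h2
    have h3 := Subgroup.card_le_of_le h2
    rw [hΦ, Subgroup.card_bot] at h3
    have := hp.one_lt
    omega
  have hordx : orderOf x = p ^ 2 := by
    have h := orderOf_eq_prime_pow (p := p) (n := 1) (x := x) (by rwa [pow_one]) (hexp x)
    simpa using h
  have hXcard : Nat.card (Subgroup.zpowers x) = p ^ 2 := by rw [Nat.card_zpowers, hordx]
  let pw : H →* H :=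
    { toFun := fun g => g ^ p
      map_one' := one_pow p
      map_mul' := fun a b => (show Commute a b from hab a b).mul_pow p }
  have hpw : ∀ g, pw g = g ^ p := fun g => rfl
  have hWcard : Nat.card pw.ker = p ^ 3 := by
    have hle : pw.range ≤ frattini H := by
      rintro _ ⟨g, rfl⟩
      exact hpowΦ g
    have h1 : Nat.card pw.range ∣ p := hΦ ▸ Subgroup.card_dvd_of_le hle
    have h2 : Nat.card pw.range = p := by
      rcases (Nat.dvd_prime hp).1 h1 with h | h
      · exfalso
        have h3 : pw x ∈ pw.range := ⟨x, rfl⟩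
        rw [Subgroup.card_eq_one.1 h, Subgroup.mem_bot] at h3
        exact hx h3
      · exact h
    have h3 := Subgroup.card_mul_index pw.ker
    rw [Subgroup.index_ker, h2, hcard] at h3
    have h4 : p ^ 4 = p ^ 3 * p := by ring
    rw [h4] at h3
    exact Nat.eq_of_mul_eq_mul_right hp.pos h3
  have h23 : p ^ 2 < p ^ 3 := Nat.pow_lt_pow_right hp.one_lt (by norm_num)
  obtain ⟨y, hyW, hyX⟩ : ∃ y ∈ pw.ker, y ∉ Subgroup.zpowers x := by
    by_contra hcon
    push Not at hcon
    have h1 := Subgroup.card_le_of_le (show pw.ker ≤ Subgroup.zpowers x from hcon)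
    rw [hWcard, hXcard] at h1
    omega
  have hyp : y ^ p = 1 := hyW
  obtain ⟨θ₁, hθ₁inj, hθ₁⟩ :=
    exists_hom_of_central (Subgroup.zpowers x) y (hZtop y) hyp hyX
  have hM₂card : Nat.card θ₁.range = p ^ 3 := by
    rw [← Nat.card_congr (MonoidHom.ofInjective hθ₁inj).toEquiv, Nat.card_prod, hXcard,
      card_mult_zmod]
    ring
  have hxM₂ : x ∈ θ₁.range := by
    refine ⟨(⟨x, Subgroup.mem_zpowers x⟩, 1), ?_⟩
    rw [hθ₁]
    simp
  obtain ⟨z, hzW, hzM⟩ : ∃ z ∈ pw.ker, z ∉ θ₁.range := by
    by_contra hcon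
    push Not at hcon
    have h1 : pw.ker = θ₁.range :=
      Subgroup.eq_of_le_of_card_ge hcon (by rw [hWcard, hM₂card])
    have h2 : x ∈ pw.ker := h1 ▸ hxM₂
    exact hx h2
  have hzp : z ^ p = 1 := hzW
  obtain ⟨θ₂, hθ₂inj, hθ₂⟩ := exists_hom_of_central θ₁.range z (hZtop z) hzp hzM
  have hθ₂bij : Function.Bijective θ₂ := hθ₂inj.bijective_of_nat_card_le (by
    rw [Nat.card_prod, hM₂card, hcard, card_mult_zmod]
    exact le_of_eq (by ring))
  have e₀ : ↥(Subgroup.zpowers x) ≃* Multiplicative (ZMod (p ^ 2)) :=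
    mulEquivOfCyclicCardEq (by rw [hXcard, card_mult_zmod])
  have e₁ : ↥(Subgroup.zpowers x) × Multiplicative (ZMod p) ≃* ↥θ₁.range :=
    MonoidHom.ofInjective hθ₁inj
  have e₂ : ↥θ₁.range × Multiplicative (ZMod p) ≃* H := MulEquiv.ofBijective θ₂ hθ₂bij
  exact ⟨e₂.symm.trans ((MulEquiv.prodCongr (e₁.symm.trans
    (MulEquiv.prodCongr e₀ (MulEquiv.refl _))) (MulEquiv.refl _)).trans
    (MulEquiv.prodAssoc.trans ((MulEquiv.prodCongr (MulEquiv.refl _)
      (MulEquiv.prodMultiplicative (ZMod p) (ZMod p)).symm).trans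
      (MulEquiv.prodMultiplicative (ZMod (p ^ 2)) (ZMod p × ZMod p)).symm)))⟩


/-- nonabelian groups of order `p⁴` with Frattini subgroup of order `p`. -/
theorem nonab_d3 (hcard : Nat.card H = p ^ 4) (hnc : ¬ ∀ a b : H, a * b = b * a)
    (hΦ : Nat.card (frattini H) = p) :
    (∃ K₁ K₂ : Subgroup H, frattini H ≤ K₁ ∧ K₁ ≤ K₂ ∧ (∀ α : MulAut H, ∀ x ∈ K₁, α x ∈ K₁) ∧
        (∀ α : MulAut H, ∀ x ∈ K₂, α x ∈ K₂) ∧ (frattini H).relIndex K₁ ∣ p ∧
        K₁.relIndex K₂ ∣ p ∧ K₂.index ∣ p) ∨
      (Odd p ∧ ∃ (E : Type) (_ : Group E) (_ : Finite E), IsExtraspecial p E ∧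
        Nat.card E = p ^ 3 ∧ (∀ x : E, x ^ p = 1) ∧
        Nonempty (H ≃* E × Multiplicative (ZMod p))) ∨
      (p = 2 ∧ Nonempty (H ≃* QuaternionGroup 2 × Multiplicative (ZMod 2))) ∨
      ((∀ x : H, x ^ (p ^ 2) = 1) ∧ IsCyclic (Subgroup.center H) ∧
        Nat.card (Subgroup.center H) = p ^ 2) := by
  have hp : p.Prime := Fact.out
  have hHp : IsPGroup p H := IsPGroup.of_card hcard
  have hΦne : frattini H ≠ ⊥ := by
    intro h
    rw [h, Subgroup.card_bot] at hΦ
    exact hp.one_lt.ne hΦ
  obtain ⟨z, hzΦ, hz1, hzZ⟩ :=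
    Helper53.exists_mem_center_of_normal_of_ne_bot hHp (frattini H) hΦne
  have hΦZ : frattini H ≤ Subgroup.center H := by
    have h1 : Nat.card ↥(frattini H ⊓ Subgroup.center H) ∣ p :=
      hΦ ▸ Subgroup.card_dvd_of_le inf_le_left
    rcases (Nat.dvd_prime hp).1 h1 with h | h
    · exfalso
      have h0 := Subgroup.card_eq_one.1 h
      have hz' : z ∈ frattini H ⊓ Subgroup.center H := ⟨hzΦ, hzZ⟩
      rw [h0, Subgroup.mem_bot] at hz'
      exact hz1 hz'
    · have h0 : frattini H ⊓ Subgroup.center H = frattini H :=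
        Subgroup.eq_of_le_of_card_ge inf_le_left (by rw [h, hΦ])
      rw [← h0]
      exact inf_le_right
  have hcΦ : ∀ a b : H, ⁅a, b⁆ ∈ frattini H := fun a b => by
    rw [commutatorElement_def]; exact Helper87.comm_mem_frattini hHp a b
  have hc : ∀ a b : H, ⁅a, b⁆ ∈ Subgroup.center H := fun a b => hΦZ (hcΦ a b)
  have hΦpow : ∀ u ∈ frattini H, u ^ p = 1 := by
    intro u hu
    have h1 : (⟨u, hu⟩ : frattini H) ^ Nat.card (frattini H) = 1 := pow_card_eq_one'
    rw [hΦ] at h1
    exact congrArg Subtype.val h1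
  have hcp : ∀ a b : H, ⁅a, b⁆ ^ p = 1 := fun a b => hΦpow _ (hcΦ a b)
  have hpowΦ : ∀ x : H, x ^ p ∈ frattini H := fun x => Helper87.pow_p_mem_frattini hHp x
  have hexp : ∀ x : H, x ^ (p ^ 2) = 1 := by
    intro x
    rw [pow_two, pow_mul]
    exact hΦpow _ (hpowΦ x)
  have hZtop : Subgroup.center H ≠ ⊤ := by
    intro h
    apply hnc
    intro a b
    have ha : a ∈ Subgroup.center H := h ▸ Subgroup.mem_top a
    exact (Subgroup.mem_center_iff.1 ha b).symm
  have hpp : p < p ^ 2 := by nlinarith [hp.one_lt]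
  -- the centre has order `p²`
  have hZcard : Nat.card (Subgroup.center H) = p ^ 2 := by
    have hdvd : Nat.card (Subgroup.center H) ∣ p ^ 4 :=
      hcard ▸ Subgroup.card_subgroup_dvd_card _
    obtain ⟨j, hj, hcj⟩ := (Nat.dvd_prime_pow hp).1 hdvd
    have hj' : j = 0 ∨ j = 1 ∨ j = 2 ∨ j = 3 ∨ j = 4 := by omega
    rcases hj' with rfl | rfl | rfl | rfl | rfl
    · exfalso
      have h0 := Subgroup.card_eq_one.1 (by simpa using hcj)
      rw [h0, Subgroup.mem_bot] at hzZ
      exact hz1 hzZ
    · exfalso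
      have hZp : Nat.card (Subgroup.center H) = p := by simpa using hcj
      obtain ⟨x, y, hxy⟩ : ∃ x y : H, ⁅x, y⁆ ≠ 1 := by
        by_contra hcon
        push Not at hcon
        exact hnc (fun a b => (commutatorElement_eq_one_iff_commute.1 (hcon a b)).eq)
      have h1 := Helper2.ESL.card_pairKer hZp hc x y hxy
      have h2 := Helper2.ESL.card_center_pairKer hZp hc x y hxy
      have h3 : Nat.card (Helper2.ESL.pairKer hc x y) = p ^ 2 := by
        rw [hcard] at h1
        have h4 : p ^ 4 = p ^ 2 * (p * p) := by ring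
        rw [h4] at h1
        exact Nat.eq_of_mul_eq_mul_right (Nat.mul_pos hp.pos hp.pos) h1
      have h4 : IsMulCommutative ↥(Helper2.ESL.pairKer hc x y) :=
        IsPGroup.isMulCommutative_of_card_eq_prime_sq h3
      have h5 : Subgroup.center ↥(Helper2.ESL.pairKer hc x y) = ⊤ := by
        rw [eq_top_iff]
        intro u _
        rw [Subgroup.mem_center_iff]
        intro g
        exact h4.is_comm.comm g u
      rw [h5, Subgroup.card_top, h3] at h2
      omega
    · exact hcj
    · exfalso
      apply hnc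
      have hidx : (Subgroup.center H).index = p := by
        have h := Subgroup.card_mul_index (Subgroup.center H)
        rw [hcj, hcard] at h
        have h4 : p ^ 4 = p ^ 3 * p := by ring
        rw [h4] at h
        exact Nat.eq_of_mul_eq_mul_left (pow_pos hp.pos 3) h
      haveI : IsCyclic (H ⧸ Subgroup.center H) :=
        isCyclic_of_prime_card (p := p) (by rw [← Subgroup.index_eq_card]; exact hidx)
      have hcm := MonoidHom.isMulCommutative_of_isCyclic_of_ker_le_center
        (QuotientGroup.mk' (Subgroup.center H)) (by rw [QuotientGroup.ker_mk'])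
      exact fun a b => hcm.is_comm.comm a b
    · exfalso
      exact hZtop ((Subgroup.card_eq_iff_eq_top _).1 (by rw [hcj, hcard]))
  by_cases hZcyc : IsCyclic (Subgroup.center H)
  · exact Or.inr (Or.inr (Or.inr ⟨hexp, hZcyc, hZcard⟩))
  -- the centre is elementary abelian
  have hZel : ∀ z ∈ Subgroup.center H, z ^ p = 1 := by
    intro w hw
    by_contra hne
    apply hZcyc
    have h1 : orderOf (⟨w, hw⟩ : Subgroup.center H) = p ^ 2 := by
      have h := orderOf_eq_prime_pow (p := p) (n := 1) (x := (⟨w, hw⟩ : Subgroup.center H))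
        (by rw [pow_one]; intro h; exact hne (congrArg Subtype.val h))
        (by apply Subtype.ext; rw [Subgroup.coe_pow, Subgroup.coe_one]; exact hexp w)
      simpa using h
    exact isCyclic_of_orderOf_eq_card _ (by rw [h1, hZcard])
  have hΦltZ : frattini H < Subgroup.center H := by
    refine lt_of_le_of_ne hΦZ ?_
    intro h
    rw [← h, hΦ] at hZcard
    omega
  obtain ⟨c, hcZ, hcnΦ⟩ := SetLike.exists_of_lt hΦltZ
  obtain ⟨M, hM, hcM⟩ : ∃ M : Subgroup H, IsCoatom M ∧ c ∉ M := by
    by_contra hcon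
    push Not at hcon
    exact hcnΦ ((Helper2.mem_frattini_iff c).2 hcon)
  have hMidx : M.index = p := Helper2.coatom_index hHp hM
  have hMcard : Nat.card M = p ^ 3 := by
    have h := Subgroup.card_mul_index M
    rw [hMidx, hcard] at h
    have h4 : p ^ 4 = p ^ 3 * p := by ring
    rw [h4] at h
    exact Nat.eq_of_mul_eq_mul_right hp.pos h
  obtain ⟨θ, hθinj, hθ⟩ := exists_hom_of_central M c hcZ (hZel c hcZ) hcM
  have hθbij : Function.Bijective θ := hθinj.bijective_of_nat_card_le (by
    rw [Nat.card_prod, hMcard, hcard, card_mult_zmod]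
    exact le_of_eq (by ring))
  have e : ↥M × Multiplicative (ZMod p) ≃* H := MulEquiv.ofBijective θ hθbij
  have hMnc : ¬ ∀ a b : M, a * b = b * a := by
    intro hMc
    apply hnc
    intro a b
    obtain ⟨⟨m₁, k₁⟩, rfl⟩ := hθbij.2 a
    obtain ⟨⟨m₂, k₂⟩, rfl⟩ := hθbij.2 b
    rw [← map_mul, ← map_mul, Prod.mk_mul_mk, Prod.mk_mul_mk, hMc m₁ m₂, mul_comm k₁ k₂]
  by_cases hp2 : p = 2
  · -- `p = 2`
    subst hp2
    have huniq : ∀ a ∈ frattini H, ∀ b ∈ frattini H, a ≠ 1 → b ≠ 1 → a = b := by
      intro a ha b hb ha1 hb1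
      obtain ⟨y, -, hy⟩ := (Nat.card_eq_two_iff' (1 : frattini H)).1 hΦ
      have h1 := hy ⟨a, ha⟩ (fun h => ha1 (congrArg Subtype.val h))
      have h2 := hy ⟨b, hb⟩ (fun h => hb1 (congrArg Subtype.val h))
      exact congrArg Subtype.val (h1.trans h2.symm)
    have hsq : ∀ a b : H, (a * b) ^ 2 = a ^ 2 * b ^ 2 * ⁅b, a⁆ := by
      intro a b
      have h := Helper2.mul_pow_of_commutator_central a b (hc b a) 2
      simpa using h
    have hsqZ : ∀ a : H, ∀ z ∈ Subgroup.center H, (a * z) ^ 2 = a ^ 2 := by
      intro a z hz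
      have h1 : Commute a z := Subgroup.mem_center_iff.1 hz a
      rw [h1.mul_pow, hZel z hz, mul_one]
    by_cases hI : ∃ w : H, w ∉ Subgroup.center H ∧ w ^ 2 = 1
    · left
      obtain ⟨w, hwZ, hw2⟩ := hI
      have hfin : ∀ t : H, t ^ 2 ≠ 1 → t * w ∈ Subgroup.center H → False := by
        intro t ht htw
        apply ht
        have h1 : w = t⁻¹ * (t * w) := by group
        have h2 := hsqZ t⁻¹ (t * w) htw
        rw [← h1, hw2, inv_pow] at h2
        exact inv_eq_one.1 h2.symm
      have hmulc : ∀ g₁ g₂ t : H, ⁅g₁ * g₂, t⁆ = ⁅g₁, t⁆ * ⁅g₂, t⁆ := fun g₁ g₂ t =>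
        congrArg Subtype.val (map_mul (Helper2.ESL.commHomL hc t) g₁ g₂)
      have hkey : ∀ u v : H, u ^ 2 ≠ 1 → v ^ 2 ≠ 1 → u * v = v * u := by
        intro u v hu hv
        by_contra huv
        have hcenter : ∀ h : H, ⁅h, u⁆ = 1 → ⁅h, v⁆ = 1 → h ∈ Subgroup.center H :=
          fun h h1 h2 => mem_center_of_commute_pair hHp hcard hZcard.ge huv
            (commutatorElement_eq_one_iff_commute.1 h1).eq
            (commutatorElement_eq_one_iff_commute.1 h2).eq
        have hvu : ⁅v, u⁆ ≠ 1 := by
          rw [Ne, commutatorElement_eq_one_iff_commute]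
          intro h
          exact huv h.eq.symm
        have e1 : v ^ 2 = u ^ 2 := huniq _ (hpowΦ v) _ (hpowΦ u) hv hu
        have e2 : ⁅v, u⁆ = u ^ 2 := huniq _ (hcΦ v u) _ (hpowΦ u) hvu hu
        have hee : u ^ 2 * u ^ 2 = 1 := by
          rw [← pow_add]
          exact hexp u
        have huv2 : (u * v) ^ 2 = u ^ 2 := by rw [hsq, e1, e2, hee, one_mul]
        have hdich : ∀ g t : H, ⁅g, t⁆ = 1 ∨ ⁅g, t⁆ = u ^ 2 := by
          intro g t
          by_cases h : ⁅g, t⁆ = 1
          · exact Or.inl h
          · exact Or.inr (huniq _ (hcΦ g t) _ (hpowΦ u) h hu)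
        have huu : ⁅u, u⁆ = 1 := commutatorElement_self u
        have hvv : ⁅v, v⁆ = 1 := commutatorElement_self v
        have huv' : ⁅u, v⁆ = u ^ 2 := by
          rw [← commutatorElement_inv v u, e2]
          exact inv_eq_of_mul_eq_one_left hee
        rcases hdich w u with ha | ha <;> rcases hdich w v with hb | hb
        · exact hwZ (hcenter w ha hb)
        · refine hfin u hu (hcenter _ ?_ ?_)
          · rw [hmulc, huu, ha, one_mul]
          · rw [hmulc, huv', hb, hee]
        · refine hfin v hv (hcenter _ ?_ ?_)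
          · rw [hmulc, e2, ha, hee]
          · rw [hmulc, hvv, hb, one_mul]
        · refine hfin (u * v) (by rw [huv2]; exact hu) (hcenter _ ?_ ?_)
          · rw [hmulc, hmulc, huu, e2, ha, one_mul, hee]
          · rw [hmulc, hmulc, huv', hvv, hb, mul_one, hee]
      obtain ⟨u₀, hu₀⟩ : ∃ u₀ : H, u₀ ^ 2 ≠ 1 := by
        by_contra hcon
        push Not at hcon
        apply hnc
        intro a b
        have h1 := hcon (a * b)
        have ha := hcon a
        have hb := hcon b
        have ha' : a⁻¹ = a := by rw [inv_eq_iff_mul_eq_one, ← sq]; exact ha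
        have hb' : b⁻¹ = b := by rw [inv_eq_iff_mul_eq_one, ← sq]; exact hb
        have hab' : (a * b)⁻¹ = a * b := by rw [inv_eq_iff_mul_eq_one, ← sq]; exact h1
        rw [← hab', mul_inv_rev, ha', hb']
      obtain ⟨K₂, hK₂⟩ : ∃ K₂ : Subgroup H, K₂ = Subgroup.closure {v : H | v ^ 2 ≠ 1} :=
        ⟨_, rfl⟩
      have hu₀K : u₀ ∈ K₂ := by rw [hK₂]; exact Subgroup.subset_closure hu₀
      have hu₀Z : u₀ ∉ Subgroup.center H := fun h => hu₀ (hZel u₀ h)
      have hZK : Subgroup.center H ≤ K₂ := by
        intro z hz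
        have h1 : u₀ * z ∈ K₂ := by
          rw [hK₂]
          apply Subgroup.subset_closure
          show (u₀ * z) ^ 2 ≠ 1
          rw [hsqZ u₀ z hz]
          exact hu₀
        have h2 : z = u₀⁻¹ * (u₀ * z) := by group
        rw [h2]
        exact K₂.mul_mem (K₂.inv_mem hu₀K) h1
      have hKC : K₂ ≤ Subgroup.centralizer ({u₀} : Set H) := by
        rw [hK₂, Subgroup.closure_le]
        intro v hv
        rw [SetLike.mem_coe, Subgroup.mem_centralizer_iff]
        intro t ht
        rw [Set.mem_singleton_iff] at ht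
        rw [ht]
        exact hkey u₀ v hu₀ hv
      have hKtop : K₂ ≠ ⊤ := by
        intro h
        apply hu₀Z
        rw [Subgroup.mem_center_iff]
        intro g
        have hg : g ∈ Subgroup.centralizer ({u₀} : Set H) := hKC (h ▸ Subgroup.mem_top g)
        exact (Subgroup.mem_centralizer_iff.1 hg u₀ rfl).symm
      have hZltK : Subgroup.center H < K₂ :=
        lt_of_le_of_ne hZK (fun h => hu₀Z (h ▸ hu₀K))
      have hKcard : Nat.card K₂ = 2 ^ 3 := by
        have h1 := card_ge_mul_of_lt hHp hZltK
        have h2 := card_ge_mul_of_lt hHp (lt_top_iff_ne_top.2 hKtop)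
        rw [Subgroup.card_top, hcard] at h2
        rw [hZcard] at h1
        omega
      have hKidx : K₂.index = 2 := by
        have h := Subgroup.card_mul_index K₂
        rw [hKcard, hcard] at h
        omega
      refine ⟨Subgroup.center H, K₂, hΦZ, hZK, fun α x hx => center_char α hx, ?_, ?_, ?_,
        hKidx ▸ dvd_rfl⟩
      · intro α x hx
        have hle : K₂ ≤ K₂.comap α.toMonoidHom := by
          rw [hK₂, Subgroup.closure_le]
          intro v hv
          show α v ∈ Subgroup.closure {v : H | v ^ 2 ≠ 1}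
          apply Subgroup.subset_closure
          show (α v) ^ 2 ≠ 1
          rw [← map_pow]
          intro h
          exact hv (α.injective (by rw [h, map_one]))
        exact hle hx
      · exact relIndex_dvd_of_card hΦZ (by rw [hZcard, hΦ]; norm_num)
      · exact relIndex_dvd_of_card hZK (by rw [hKcard, hZcard]; norm_num)
    · right; right; left
      push Not at hI
      have hinvol : ∀ x : H, x ^ 2 = 1 → x ∈ Subgroup.center H := fun x hx => by
        by_contra h
        exact hI x h hx
      have hΦM : frattini H ≤ M := fun x hx => (Helper2.mem_frattini_iff x).1 hx M hM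
      have hMp : IsPGroup 2 M := hHp.to_subgroup M
      have hZM : Subgroup.center H ⊓ M = frattini H := by
        symm
        apply Subgroup.eq_of_le_of_card_ge (le_inf hΦZ hΦM)
        have hlt : Subgroup.center H ⊓ M < Subgroup.center H := by
          refine lt_of_le_of_ne inf_le_left ?_
          intro h
          have hc' : c ∈ Subgroup.center H ⊓ M := by rw [h]; exact hcZ
          exact hcM hc'.2
        have h1 := card_ge_mul_of_lt hHp hlt
        rw [hZcard] at h1
        rw [hΦ]
        omega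
      have hPΦ : ∀ P : Subgroup M, Nat.card P = 2 → P.map M.subtype = frattini H := by
        intro P hP
        apply Subgroup.eq_of_le_of_card_ge
        · rintro _ ⟨x, hx, rfl⟩
          rw [← hZM]
          refine ⟨hinvol _ ?_, x.2⟩
          have h1 : (⟨x, hx⟩ : P) ^ Nat.card P = 1 := pow_card_eq_one'
          rw [hP] at h1
          have h2 := congrArg Subtype.val (congrArg Subtype.val h1)
          simpa using h2
        · rw [Subgroup.card_map_of_injective M.subtype_injective, hP, hΦ]
      rcases Cfsg.Agent.S0016.result 2 hMp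
        (fun P Q hP hQ => Subgroup.map_injective M.subtype_injective
          ((hPΦ P hP).trans (hPΦ Q hQ).symm)) with hcyc | ⟨-, n, ⟨eq⟩⟩
      · exfalso
        apply hMnc
        obtain ⟨g, hg⟩ := IsCyclic.exists_generator (α := M)
        intro a b
        obtain ⟨i, rfl⟩ := Subgroup.mem_zpowers_iff.1 (hg a)
        obtain ⟨j, rfl⟩ := Subgroup.mem_zpowers_iff.1 (hg b)
        exact (Commute.zpow_zpow_self g i j).eq
      · have hn : 2 ^ n = 2 := by
          have h1 : Nat.card M = 4 * 2 ^ n := by
            rw [Nat.card_congr eq.toEquiv, Nat.card_eq_fintype_card, QuaternionGroup.card]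
          rw [hMcard] at h1
          omega
        rw [hn] at eq
        exact ⟨rfl, ⟨e.symm.trans (MulEquiv.prodCongr eq (MulEquiv.refl _))⟩⟩
  · -- `p` odd
    have hmul : ∀ a b : H, (a * b) ^ p = a ^ p * b ^ p := fun a b =>
      Helper2.mul_pow_prime_of_commutator_central hp hp2 a b (hc b a) (hcp b a)
    by_cases hall : ∀ x : H, x ^ p = 1
    · right; left
      refine ⟨hp.odd_of_ne_two hp2, ?_⟩
      haveI : Small.{0} ↥M := Countable.toSmall _
      have eE : Shrink.{0} ↥M ≃* ↥M := Shrink.mulEquiv
      have hEcard : Nat.card (Shrink.{0} ↥M) = p ^ 3 := by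
        rw [Nat.card_congr eE.toEquiv, hMcard]
      haveI : Finite (Shrink.{0} ↥M) := Finite.of_equiv _ eE.symm.toEquiv
      have hEnc : ¬ ∀ a b : Shrink.{0} ↥M, a * b = b * a := by
        intro h
        apply hMnc
        intro a b
        have h1 := h (eE.symm a) (eE.symm b)
        rw [← map_mul, ← map_mul] at h1
        exact eE.symm.injective h1
      refine ⟨Shrink.{0} ↥M, inferInstance, inferInstance,
        EssP3.extraspecial_of_p3 hEcard hEnc, hEcard, ?_, ⟨?_⟩⟩
      · intro x
        have h1 := hall ((eE x : M) : H)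
        apply eE.injective
        rw [map_pow, map_one]
        apply Subtype.ext
        rw [Subgroup.coe_pow, Subgroup.coe_one]
        exact h1
      · exact e.symm.trans (MulEquiv.prodCongr eE.symm (MulEquiv.refl _))
    · left
      push Not at hall
      obtain ⟨x₀, hx₀⟩ := hall
      let π : H →* H := { toFun := fun x => x ^ p, map_one' := one_pow p, map_mul' := hmul }
      have hπ : ∀ x, π x = x ^ p := fun x => rfl
      have hπcard : Nat.card π.range = p := by
        have hle : π.range ≤ frattini H := by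
          rintro _ ⟨x, rfl⟩
          exact hpowΦ x
        have h1 : Nat.card π.range ∣ p := hΦ ▸ Subgroup.card_dvd_of_le hle
        rcases (Nat.dvd_prime hp).1 h1 with h | h
        · exfalso
          have h2 : π x₀ ∈ π.range := ⟨x₀, rfl⟩
          rw [Subgroup.card_eq_one.1 h, Subgroup.mem_bot] at h2
          exact hx₀ h2
        · exact h
      have hKidx : π.ker.index = p := by rw [Subgroup.index_ker]; exact hπcard
      have hKcard : Nat.card π.ker = p ^ 3 := by
        have h := Subgroup.card_mul_index π.ker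
        rw [hKidx, hcard] at h
        have h4 : p ^ 4 = p ^ 3 * p := by ring
        rw [h4] at h
        exact Nat.eq_of_mul_eq_mul_right hp.pos h
      have hZK : Subgroup.center H ≤ π.ker := fun z hz => by
        rw [MonoidHom.mem_ker, hπ]
        exact hZel z hz
      refine ⟨Subgroup.center H, π.ker, hΦZ, hZK, fun α x hx => center_char α hx, ?_, ?_, ?_,
        hKidx ▸ dvd_rfl⟩
      · intro α x hx
        rw [MonoidHom.mem_ker, hπ] at hx ⊢
        rw [← map_pow, hx, map_one]
      · exact relIndex_dvd_of_card hΦZ (by rw [hZcard, hΦ]; ring)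
      · exact relIndex_dvd_of_card hZK (by rw [hKcard, hZcard]; ring)


theorem frattini_ne_top_of_card (hcard : Nat.card H = p ^ 4) : frattini H ≠ ⊤ := by
  have hp : p.Prime := Fact.out
  intro h
  rcases eq_top_or_exists_le_coatom (⊥ : Subgroup H) with h0 | ⟨M, hM, -⟩
  · have h1 : Nat.card (⊥ : Subgroup H) = Nat.card (⊤ : Subgroup H) := by rw [h0]
    rw [Subgroup.card_bot, Subgroup.card_top, hcard] at h1
    have h2 : 1 < p ^ 4 := Nat.one_lt_pow (by norm_num) hp.one_lt
    omega
  · apply hM.1
    rw [eq_top_iff, ← h]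
    intro x hx
    exact (Helper2.mem_frattini_iff x).1 hx M hM

/-- **Groups of order `p⁴`**, sorted for the classification of essential subgroups. -/
theorem p4_cases (hcard : Nat.card H = p ^ 4) :
    ((∀ a b : H, a * b = b * a) ∧ (frattini H).index ≤ p ^ 2) ∨
    ((∀ a b : H, a * b = b * a) ∧ ∀ x : H, x ^ p = 1) ∨
    Nonempty (H ≃* Multiplicative (ZMod (p ^ 2) × ZMod p × ZMod p)) ∨
    (∃ K₁ K₂ : Subgroup H, frattini H ≤ K₁ ∧ K₁ ≤ K₂ ∧ (∀ α : MulAut H, ∀ x ∈ K₁, α x ∈ K₁) ∧
        (∀ α : MulAut H, ∀ x ∈ K₂, α x ∈ K₂) ∧ (frattini H).relIndex K₁ ∣ p ∧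
        K₁.relIndex K₂ ∣ p ∧ K₂.index ∣ p) ∨
    (Odd p ∧ ∃ (E : Type) (_ : Group E) (_ : Finite E), IsExtraspecial p E ∧
        Nat.card E = p ^ 3 ∧ (∀ x : E, x ^ p = 1) ∧
        Nonempty (H ≃* E × Multiplicative (ZMod p))) ∨
    (p = 2 ∧ Nonempty (H ≃* QuaternionGroup 2 × Multiplicative (ZMod 2))) ∨
    ((¬ ∀ a b : H, a * b = b * a) ∧ (∀ x : H, x ^ (p ^ 2) = 1) ∧
        IsCyclic (Subgroup.center H) ∧ Nat.card (Subgroup.center H) = p ^ 2) := by
  have hp : p.Prime := Fact.out
  have hHp : IsPGroup p H := IsPGroup.of_card hcard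
  have hdvd : Nat.card (frattini H) ∣ p ^ 4 := hcard ▸ Subgroup.card_subgroup_dvd_card _
  obtain ⟨j, hj, hcj⟩ := (Nat.dvd_prime_pow hp).1 hdvd
  have hidx : (frattini H).index = p ^ (4 - j) := by
    have h := Subgroup.card_mul_index (frattini H)
    rw [hcj, hcard] at h
    have h4 : p ^ 4 = p ^ j * p ^ (4 - j) := by
      rw [← pow_add]
      congr 1
      omega
    rw [h4] at h
    exact Nat.eq_of_mul_eq_mul_left (pow_pos hp.pos j) h
  have hj4 : j ≠ 4 := by
    intro h
    apply frattini_ne_top_of_card hcard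
    rw [← Subgroup.card_eq_iff_eq_top, hcj, hcard, h]
  by_cases hab : ∀ a b : H, a * b = b * a
  · have hj' : j = 0 ∨ j = 1 ∨ 2 ≤ j := by omega
    rcases hj' with rfl | rfl | hj2
    · right; left
      refine ⟨hab, fun x => ?_⟩
      have h0 : frattini H = ⊥ := Subgroup.card_eq_one.1 (by simpa using hcj)
      have h1 := Helper87.pow_p_mem_frattini hHp x
      rw [h0, Subgroup.mem_bot] at h1
      exact h1
    · right; right; left
      exact abelian_d3_iso hcard hab (by simpa using hcj)
    · left
      refine ⟨hab, ?_⟩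
      rw [hidx]
      exact Nat.pow_le_pow_right hp.pos (by omega)
  · have hj' : j = 0 ∨ j = 1 ∨ j = 2 ∨ j = 3 := by omega
    rcases hj' with rfl | rfl | rfl | rfl
    · exfalso
      apply hab
      have h0 : frattini H = ⊥ := Subgroup.card_eq_one.1 (by simpa using hcj)
      intro a b
      have h1 := Helper87.comm_mem_frattini hHp a b
      rw [h0, Subgroup.mem_bot] at h1
      have h2 : a * b = (a * b * a⁻¹ * b⁻¹) * (b * a) := by group
      rw [h2, h1, one_mul]
    · rcases nonab_d3 hcard hab (by simpa using hcj) with h | h | h | h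
      · exact Or.inr (Or.inr (Or.inr (Or.inl h)))
      · exact Or.inr (Or.inr (Or.inr (Or.inr (Or.inl h))))
      · exact Or.inr (Or.inr (Or.inr (Or.inr (Or.inr (Or.inl h)))))
      · exact Or.inr (Or.inr (Or.inr (Or.inr (Or.inr (Or.inr ⟨hab, h⟩)))))
    · obtain ⟨L, hΦL, hLchar, h1, h2⟩ := chain_of_d2_nonab hcard hab hcj
      refine Or.inr (Or.inr (Or.inr (Or.inl ⟨L, ⊤, hΦL, le_top, hLchar,
        fun _ _ _ => Subgroup.mem_top _, h1, ?_, ?_⟩)))
      · rw [Subgroup.relIndex_top_right]
        exact h2
      · rw [Subgroup.index_top]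
        exact one_dvd p
    · refine Or.inr (Or.inr (Or.inr (Or.inl ⟨⊤, ⊤, le_top, le_rfl,
        fun _ _ _ => Subgroup.mem_top _, fun _ _ _ => Subgroup.mem_top _, ?_, ?_, ?_⟩)))
      · rw [Subgroup.relIndex_top_right, hidx]
        norm_num
      · rw [Subgroup.relIndex_top_right, Subgroup.index_top]
        exact one_dvd p
      · rw [Subgroup.index_top]
        exact one_dvd p

end p4

end Cfsg.Agent.Lib.Helper42.EssP4
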