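import Mathlib
import Cfsg.Agent.Lib.Helper20.WrAut

set_option autoImplicit false

/-!
# Automorphisms of odd order of 2-generated abelian 2-groups

An abelian 2-group generated by two elements with a nontrivial automorphism of odd order is
homocyclic `C_{2^n} × C_{2^n}` and the automorphism is fixed-point-free.
-/

namespace Cfsg.Agent.Lib.Helper42

namespace OddAut

open Cfsg.Agent.Lib.Helper20

/-- An automorphism of odd order mapping a cyclic 2-subgroup to itself fixes its generator. -/
theorem cyclic_fix {X : Type*} [Group X] (hX : ∀ g : X, ∃ N : ℕ, g ^ 2 ^ N = 1)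
    (β : MulAut X) (k : ℕ) (hk : Odd k) (hβ : β ^ k = 1) :
    ∀ (N : ℕ) (c : X), c ^ 2 ^ N = 1 → β c ∈ Subgroup.zpowers c → β c = c := by
  intro N
  induction N with
  | zero =>
    intro c hc _
    rw [pow_zero, pow_one] at hc
    rw [hc, map_one]
  | succ N ih =>
    intro c hc hmem
    obtain ⟨i, hi⟩ := Subgroup.mem_zpowers_iff.mp hmem
    have hc2 : β (c * c) = c * c := by
      apply ih (c * c)
      · rw [← pow_two, ← pow_mul, ← pow_succ']; exact hc
      · rw [map_mul, ← hi, Subgroup.mem_zpowers_iff]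
        exact ⟨i, by rw [← zpow_two, ← zpow_mul, two_mul, zpow_add]⟩
    rcases Int.even_or_odd' i with ⟨j, rfl | rfl⟩
    · have h1 : β c = (c * c) ^ j := by rw [← hi, zpow_mul, zpow_two]
      have h2 : β (β c) = β c := by
        rw [h1, map_zpow, hc2]
      exact β.injective h2
    · have h1 : β c = c * (c * c) ^ j := by
        rw [← hi, add_comm, zpow_one_add, zpow_mul, zpow_two]
      exact aut_fix_of_mul hX β k hk hβ c ((c * c) ^ j) h1 (by rw [map_zpow, hc2])

/-- A nontrivial element of 2-power order has a power which is an involution. -/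
theorem exists_invol_pow {X : Type*} [Group X] (g : X) (hg : g ≠ 1) (N : ℕ) (hN : g ^ 2 ^ N = 1) :
    ∃ j : ℕ, g ^ j ≠ 1 ∧ g ^ j * g ^ j = 1 := by
  induction N with
  | zero => rw [pow_zero, pow_one] at hN; exact absurd hN hg
  | succ N ih =>
    by_cases h : g ^ 2 ^ N = 1
    · exact ih h
    · refine ⟨2 ^ N, h, ?_⟩
      rw [← pow_add, ← two_mul, ← pow_succ']
      exact hN

/-- an involution in a cyclic group of order `2 ^ n` is the power `2 ^ (n - 1)` of the
generator -/
theorem invol_of_mem_zpowers {X : Type*} [Group X] (x : X) (n : ℕ) (hn : 1 ≤ n)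
    (hx : orderOf x = 2 ^ n) (g : X) (hg : g ∈ Subgroup.zpowers x) (hg1 : g ≠ 1)
    (hg2 : g * g = 1) : g = x ^ 2 ^ (n - 1) := by
  have hfin : IsOfFinOrder x := by
    rw [← orderOf_pos_iff, hx]; positivity
  obtain ⟨i, rfl⟩ := (Submonoid.mem_powers_iff _ _).mp (hfin.mem_powers_iff_mem_zpowers.mpr hg)
  have h1 : x ^ (2 * i) = 1 := by rw [two_mul, pow_add]; exact hg2
  have h2 : 2 ^ n ∣ 2 * i := by rw [← hx]; exact orderOf_dvd_of_pow_eq_one h1
  obtain ⟨m, rfl⟩ : ∃ m, n = m + 1 := ⟨n - 1, by omega⟩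
  have h3 : 2 ^ m ∣ i := by
    rw [pow_succ, mul_comm] at h2
    exact Nat.dvd_of_mul_dvd_mul_left (by norm_num) h2
  obtain ⟨j, rfl⟩ := h3
  have hw2 : (x ^ 2 ^ m) ^ 2 = 1 := by
    rw [← pow_mul, ← pow_succ, ← hx, pow_orderOf_eq_one]
  rw [Nat.add_sub_cancel, pow_mul]
  rcases Nat.even_or_odd' j with ⟨l, rfl | rfl⟩
  · exfalso
    apply hg1
    rw [pow_mul, pow_mul, hw2, one_pow]
  · rw [pow_succ, pow_mul, hw2, one_pow, one_mul]

theorem comm_aux {A : Type*} [CommGroup A] (a b c d : A) :
    c * d * (c * d) = (a * b)⁻¹ * (a * (c * c) * (b * (d * d))) := by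
  rw [eq_inv_mul_iff_mul_eq]
  ac_rfl

/-- The abelian case: a 2-generated abelian 2-group with a nontrivial automorphism of odd
order. -/
theorem abelian_case {A : Type*} [Group A] [Finite A] (hcomm : ∀ x y : A, x * y = y * x)
    (hA : ∀ g : A, ∃ N : ℕ, g ^ 2 ^ N = 1)
    (u v : A) (hgen : ∀ g : A, ∃ i j : ℕ, g = u ^ i * v ^ j)
    (β : MulAut A) (k : ℕ) (hk : Odd k) (hβ : β ^ k = 1) (hβ1 : β ≠ 1) :
    (∀ g : A, β g = g → g = 1) ∧
    ∃ n : ℕ, 1 ≤ n ∧ Nat.card A = 2 ^ (2 * n) ∧ (∀ g : A, g ^ 2 ^ n = 1) ∧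
      Nonempty (A ≃* Multiplicative (ZMod (2 ^ n)) × Multiplicative (ZMod (2 ^ n))) := by
  classical
  have hfinA : Fintype A := Fintype.ofFinite A
  -- squaring
  obtain ⟨σ, hσ⟩ : ∃ σ : A →* A, ∀ g, σ g = g * g :=
    ⟨MonoidHom.mk' (fun g => g * g) (fun a b => by
      show a * b * (a * b) = a * a * (b * b)
      rw [mul_assoc, ← mul_assoc b a b, hcomm b a, mul_assoc, mul_assoc]), fun g => rfl⟩
  -- the quotient by the squares has at most four elements
  have hidx : σ.range.index ≤ 4 := by
    have hsurj : Function.Surjective (fun p : Fin 2 × Fin 2 =>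
        (QuotientGroup.mk (u ^ (p.1 : ℕ) * v ^ (p.2 : ℕ)) : A ⧸ σ.range)) := by
      intro z
      obtain ⟨g, rfl⟩ := QuotientGroup.mk_surjective z
      obtain ⟨i, j, rfl⟩ := hgen g
      refine ⟨(⟨i % 2, Nat.mod_lt _ (by norm_num)⟩, ⟨j % 2, Nat.mod_lt _ (by norm_num)⟩), ?_⟩
      show (QuotientGroup.mk (u ^ (i % 2) * v ^ (j % 2)) : A ⧸ σ.range) =
        QuotientGroup.mk (u ^ i * v ^ j)
      rw [QuotientGroup.eq]
      refine ⟨u ^ (i / 2) * v ^ (j / 2), ?_⟩
      rw [hσ]
      have hi : u ^ i = u ^ (i % 2) * (u ^ (i / 2) * u ^ (i / 2)) := by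
        rw [← pow_add, ← pow_add, ← two_mul, Nat.mod_add_div]
      have hj : v ^ j = v ^ (j % 2) * (v ^ (j / 2) * v ^ (j / 2)) := by
        rw [← pow_add, ← pow_add, ← two_mul, Nat.mod_add_div]
      rw [hi, hj]
      generalize u ^ (i % 2) = a
      generalize v ^ (j % 2) = b
      generalize u ^ (i / 2) = c
      generalize v ^ (j / 2) = d
      letI : CommGroup A := { ‹Group A› with mul_comm := hcomm }
      exact comm_aux a b c d
    have h1 := Nat.card_le_card_of_surjective _ hsurj
    rw [Nat.card_prod, Nat.card_fin] at h1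
    exact h1
  have hker : Nat.card σ.ker ≤ 4 := by
    have h1 := Subgroup.card_mul_index σ.range
    have h2 := Subgroup.card_mul_index σ.ker
    rw [Subgroup.index_ker] at h2
    have hpos : 0 < Nat.card σ.range := Nat.card_pos
    nlinarith
  have hmemker : ∀ g : A, g ∈ σ.ker ↔ g * g = 1 := fun g => by
    rw [MonoidHom.mem_ker, hσ]
  -- β moves some involution
  have hmove : ∃ w : A, w * w = 1 ∧ β w ≠ w := by
    by_contra hcon
    push Not at hcon
    apply hβ1
    have key : ∀ N : ℕ, ∀ g : A, g ^ 2 ^ N = 1 → β g = g := by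
      intro N
      induction N with
      | zero => intro g hg; rw [pow_zero, pow_one] at hg; rw [hg, map_one]
      | succ N ih =>
        intro g hg
        have h1 : β (g * g) = g * g := by
          apply ih
          rw [← pow_two, ← pow_mul, ← pow_succ']; exact hg
        have h2 : (g⁻¹ * β g) * (g⁻¹ * β g) = 1 := by
          rw [mul_assoc, ← mul_assoc (β g), hcomm (β g) g⁻¹, mul_assoc, ← map_mul, h1,
            ← mul_assoc, ← mul_assoc, inv_mul_cancel_right, inv_mul_cancel]
        have h3 := hcon _ h2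
        exact aut_fix_of_mul hA β k hk hβ g (g⁻¹ * β g) (by rw [mul_inv_cancel_left]) h3
    ext g
    obtain ⟨N, hN⟩ := hA g
    rw [MulAut.one_apply]
    exact key N g hN
  obtain ⟨w, hww, hw⟩ := hmove
  -- fixed-point-freeness
  have hfpf : ∀ g : A, β g = g → g = 1 := by
    intro g hg
    by_contra hg1
    obtain ⟨N, hN⟩ := hA g
    obtain ⟨j, hj1, hj2⟩ := exists_invol_pow g hg1 N hN
    obtain ⟨w₀, hw₀⟩ : ∃ w₀, w₀ = g ^ j := ⟨_, rfl⟩
    rw [← hw₀] at hj1 hj2
    have hw₀fix : β w₀ = w₀ := by rw [hw₀, map_pow, hg]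
    have hw1 : w ≠ 1 := fun h => hw (by rw [h, map_one])
    have hww₀ : w ≠ w₀ := fun h => hw (by rw [h]; exact hw₀fix)
    -- the four elements 1, w₀, w, w * w₀ exhaust the kernel of squaring
    have hS : ({1, w₀, w, w * w₀} : Finset A).card = 4 := by
      rw [Finset.card_insert_of_notMem, Finset.card_insert_of_notMem,
        Finset.card_insert_of_notMem, Finset.card_singleton]
      · simp only [Finset.mem_singleton]
        intro h
        apply hj1
        have h' : w * 1 = w * w₀ := by rw [mul_one]; exact h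
        exact (mul_left_cancel h').symm
      · simp only [Finset.mem_insert, Finset.mem_singleton, not_or]
        refine ⟨fun h => hww₀ h.symm, ?_⟩
        intro h
        apply hw1
        have h' : 1 * w₀ = w * w₀ := by rw [one_mul]; exact h
        exact (mul_right_cancel h').symm
      · simp only [Finset.mem_insert, Finset.mem_singleton, not_or]
        refine ⟨fun h => hj1 h.symm, fun h => hw1 h.symm, ?_⟩
        intro h
        apply hww₀
        have h' : w * w = w * w₀ := by rw [hww]; exact h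
        exact mul_left_cancel h'
    have hSsub : ({1, w₀, w, w * w₀} : Finset A) ⊆ Finset.univ.filter (fun g => g * g = 1) := by
      intro g hg
      rw [Finset.mem_filter]
      refine ⟨Finset.mem_univ _, ?_⟩
      simp only [Finset.mem_insert, Finset.mem_singleton] at hg
      rcases hg with rfl | rfl | rfl | rfl
      · rw [mul_one]
      · exact hj2
      · exact hww
      · rw [mul_assoc, ← mul_assoc w₀, hcomm w₀ w, mul_assoc, hj2, mul_one, hww]
    have hTcard : (Finset.univ.filter (fun g : A => g * g = 1)).card ≤ 4 := by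
      have h1 : Nat.card σ.ker = (Finset.univ.filter (fun g : A => g * g = 1)).card := by
        rw [← Nat.card_eq_finsetCard]
        apply Nat.card_congr
        exact Equiv.subtypeEquivRight (fun g => by rw [hmemker, Finset.mem_filter]; simp)
      rw [← h1]; exact hker
    have hST := Finset.eq_of_subset_of_card_le hSsub (by rw [hS]; exact hTcard)
    have hβw : β w ∈ ({1, w₀, w, w * w₀} : Finset A) := by
      rw [hST, Finset.mem_filter]
      exact ⟨Finset.mem_univ _, by rw [← map_mul, hww, map_one]⟩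
    simp only [Finset.mem_insert, Finset.mem_singleton] at hβw
    rcases hβw with h | h | h | h
    · apply hw1
      apply β.injective
      rw [h, map_one]
    · apply hww₀
      apply β.injective
      rw [h, hw₀fix]
    · exact hw h
    · exact hw (aut_fix_of_mul hA β k hk hβ w w₀ h hw₀fix)
  refine ⟨hfpf, ?_⟩
  -- an element of maximal order
  have hne : Nonempty A := ⟨1⟩
  obtain ⟨x, hxmax⟩ := Finite.exists_max (fun g : A => orderOf g)
  have hpg : IsPGroup 2 A := hA
  have hfact : Fact (Nat.Prime 2) := ⟨Nat.prime_two⟩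
  obtain ⟨n, hn⟩ := (IsPGroup.iff_orderOf.mp hpg) x
  have hw1 : w ≠ 1 := fun h => hw (by rw [h, map_one])
  have hpow : ∀ g : A, g ^ 2 ^ n = 1 := by
    intro g
    obtain ⟨m, hm⟩ := (IsPGroup.iff_orderOf.mp hpg) g
    have h1 : 2 ^ m ≤ 2 ^ n := by rw [← hm, ← hn]; exact hxmax g
    have h2 : m ≤ n := (Nat.pow_le_pow_iff_right (by norm_num)).mp h1
    have h3 : orderOf g ∣ 2 ^ n := by rw [hm]; exact pow_dvd_pow 2 h2
    exact orderOf_dvd_iff_pow_eq_one.mp h3
  have hn1 : 1 ≤ n := by
    by_contra hcon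
    have hn0 : n = 0 := by omega
    apply hw1
    have := hpow w
    rwa [hn0, pow_zero, pow_one] at this
  obtain ⟨y, hy⟩ : ∃ y, y = β x := ⟨_, rfl⟩
  have hyo : orderOf y = 2 ^ n := by rw [hy, MulEquiv.orderOf_eq, hn]
  -- the two cyclic subgroups meet trivially
  have hdisj : ∀ g : A, g ∈ Subgroup.zpowers x → g ∈ Subgroup.zpowers y → g = 1 := by
    intro g hgx hgy
    by_contra hg1
    obtain ⟨N, hN⟩ := hA g
    obtain ⟨j, hj1, hj2⟩ := exists_invol_pow g hg1 N hN
    have h1 := invol_of_mem_zpowers x n hn1 hn (g ^ j) (Subgroup.pow_mem _ hgx _) hj1 hj2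
    have h2 := invol_of_mem_zpowers y n hn1 hyo (g ^ j) (Subgroup.pow_mem _ hgy _) hj1 hj2
    apply hj1
    apply hfpf
    rw [h1, map_pow, ← hy, ← h2, h1]
  -- cardinality bound
  have hcardle : Nat.card A ≤ 2 ^ n * 2 ^ n := by
    have hsurj : Function.Surjective (fun p : Fin (2 ^ n) × Fin (2 ^ n) =>
        u ^ (p.1 : ℕ) * v ^ (p.2 : ℕ)) := by
      intro g
      obtain ⟨i, j, rfl⟩ := hgen g
      refine ⟨(⟨i % 2 ^ n, Nat.mod_lt _ (by positivity)⟩,
        ⟨j % 2 ^ n, Nat.mod_lt _ (by positivity)⟩), ?_⟩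
      show u ^ (i % 2 ^ n) * v ^ (j % 2 ^ n) = u ^ i * v ^ j
      rw [← pow_eq_pow_mod i (hpow u), ← pow_eq_pow_mod j (hpow v)]
    have h1 := Nat.card_le_card_of_surjective _ hsurj
    rw [Nat.card_prod, Nat.card_fin] at h1
    exact h1
  -- the isomorphism
  have hne2 : NeZero (2 ^ n) := ⟨by positivity⟩
  have hxpow : ∀ i j : ZMod (2 ^ n), x ^ (i + j).val = x ^ i.val * x ^ j.val := by
    intro i j
    rw [ZMod.val_add, ← pow_add, ← pow_eq_pow_mod _ (hpow x)]
  have hypow : ∀ i j : ZMod (2 ^ n), y ^ (i + j).val = y ^ i.val * y ^ j.val := by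
    intro i j
    rw [ZMod.val_add, ← pow_add, ← pow_eq_pow_mod _ (hpow y)]
  obtain ⟨φ, hφ⟩ : ∃ φ : Multiplicative (ZMod (2 ^ n)) × Multiplicative (ZMod (2 ^ n)) →* A,
      ∀ p, φ p = x ^ (Multiplicative.toAdd p.1).val * y ^ (Multiplicative.toAdd p.2).val :=
    ⟨MonoidHom.mk' (fun p => x ^ (Multiplicative.toAdd p.1).val *
        y ^ (Multiplicative.toAdd p.2).val) (fun p q => by
      show x ^ (Multiplicative.toAdd p.1 + Multiplicative.toAdd q.1).val *
          y ^ (Multiplicative.toAdd p.2 + Multiplicative.toAdd q.2).val =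
        x ^ (Multiplicative.toAdd p.1).val * y ^ (Multiplicative.toAdd p.2).val *
          (x ^ (Multiplicative.toAdd q.1).val * y ^ (Multiplicative.toAdd q.2).val)
      rw [hxpow, hypow, mul_assoc, mul_assoc, ← mul_assoc (x ^ (Multiplicative.toAdd q.1).val),
        hcomm (x ^ (Multiplicative.toAdd q.1).val), mul_assoc]), fun p => rfl⟩
  have hφinj : Function.Injective φ := by
    rw [injective_iff_map_eq_one]
    rintro ⟨s, t⟩ hst
    rw [hφ] at hst
    simp only at hst
    have h1 : x ^ (Multiplicative.toAdd s).val = (y ^ (Multiplicative.toAdd t).val)⁻¹ :=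
      eq_inv_of_mul_eq_one_left hst
    have h2 : x ^ (Multiplicative.toAdd s).val = 1 := by
      apply hdisj
      · exact Subgroup.pow_mem _ (Subgroup.mem_zpowers x) _
      · rw [h1]
        exact Subgroup.inv_mem _ (Subgroup.pow_mem _ (Subgroup.mem_zpowers y) _)
    have h3 : y ^ (Multiplicative.toAdd t).val = 1 := by
      rw [h2, one_mul] at hst; exact hst
    have hs : Multiplicative.toAdd s = 0 := by
      have h4 : 2 ^ n ∣ (Multiplicative.toAdd s).val := by
        have h4' := orderOf_dvd_of_pow_eq_one h2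
        rw [hn] at h4'
        exact h4'
      have h5 := ZMod.val_lt (Multiplicative.toAdd s)
      exact (ZMod.val_eq_zero _).mp (Nat.eq_zero_of_dvd_of_lt h4 h5)
    have ht : Multiplicative.toAdd t = 0 := by
      have h4 : 2 ^ n ∣ (Multiplicative.toAdd t).val := by
        have h4' := orderOf_dvd_of_pow_eq_one h3
        rw [hyo] at h4'
        exact h4'
      have h5 := ZMod.val_lt (Multiplicative.toAdd t)
      exact (ZMod.val_eq_zero _).mp (Nat.eq_zero_of_dvd_of_lt h4 h5)
    have hs' : s = 1 := hs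
    have ht' : t = 1 := ht
    rw [hs', ht']
    rfl
  have hcardD : Nat.card (Multiplicative (ZMod (2 ^ n)) × Multiplicative (ZMod (2 ^ n))) =
      2 ^ n * 2 ^ n := by
    rw [Nat.card_prod]
    have : Nat.card (Multiplicative (ZMod (2 ^ n))) = 2 ^ n := Nat.card_zmod (2 ^ n)
    rw [this]
  have hbij : Function.Bijective φ :=
    hφinj.bijective_of_nat_card_le (by rw [hcardD]; exact hcardle)
  refine ⟨n, hn1, ?_, hpow, ⟨(MulEquiv.ofBijective φ hbij).symm⟩⟩
  rw [← Nat.card_congr (Equiv.ofBijective φ hbij), hcardD, two_mul, pow_add]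

end OddAut

end Cfsg.Agent.Lib.Helper42
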