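import Mathlib
import Cfsg.Prelude.Def_OddOrderLocal
import Cfsg.Prelude.Def_CaseTheorems
import Cfsg.Agent.S0016
import Cfsg.Agent.Lib.Helper73.DihedralIso
import Cfsg.Agent.Lib.Helper42.OddAutAb

set_option autoImplicit false

/-!
# Metacyclic 2-groups

Structure lemmas for metacyclic 2-groups: a metacyclic 2-group containing a quaternion group of
order 8 is generalized quaternion or semidihedral; one with more than three involutions is
dihedral or semidihedral; action of an index-2 overgroup on a homocyclic abelian subgroup.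
-/

namespace Cfsg.Agent.Lib.Helper42

namespace Meta2

open Cfsg

/-- A group embedding into a metacyclic group is metacyclic. -/
theorem metacyclic_of_injective {G H : Type*} [Group G] [Group H] (f : H →* G)
    (hf : Function.Injective f) (hm : Cfsg.IsMetacyclic G) : Cfsg.IsMetacyclic H := by
  obtain ⟨N, hN, hNc, hQc⟩ := hm
  haveI := hN
  haveI := hNc
  haveI := hQc
  refine ⟨N.comap f, inferInstance, ?_, ?_⟩
  · refine isCyclic_of_injective (f.subgroupComap N) ?_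
    intro x y hxy
    apply Subtype.ext
    apply hf
    exact congrArg Subtype.val hxy
  · refine isCyclic_of_injective (QuotientGroup.map (N.comap f) N f le_rfl) ?_
    rw [injective_iff_map_eq_one]
    intro x hx
    obtain ⟨h, rfl⟩ := QuotientGroup.mk_surjective x
    rw [QuotientGroup.map_mk, QuotientGroup.eq_one_iff] at hx
    rw [QuotientGroup.eq_one_iff]
    exact hx

/-- The cyclic normal subgroup of a metacyclic group, given by a generator. -/
theorem meta_data {G : Type*} [Group G] (hm : Cfsg.IsMetacyclic G) :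
    ∃ (a : G) (_ : (Subgroup.zpowers a).Normal), IsCyclic (G ⧸ Subgroup.zpowers a) := by
  obtain ⟨N, hN, hNc, hQc⟩ := hm
  obtain ⟨a, ha⟩ := hNc.exists_generator
  obtain ⟨a₀, ha₀⟩ : ∃ a₀ : G, a₀ = (a : G) := ⟨_, rfl⟩
  have hNa : N = Subgroup.zpowers a₀ := by
    ext g
    constructor
    · intro hg
      obtain ⟨i, hi⟩ := Subgroup.mem_zpowers_iff.mp (ha ⟨g, hg⟩)
      rw [Subgroup.mem_zpowers_iff]
      refine ⟨i, ?_⟩
      have h2 := congrArg Subtype.val hi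
      rw [Subgroup.coe_zpow] at h2
      rw [ha₀]
      exact h2
    · intro hg
      obtain ⟨i, rfl⟩ := Subgroup.mem_zpowers_iff.mp hg
      rw [ha₀]
      exact Subgroup.zpow_mem _ a.2 i
  clear ha ha₀ a hNc
  subst hNa
  exact ⟨a₀, hN, hQc⟩

theorem exists_pow_of_mem {G : Type*} [Group G] [Finite G] (a n : G)
    (h : n ∈ Subgroup.zpowers a) : ∃ i : ℕ, n = a ^ i := by
  rw [← (isOfFinOrder_of_finite a).mem_powers_iff_mem_zpowers, Submonoid.mem_powers_iff] at h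
  obtain ⟨i, hi⟩ := h
  exact ⟨i, hi.symm⟩

theorem conj_exists {G : Type*} [Group G] [Finite G] (a : G) [hn : (Subgroup.zpowers a).Normal]
    (g : G) : ∃ k : ℕ, g * a * g⁻¹ = a ^ k :=
  exists_pow_of_mem a _ (hn.conj_mem a (Subgroup.mem_zpowers a) g)

theorem conj_pow_eq {G : Type*} [Group G] (a g : G) (k i : ℕ) (h : g * a * g⁻¹ = a ^ k) :
    g * a ^ i * g⁻¹ = a ^ (k * i) := by
  rw [← conj_pow, h, ← pow_mul]

/-- the arithmetic behind the structure of the action on the cyclic normal subgroup -/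
theorem arith (m r i : ℕ) (hm : 2 ≤ m) (h1 : r * r ≡ 1 [MOD 2 ^ m]) (h2 : 2 ^ m ∣ r * i + i)
    (h3 : ¬ 2 ^ m ∣ i + i) : 2 ^ (m - 1) ∣ r + 1 := by
  have hodd : r % 2 = 1 := by
    have h4 : r * r ≡ 1 [MOD 2] := h1.of_dvd (dvd_pow_self 2 (by omega))
    have h5 : (r * r) % 2 = 1 := h4
    rcases Nat.even_or_odd' r with ⟨s, rfl | rfl⟩
    · exfalso
      have : 2 * s * (2 * s) = 2 * (2 * (s * s)) := by ring
      rw [this] at h5
      omega
    · omega
  have h4 : r % 4 = 1 ∨ r % 4 = 3 := by omega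
  rcases h4 with h4 | h4
  · exfalso
    obtain ⟨u, rfl⟩ : ∃ u, r = 4 * u + 1 := ⟨r / 4, by omega⟩
    have e : (4 * u + 1) * i + i = (2 * u + 1) * (i + i) := by ring
    rw [e] at h2
    have hcop : Nat.Coprime (2 ^ m) (2 * u + 1) :=
      Nat.Coprime.pow_left m (by rw [Nat.coprime_two_left]; exact ⟨u, rfl⟩)
    exact h3 (hcop.dvd_of_dvd_mul_left h2)
  · obtain ⟨w, rfl⟩ : ∃ w, r = 4 * w + 3 := ⟨r / 4, by omega⟩
    have e : (4 * w + 3) * (4 * w + 3) = 1 + (2 * w + 1) * (2 * (4 * w + 3 + 1)) := by ring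
    rw [e] at h1
    have h5 : (2 * w + 1) * (2 * (4 * w + 3 + 1)) ≡ 0 [MOD 2 ^ m] :=
      Nat.ModEq.add_left_cancel' 1 h1
    have h6 : 2 ^ m ∣ (2 * w + 1) * (2 * (4 * w + 3 + 1)) := (Nat.modEq_zero_iff_dvd).mp h5
    have hcop : Nat.Coprime (2 ^ m) (2 * w + 1) :=
      Nat.Coprime.pow_left m (by rw [Nat.coprime_two_left]; exact ⟨w, rfl⟩)
    have h7 : 2 ^ m ∣ 2 * (4 * w + 3 + 1) := hcop.dvd_of_dvd_mul_left h6
    obtain ⟨m', rfl⟩ : ∃ m', m = m' + 1 := ⟨m - 1, by omega⟩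
    rw [pow_succ', ] at h7
    rw [Nat.add_sub_cancel]
    exact Nat.dvd_of_mul_dvd_mul_left (by norm_num) h7

/-- Structure of the action of an element `v` with `v * v ∈ ⟨a⟩` inverting an element `y` of
order at least `4` of the cyclic normal subgroup `⟨a⟩` of order `2 ^ m`. -/
theorem struct {G : Type*} [Group G] [Finite G] (a : G) [hn : (Subgroup.zpowers a).Normal]
    (m : ℕ) (ha : orderOf a = 2 ^ m) (v y : G) (hy : y ∈ Subgroup.zpowers a) (hy2 : y * y ≠ 1)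
    (hvy : v * y * v⁻¹ = y⁻¹) (hvv : v * v ∈ Subgroup.zpowers a) :
    2 ≤ m ∧ (v * a * v⁻¹ = a⁻¹ ∨ v * a * v⁻¹ = a⁻¹ * a ^ 2 ^ (m - 1)) := by
  obtain ⟨i, rfl⟩ := exists_pow_of_mem a y hy
  obtain ⟨r, hr⟩ := conj_exists a v
  obtain ⟨l, hl⟩ := exists_pow_of_mem a (v * v) hvv
  have hm2 : 2 ≤ m := by
    by_contra hcon
    apply hy2
    have h1 : a ^ 2 = 1 := by
      apply orderOf_dvd_iff_pow_eq_one.mp
      rw [ha]
      exact pow_dvd_pow 2 (by omega : m ≤ 1)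
    rw [← pow_add, ← two_mul, pow_mul, h1, one_pow]
  have h1 : a ^ (r * r) = a ^ 1 := by
    have e1 : v * v * a * (v * v)⁻¹ = a := by
      rw [hl, (Commute.pow_self a l).eq, mul_inv_cancel_right]
    have e2 : v * v * a * (v * v)⁻¹ = a ^ (r * r) := by
      have e3 : v * v * a * (v * v)⁻¹ = v * (v * a * v⁻¹) * v⁻¹ := by group
      rw [e3, hr, conj_pow_eq a v r r hr]
    rw [pow_one, ← e2, e1]
  have h1' : r * r ≡ 1 [MOD 2 ^ m] := by
    rw [← ha]; exact pow_eq_pow_iff_modEq.mp h1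
  have h2 : a ^ (r * i + i) = 1 := by
    rw [pow_add, ← conj_pow_eq a v r i hr, hvy, inv_mul_cancel]
  have h2' : 2 ^ m ∣ r * i + i := by
    rw [← ha]; exact orderOf_dvd_of_pow_eq_one h2
  have h3' : ¬ 2 ^ m ∣ i + i := by
    intro h
    apply hy2
    rw [← pow_add]
    rw [← ha] at h
    exact orderOf_dvd_iff_pow_eq_one.mp h
  obtain ⟨t, ht⟩ := arith m r i hm2 h1' h2' h3'
  refine ⟨hm2, ?_⟩
  have hz2 : (a ^ 2 ^ (m - 1)) ^ 2 = 1 := by
    rw [← pow_mul, ← pow_succ, Nat.sub_add_cancel (by omega), ← ha, pow_orderOf_eq_one]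
  have h5 : a ^ r * a = (a ^ 2 ^ (m - 1)) ^ t := by
    rw [← pow_succ, ht, pow_mul]
  rw [hr]
  rcases Nat.even_or_odd' t with ⟨s, rfl | rfl⟩
  · left
    rw [pow_mul, hz2, one_pow] at h5
    exact eq_inv_of_mul_eq_one_left h5
  · right
    rw [pow_succ, pow_mul, hz2, one_pow, one_mul] at h5
    rw [eq_mul_inv_of_mul_eq h5]
    exact ((Commute.refl a).inv_right.pow_left _).eq

/-- In the situation of `struct`, if moreover the quotient by `⟨a⟩` is cyclic, then `⟨a⟩` has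
index two. -/
theorem key {G : Type*} [Group G] [Finite G] (hG : IsPGroup 2 G) (a : G)
    [hn : (Subgroup.zpowers a).Normal] [hc : IsCyclic (G ⧸ Subgroup.zpowers a)] (v y : G)
    (hy : y ∈ Subgroup.zpowers a) (hy2 : y * y ≠ 1)
    (hvy : v * y * v⁻¹ = y⁻¹) (hvv : v * v ∈ Subgroup.zpowers a) :
    v ∉ Subgroup.zpowers a ∧
      (∀ g : G, g ∈ Subgroup.zpowers a ∨ v⁻¹ * g ∈ Subgroup.zpowers a) ∧
      Nat.card G = 2 * orderOf a := by
  haveI : Fact (Nat.Prime 2) := ⟨Nat.prime_two⟩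
  obtain ⟨i, rfl⟩ := exists_pow_of_mem a y hy
  have hvN : v ∉ Subgroup.zpowers a := by
    intro h
    obtain ⟨l, rfl⟩ := exists_pow_of_mem a v h
    apply hy2
    rw [(Commute.pow_pow (Commute.refl a) l i).eq, mul_inv_cancel_right] at hvy
    nth_rewrite 2 [hvy]
    rw [mul_inv_cancel]
  obtain ⟨b', hb'⟩ := hc.exists_generator
  obtain ⟨b, rfl⟩ := QuotientGroup.mk_surjective b'
  have hgen : ∀ x : G ⧸ Subgroup.zpowers a, ∃ j : ℕ,
      (QuotientGroup.mk b : G ⧸ Subgroup.zpowers a) ^ j = x := by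
    intro x
    have h1 := hb' x
    rw [← (isOfFinOrder_of_finite _).mem_powers_iff_mem_zpowers, Submonoid.mem_powers_iff] at h1
    exact h1
  obtain ⟨j, hj⟩ := hgen (QuotientGroup.mk v)
  have hjodd : Odd j := by
    by_contra hev
    rw [Nat.not_odd_iff_even] at hev
    obtain ⟨j₁, rfl⟩ := hev
    have hn' : (b ^ j₁ * b ^ j₁)⁻¹ * v ∈ Subgroup.zpowers a := by
      rw [← QuotientGroup.eq, QuotientGroup.mk_mul, QuotientGroup.mk_pow, ← pow_add]
      exact hj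
    obtain ⟨w, hw⟩ : ∃ w : G, w = b ^ j₁ := ⟨_, rfl⟩
    rw [← hw] at hn'
    obtain ⟨k, hk⟩ := conj_exists a w
    obtain ⟨l, hl⟩ := exists_pow_of_mem a _ hn'
    have hv : v = w * w * a ^ l := by rw [← hl]; group
    have e : v * a ^ i * v⁻¹ = a ^ (k * (k * i)) := by
      rw [hv]
      have e1 : w * w * a ^ l * a ^ i * (w * w * a ^ l)⁻¹
          = w * (w * (a ^ l * a ^ i * (a ^ l)⁻¹) * w⁻¹) * w⁻¹ := by group
      have e2 : a ^ l * a ^ i * (a ^ l)⁻¹ = a ^ i := by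
        rw [(Commute.pow_pow (Commute.refl a) l i).eq, mul_inv_cancel_right]
      rw [e1, e2, conj_pow_eq a w k i hk, conj_pow_eq a w k (k * i) hk]
    rw [e] at hvy
    have h3 : (a ^ i) ^ (k * k + 1) = 1 := by
      have h4 : a ^ (k * (k * i)) * a ^ i = 1 := by rw [hvy, inv_mul_cancel]
      rw [← pow_mul, ← h4, ← pow_add]
      congr 1
      ring
    obtain ⟨e', he'⟩ := (IsPGroup.iff_orderOf.mp hG) (a ^ i)
    have he2 : 2 ≤ e' := by
      by_contra hcon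
      apply hy2
      have h5 : (a ^ i) ^ 2 = 1 := by
        apply orderOf_dvd_iff_pow_eq_one.mp
        rw [he']
        exact pow_dvd_pow 2 (by omega : e' ≤ 1)
      rw [← pow_two]
      exact h5
    have h4 : 4 ∣ k * k + 1 := by
      have h5 := orderOf_dvd_of_pow_eq_one h3
      rw [he'] at h5
      exact dvd_trans (pow_dvd_pow 2 he2) h5
    rcases Nat.even_or_odd' k with ⟨s, rfl | rfl⟩
    · have e3 : 2 * s * (2 * s) + 1 = 4 * (s * s) + 1 := by ring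
      rw [e3] at h4
      omega
    · have e3 : (2 * s + 1) * (2 * s + 1) + 1 = 4 * (s * s + s) + 2 := by ring
      rw [e3] at h4
      omega
  have hvv' : (QuotientGroup.mk v : G ⧸ Subgroup.zpowers a) ^ 2 = 1 := by
    rw [← QuotientGroup.mk_pow, QuotientGroup.eq_one_iff, pow_two]
    exact hvv
  have hb2 : (QuotientGroup.mk b : G ⧸ Subgroup.zpowers a) ^ 2 = 1 := by
    have hQ : IsPGroup 2 (G ⧸ Subgroup.zpowers a) := hG.to_quotient _
    obtain ⟨e₁, he₁⟩ := (IsPGroup.iff_orderOf.mp hQ) (QuotientGroup.mk b)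
    rw [← hj, ← pow_mul] at hvv'
    have h5 := orderOf_dvd_of_pow_eq_one hvv'
    rw [he₁] at h5
    apply orderOf_dvd_iff_pow_eq_one.mp
    rw [he₁]
    have he1 : e₁ ≤ 1 := by
      by_contra hcon
      have h6 : 4 ∣ j * 2 := dvd_trans (pow_dvd_pow 2 (by omega : 2 ≤ e₁)) h5
      obtain ⟨s, rfl⟩ := hjodd
      omega
    exact pow_dvd_pow 2 he1
  have hvb : (QuotientGroup.mk v : G ⧸ Subgroup.zpowers a) = QuotientGroup.mk b := by
    obtain ⟨s, rfl⟩ := hjodd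
    rw [← hj, pow_succ, pow_mul, hb2, one_pow, one_mul]
  have hcov : ∀ g : G, g ∈ Subgroup.zpowers a ∨ v⁻¹ * g ∈ Subgroup.zpowers a := by
    intro g
    obtain ⟨l, hl⟩ := hgen (QuotientGroup.mk g)
    rcases Nat.even_or_odd' l with ⟨s, rfl | rfl⟩
    · left
      rw [pow_mul, hb2, one_pow] at hl
      exact (QuotientGroup.eq_one_iff g).mp hl.symm
    · right
      rw [pow_succ, pow_mul, hb2, one_pow, one_mul, ← hvb] at hl
      exact QuotientGroup.eq.mp hl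
  refine ⟨hvN, hcov, ?_⟩
  have hidx : (Subgroup.zpowers a).index = 2 := by
    rw [Subgroup.index_eq_two_iff]
    refine ⟨v⁻¹, fun g => ?_⟩
    have hiff : g * v⁻¹ ∈ Subgroup.zpowers a ↔ v⁻¹ * g ∈ Subgroup.zpowers a := by
      constructor
      · intro h
        have h1 := hn.conj_mem _ h v⁻¹
        have e1 : v⁻¹ * (g * v⁻¹) * v⁻¹⁻¹ = v⁻¹ * g := by group
        rwa [e1] at h1
      · intro h
        have h1 := hn.conj_mem _ h v
        have e1 : v * (v⁻¹ * g) * v⁻¹ = g * v⁻¹ := by group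
        rwa [e1] at h1
    by_cases hg : g ∈ Subgroup.zpowers a
    · right
      refine ⟨hg, fun h => hvN ?_⟩
      have h1 := Subgroup.mul_mem _ (Subgroup.inv_mem _ h) hg
      have e1 : (g * v⁻¹)⁻¹ * g = v := by group
      rwa [e1] at h1
    · left
      refine ⟨hiff.mpr ((hcov g).resolve_left hg), hg⟩
  rw [← Subgroup.index_mul_card (Subgroup.zpowers a), hidx, Nat.card_zpowers]

/-- symmetry of the quaternion relations -/
theorem q8_symm {G : Type*} [Group G] (i j : G) (h1 : i * i = j * j)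
    (h3 : (i * i) * (i * i) = 1) (h4 : j * i * j⁻¹ = i⁻¹) : i * j * i⁻¹ = j⁻¹ := by
  have h5 : j * j * j * j = 1 := by rw [mul_assoc (j * j), ← h1]; exact h3
  calc i * j * i⁻¹ = i * (j * i⁻¹ * j⁻¹) * j := by group
    _ = i * (j * i * j⁻¹)⁻¹ * j := by rw [conj_inv]
    _ = i * i * j := by rw [h4, inv_inv]
    _ = j * j * j := by rw [h1]
    _ = j⁻¹ := eq_inv_of_mul_eq_one_left h5

theorem quat_aux {G : Type*} [Group G] [Finite G] (hG : IsPGroup 2 G) (a : G)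
    [hn : (Subgroup.zpowers a).Normal] [hc : IsCyclic (G ⧸ Subgroup.zpowers a)]
    (i j : G) (h1 : i * i = j * j) (h2 : i * i ≠ 1) (h3 : (i * i) * (i * i) = 1)
    (h4 : j * i * j⁻¹ = i⁻¹) (k : ℕ) (hk : (i ^ k)⁻¹ * j ∈ Subgroup.zpowers a) :
    (∃ m : ℕ, Nonempty (G ≃* QuaternionGroup m)) ∨ Cfsg.IsQuasiDihedral G := by
  haveI : Fact (Nat.Prime 2) := ⟨Nat.prime_two⟩
  obtain ⟨m, ha⟩ := (IsPGroup.iff_orderOf.mp hG) a
  obtain ⟨u, hu⟩ : ∃ u : G, u = (i ^ k)⁻¹ := ⟨_, rfl⟩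
  rw [← hu] at hk
  have hju : j * u * j⁻¹ = u⁻¹ := by
    rw [hu, ← conj_inv, ← conj_pow, h4, inv_pow]
  have hiu : i * u = u * i := by
    rw [hu]
    exact ((Commute.refl i).pow_right k).inv_right.eq
  have hnn : u * j * (u * j) = i * i := by
    calc u * j * (u * j) = u * (j * u * j⁻¹) * (j * j) := by group
      _ = u * u⁻¹ * (j * j) := by rw [hju]
      _ = i * i := by rw [mul_inv_cancel, one_mul, h1]
  have hij : i * j * i⁻¹ = j⁻¹ := q8_symm i j h1 h3 h4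
  have e1 : i * (u * j) * i⁻¹ = u * j⁻¹ := by
    calc i * (u * j) * i⁻¹ = (i * u) * (j * i⁻¹) := by group
      _ = (u * i) * (j * i⁻¹) := by rw [hiu]
      _ = u * (i * j * i⁻¹) := by group
      _ = u * j⁻¹ := by rw [hij]
  have e2 : (u * j)⁻¹ = u * j⁻¹ := by
    calc (u * j)⁻¹ = j⁻¹ * u⁻¹ := mul_inv_rev u j
      _ = j⁻¹ * (j * u * j⁻¹) := by rw [hju]
      _ = u * j⁻¹ := by group
  have hy2 : u * j * (u * j) ≠ 1 := by rw [hnn]; exact h2
  have hvy : i * (u * j) * i⁻¹ = (u * j)⁻¹ := e1.trans e2.symm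
  have hvv : i * i ∈ Subgroup.zpowers a := by
    rw [← hnn]; exact Subgroup.mul_mem _ hk hk
  obtain ⟨hm2, hcase⟩ := struct a m ha i (u * j) hk hy2 hvy hvv
  obtain ⟨hiN, -, hcard⟩ := key hG a i (u * j) hk hy2 hvy hvv
  have hz : i * i = a ^ 2 ^ (m - 1) :=
    OddAut.invol_of_mem_zpowers a m (by omega) ha (i * i) hvv h2 h3
  rcases hcase with hc1 | hc2
  · left
    obtain ⟨m', rfl⟩ : ∃ m', m = m' + 1 := ⟨m - 1, by omega⟩
    rw [Nat.add_sub_cancel] at hz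
    refine ⟨2 ^ m', Cfsg.Agent.Lib.Helper73.nonempty_mulEquiv_quaternionGroup (2 ^ m') a i
      ?_ ?_ hc1 hiN ?_⟩
    · rw [ha, pow_succ']
    · rw [pow_two, hz]
    · rw [hcard, ha, pow_succ']; ring
  · by_cases hm3 : m = 2
    · exfalso
      subst hm3
      have e3 : i * a * i⁻¹ = a := by
        rw [hc2]
        have e4 : (2 : ℕ) ^ (2 - 1) = 2 := by norm_num
        rw [e4, pow_two, inv_mul_cancel_left]
      obtain ⟨l, hl⟩ := exists_pow_of_mem a (u * j) hk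
      have e4 : i * (u * j) * i⁻¹ = u * j := by rw [hl, ← conj_pow, e3]
      apply hy2
      have e5 : u * j = (u * j)⁻¹ := e4.symm.trans hvy
      nth_rewrite 2 [e5]
      rw [mul_inv_cancel]
    · right
      refine ⟨m, by omega, ?_, a, a * i, ha, ?_, ?_⟩
      · rw [hcard, ha, pow_succ']
      · apply orderOf_eq_prime
        · rw [pow_two]
          calc a * i * (a * i) = a * (i * a * i⁻¹) * (i * i) := by group
            _ = a * (a⁻¹ * a ^ 2 ^ (m - 1)) * a ^ 2 ^ (m - 1) := by rw [hc2, hz]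
            _ = a ^ 2 ^ (m - 1) * a ^ 2 ^ (m - 1) := by rw [mul_inv_cancel_left]
            _ = 1 := by rw [← hz]; exact h3
        · intro h
          apply hiN
          rw [eq_inv_of_mul_eq_one_right h]
          exact Subgroup.inv_mem _ (Subgroup.mem_zpowers a)
      · calc a * i * a * (a * i)⁻¹ = a * (i * a * i⁻¹) * a⁻¹ := by group
          _ = a * (a⁻¹ * a ^ 2 ^ (m - 1)) * a⁻¹ := by rw [hc2]
          _ = a ^ 2 ^ (m - 1) * a⁻¹ := by rw [mul_inv_cancel_left]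
          _ = a ^ (2 ^ (m - 1) - 1) := by
            apply mul_inv_eq_of_eq_mul
            rw [← pow_succ, Nat.sub_add_cancel Nat.one_le_two_pow]

/-- A metacyclic 2-group containing a quaternion group of order 8 is generalized quaternion or
semidihedral. -/
theorem quat_or_qd {G : Type*} [Group G] [Finite G] (hG : IsPGroup 2 G)
    (hm : Cfsg.IsMetacyclic G)
    (i j : G) (h1 : i * i = j * j) (h2 : i * i ≠ 1) (h3 : (i * i) * (i * i) = 1)
    (h4 : j * i * j⁻¹ = i⁻¹) :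
    (∃ m : ℕ, Nonempty (G ≃* QuaternionGroup m)) ∨ Cfsg.IsQuasiDihedral G := by
  haveI : Fact (Nat.Prime 2) := ⟨Nat.prime_two⟩
  obtain ⟨a, hn, hc⟩ := meta_data hm
  haveI := hn
  haveI := hc
  have hQ : IsPGroup 2 (G ⧸ Subgroup.zpowers a) := hG.to_quotient _
  rcases Cfsg.Agent.S0016.le_or_le_of_cyclic hQ
    (Subgroup.zpowers (QuotientGroup.mk i : G ⧸ Subgroup.zpowers a))
    (Subgroup.zpowers (QuotientGroup.mk j : G ⧸ Subgroup.zpowers a)) with h | h
  · have h5 := h (Subgroup.mem_zpowers _)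
    rw [← (isOfFinOrder_of_finite _).mem_powers_iff_mem_zpowers, Submonoid.mem_powers_iff] at h5
    obtain ⟨k, hk⟩ := h5
    have hk' : (j ^ k)⁻¹ * i ∈ Subgroup.zpowers a := by
      rw [← QuotientGroup.eq, QuotientGroup.mk_pow]; exact hk
    exact quat_aux hG a j i h1.symm (by rw [← h1]; exact h2) (by rw [← h1]; exact h3)
      (q8_symm i j h1 h3 h4) k hk'
  · have h5 := h (Subgroup.mem_zpowers _)
    rw [← (isOfFinOrder_of_finite _).mem_powers_iff_mem_zpowers, Submonoid.mem_powers_iff] at h5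
    obtain ⟨k, hk⟩ := h5
    have hk' : (i ^ k)⁻¹ * j ∈ Subgroup.zpowers a := by
      rw [← QuotientGroup.eq, QuotientGroup.mk_pow]; exact hk
    exact quat_aux hG a i j h1 h2 h3 h4 k hk'

theorem dih_core {G : Type*} [Group G] [Finite G] (hG : IsPGroup 2 G) (a : G)
    [hn : (Subgroup.zpowers a).Normal] [hc : IsCyclic (G ⧸ Subgroup.zpowers a)]
    (u₁ u₂ u₃ : G) (h₁ : u₁ * u₁ = 1) (h₂ : u₂ * u₂ = 1) (h₃ : u₃ * u₃ = 1)
    (o₁ : u₁ ∉ Subgroup.zpowers a) (o₂ : u₂ ∉ Subgroup.zpowers a)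
    (o₃ : u₃ ∉ Subgroup.zpowers a) (d₁₂ : u₁ ≠ u₂) (d₁₃ : u₁ ≠ u₃) (d₂₃ : u₂ ≠ u₃) :
    (∃ m : ℕ, Nonempty (G ≃* DihedralGroup m)) ∨ Cfsg.IsQuasiDihedral G := by
  haveI : Fact (Nat.Prime 2) := ⟨Nat.prime_two⟩
  obtain ⟨m, ha⟩ := (IsPGroup.iff_orderOf.mp hG) a
  have hQ : IsPGroup 2 (G ⧸ Subgroup.zpowers a) := hG.to_quotient _
  have key1 : ∀ g h : G, g ∉ Subgroup.zpowers a → h * h = 1 →
      (QuotientGroup.mk g : G ⧸ Subgroup.zpowers a) ∈ Subgroup.zpowers (QuotientGroup.mk h) →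
      g⁻¹ * h ∈ Subgroup.zpowers a := by
    intro g h hg hhh hmem
    rw [← (isOfFinOrder_of_finite _).mem_powers_iff_mem_zpowers, Submonoid.mem_powers_iff] at hmem
    obtain ⟨k, hk⟩ := hmem
    have hh2 : (QuotientGroup.mk h : G ⧸ Subgroup.zpowers a) ^ 2 = 1 := by
      rw [← QuotientGroup.mk_pow, pow_two, hhh, QuotientGroup.mk_one]
    rcases Nat.even_or_odd' k with ⟨s, rfl | rfl⟩
    · exfalso
      apply hg
      rw [← QuotientGroup.eq_one_iff, ← hk, pow_mul, hh2, one_pow]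
    · rw [← QuotientGroup.eq, ← hk, pow_succ, pow_mul, hh2, one_pow, one_mul]
  have huniq : ∀ g h : G, g ∉ Subgroup.zpowers a → h ∉ Subgroup.zpowers a → g * g = 1 →
      h * h = 1 → g⁻¹ * h ∈ Subgroup.zpowers a := by
    intro g h hg hh hgg hhh
    rcases Cfsg.Agent.S0016.le_or_le_of_cyclic hQ
      (Subgroup.zpowers (QuotientGroup.mk g : G ⧸ Subgroup.zpowers a))
      (Subgroup.zpowers (QuotientGroup.mk h : G ⧸ Subgroup.zpowers a)) with h' | h'
    · exact key1 g h hg hhh (h' (Subgroup.mem_zpowers _))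
    · have h5 := key1 h g hh hgg (h' (Subgroup.mem_zpowers _))
      have h6 := Subgroup.inv_mem _ h5
      rwa [mul_inv_rev, inv_inv] at h6
  have hu₁ : u₁⁻¹ = u₁ := (eq_inv_of_mul_eq_one_left h₁).symm
  have hinv : ∀ u : G, u * u = 1 → u₁ * (u₁⁻¹ * u) * u₁⁻¹ = (u₁⁻¹ * u)⁻¹ := by
    intro u hu
    have hu' : u⁻¹ = u := (eq_inv_of_mul_eq_one_left hu).symm
    calc u₁ * (u₁⁻¹ * u) * u₁⁻¹ = u * u₁⁻¹ := by group
      _ = u⁻¹ * u₁ := by rw [hu₁, hu']
      _ = (u₁⁻¹ * u)⁻¹ := by group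
  have hc₂ : u₁⁻¹ * u₂ ∈ Subgroup.zpowers a := huniq u₁ u₂ o₁ o₂ h₁ h₂
  have hc₃ : u₁⁻¹ * u₃ ∈ Subgroup.zpowers a := huniq u₁ u₃ o₁ o₃ h₁ h₃
  have hne₂ : u₁⁻¹ * u₂ ≠ 1 := fun h => d₁₂ (inv_mul_eq_one.mp h)
  have hne₃ : u₁⁻¹ * u₃ ≠ 1 := fun h => d₁₃ (inv_mul_eq_one.mp h)
  -- at most one involution in the cyclic group
  have hone : ∀ c d : G, c ∈ Subgroup.zpowers a → d ∈ Subgroup.zpowers a → c ≠ 1 → d ≠ 1 →
      c * c = 1 → d * d = 1 → c = d := by
    intro c d hc hd hc1 hd1 hcc hdd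
    have hm1 : 1 ≤ m := by
      by_contra hcon
      have hm0 : m = 0 := by omega
      rw [hm0, pow_zero, orderOf_eq_one_iff] at ha
      obtain ⟨l, hl⟩ := exists_pow_of_mem a c hc
      rw [ha, one_pow] at hl
      exact hc1 hl
    rw [OddAut.invol_of_mem_zpowers a m hm1 ha c hc hc1 hcc,
      OddAut.invol_of_mem_zpowers a m hm1 ha d hd hd1 hdd]
  obtain ⟨y, hy, hy2, hvy⟩ : ∃ y ∈ Subgroup.zpowers a, y * y ≠ 1 ∧ u₁ * y * u₁⁻¹ = y⁻¹ := by
    by_cases hcc : u₁⁻¹ * u₂ * (u₁⁻¹ * u₂) = 1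
    · refine ⟨u₁⁻¹ * u₃, hc₃, ?_, hinv u₃ h₃⟩
      intro hdd
      apply d₂₃
      exact mul_left_cancel (hone _ _ hc₂ hc₃ hne₂ hne₃ hcc hdd)
    · exact ⟨u₁⁻¹ * u₂, hc₂, hcc, hinv u₂ h₂⟩
  have hvv : u₁ * u₁ ∈ Subgroup.zpowers a := by rw [h₁]; exact Subgroup.one_mem _
  obtain ⟨hm2, hcase⟩ := struct a m ha u₁ y hy hy2 hvy hvv
  obtain ⟨-, -, hcard⟩ := key hG a u₁ y hy hy2 hvy hvv
  rcases hcase with hc1 | hc2
  · left
    exact ⟨2 ^ m, Cfsg.Agent.Lib.Helper73.nonempty_mulEquiv_dihedralGroup (2 ^ m) a u₁ ha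
      (by rw [pow_two]; exact h₁) hc1 o₁ (by rw [hcard, ha])⟩
  · by_cases hm3 : m = 2
    · exfalso
      subst hm3
      have e3 : u₁ * a * u₁⁻¹ = a := by
        rw [hc2]
        have e4 : (2 : ℕ) ^ (2 - 1) = 2 := by norm_num
        rw [e4, pow_two, inv_mul_cancel_left]
      obtain ⟨l, hl⟩ := exists_pow_of_mem a y hy
      have e4 : u₁ * y * u₁⁻¹ = y := by rw [hl, ← conj_pow, e3]
      apply hy2
      have e5 : y = y⁻¹ := e4.symm.trans hvy
      nth_rewrite 2 [e5]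
      rw [mul_inv_cancel]
    · right
      refine ⟨m, by omega, ?_, a, u₁, ha, ?_, ?_⟩
      · rw [hcard, ha, pow_succ']
      · apply orderOf_eq_prime
        · rw [pow_two]; exact h₁
        · intro h
          apply o₁
          rw [h]
          exact Subgroup.one_mem _
      · rw [hc2]
        apply inv_mul_eq_of_eq_mul
        rw [← pow_succ', Nat.sub_add_cancel Nat.one_le_two_pow]

/-- A metacyclic 2-group with at least four involutions is dihedral or semidihedral. -/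
theorem dih_or_qd {G : Type*} [Group G] [Finite G] (hG : IsPGroup 2 G)
    (hm : Cfsg.IsMetacyclic G)
    (t₁ t₂ t₃ t₄ : G) (h₁ : t₁ * t₁ = 1) (h₂ : t₂ * t₂ = 1) (h₃ : t₃ * t₃ = 1)
    (h₄ : t₄ * t₄ = 1) (n₁ : t₁ ≠ 1) (n₂ : t₂ ≠ 1) (n₃ : t₃ ≠ 1) (n₄ : t₄ ≠ 1)
    (d₁₂ : t₁ ≠ t₂) (d₁₃ : t₁ ≠ t₃) (d₁₄ : t₁ ≠ t₄) (d₂₃ : t₂ ≠ t₃) (d₂₄ : t₂ ≠ t₄)
    (d₃₄ : t₃ ≠ t₄) :
    (∃ m : ℕ, Nonempty (G ≃* DihedralGroup m)) ∨ Cfsg.IsQuasiDihedral G := by
  haveI : Fact (Nat.Prime 2) := ⟨Nat.prime_two⟩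
  obtain ⟨a, hn, hc⟩ := meta_data hm
  haveI := hn
  haveI := hc
  obtain ⟨m, ha⟩ := (IsPGroup.iff_orderOf.mp hG) a
  have hone : ∀ c d : G, c ∈ Subgroup.zpowers a → d ∈ Subgroup.zpowers a → c ≠ 1 → d ≠ 1 →
      c * c = 1 → d * d = 1 → c = d := by
    intro c d hc hd hc1 hd1 hcc hdd
    have hm1 : 1 ≤ m := by
      by_contra hcon
      have hm0 : m = 0 := by omega
      rw [hm0, pow_zero, orderOf_eq_one_iff] at ha
      obtain ⟨l, hl⟩ := exists_pow_of_mem a c hc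
      rw [ha, one_pow] at hl
      exact hc1 hl
    rw [OddAut.invol_of_mem_zpowers a m hm1 ha c hc hc1 hcc,
      OddAut.invol_of_mem_zpowers a m hm1 ha d hd hd1 hdd]
  by_cases c₁ : t₁ ∈ Subgroup.zpowers a
  · have o₂ : t₂ ∉ Subgroup.zpowers a := fun h => d₁₂ (hone _ _ c₁ h n₁ n₂ h₁ h₂)
    have o₃ : t₃ ∉ Subgroup.zpowers a := fun h => d₁₃ (hone _ _ c₁ h n₁ n₃ h₁ h₃)
    have o₄ : t₄ ∉ Subgroup.zpowers a := fun h => d₁₄ (hone _ _ c₁ h n₁ n₄ h₁ h₄)
    exact dih_core hG a t₂ t₃ t₄ h₂ h₃ h₄ o₂ o₃ o₄ d₂₃ d₂₄ d₃₄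
  · by_cases c₂ : t₂ ∈ Subgroup.zpowers a
    · have o₃ : t₃ ∉ Subgroup.zpowers a := fun h => d₂₃ (hone _ _ c₂ h n₂ n₃ h₂ h₃)
      have o₄ : t₄ ∉ Subgroup.zpowers a := fun h => d₂₄ (hone _ _ c₂ h n₂ n₄ h₂ h₄)
      exact dih_core hG a t₁ t₃ t₄ h₁ h₃ h₄ c₁ o₃ o₄ d₁₃ d₁₄ d₃₄
    · by_cases c₃ : t₃ ∈ Subgroup.zpowers a
      · have o₄ : t₄ ∉ Subgroup.zpowers a := fun h => d₃₄ (hone _ _ c₃ h n₃ n₄ h₃ h₄)
        exact dih_core hG a t₁ t₂ t₄ h₁ h₂ h₄ c₁ c₂ o₄ d₁₂ d₁₄ d₂₄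
      · exact dih_core hG a t₁ t₂ t₃ h₁ h₂ h₃ c₁ c₂ c₃ d₁₂ d₁₃ d₂₃

/-- conjugation acts on the cyclic normal 2-subgroup by an odd power -/
theorem conj_odd {G : Type*} [Group G] [Finite G] (hG : IsPGroup 2 G) (a : G)
    [hn : (Subgroup.zpowers a).Normal] (g : G) : ∃ t : ℕ, g * a * g⁻¹ = a ^ (2 * t + 1) := by
  haveI : Fact (Nat.Prime 2) := ⟨Nat.prime_two⟩
  obtain ⟨k, hk⟩ := conj_exists a g
  by_cases ha1 : a = 1
  · exact ⟨0, by rw [ha1]; simp⟩
  obtain ⟨μ, hμ⟩ := (IsPGroup.iff_orderOf.mp hG) a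
  have hμ1 : 1 ≤ μ := by
    by_contra hcon
    have hμ0 : μ = 0 := by omega
    rw [hμ0, pow_zero, orderOf_eq_one_iff] at hμ
    exact ha1 hμ
  rcases Nat.even_or_odd' k with ⟨s, rfl | rfl⟩
  · exfalso
    have h1 : g * a ^ 2 ^ (μ - 1) * g⁻¹ = 1 := by
      rw [conj_pow_eq a g (2 * s) (2 ^ (μ - 1)) hk]
      have e : 2 * s * 2 ^ (μ - 1) = 2 ^ μ * s := by
        obtain ⟨μ', rfl⟩ : ∃ μ', μ = μ' + 1 := ⟨μ - 1, by omega⟩
        rw [Nat.add_sub_cancel, pow_succ]; ring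
      rw [e, pow_mul, ← hμ, pow_orderOf_eq_one, one_pow]
    have h2 : a ^ 2 ^ (μ - 1) = 1 := by
      have h3 : a ^ 2 ^ (μ - 1) = g⁻¹ * (g * a ^ 2 ^ (μ - 1) * g⁻¹) * g := by group
      rw [h3, h1]; group
    have h3 := orderOf_dvd_of_pow_eq_one h2
    rw [hμ] at h3
    have h4 := Nat.le_of_dvd (by positivity) h3
    have h5 : 2 ^ (μ - 1) < 2 ^ μ := Nat.pow_lt_pow_right (by norm_num) (by omega)
    omega
  · exact ⟨s, hk⟩

/-- In a metacyclic 2-group with cyclic normal subgroup `⟨a⟩`, every commutator is the square of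
a power of `a`. -/
theorem comm_sq {G : Type*} [Group G] [Finite G] (hG : IsPGroup 2 G) (a : G)
    [hn : (Subgroup.zpowers a).Normal] [hc : IsCyclic (G ⧸ Subgroup.zpowers a)] (g h : G) :
    ∃ k : ℕ, g * h * g⁻¹ * h⁻¹ = a ^ k * a ^ k := by
  have hA2 : (Subgroup.zpowers (a * a)).Normal := by
    constructor
    intro n hn' x
    obtain ⟨k, rfl⟩ := Subgroup.mem_zpowers_iff.mp hn'
    obtain ⟨t, ht⟩ := conj_odd hG a x
    rw [← conj_zpow]
    have e : x * (a * a) * x⁻¹ = (a * a) ^ (2 * t + 1) := by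
      have e1 : x * (a * a) * x⁻¹ = (x * a * x⁻¹) * (x * a * x⁻¹) := by group
      rw [e1, ht, (Commute.refl a).mul_pow]
    rw [e]
    exact Subgroup.zpow_mem _ (Subgroup.pow_mem _ (Subgroup.mem_zpowers _) _) k
  haveI := hA2
  obtain ⟨b', hb'⟩ := hc.exists_generator
  obtain ⟨b, rfl⟩ := QuotientGroup.mk_surjective b'
  have hgen : ∀ x : G, ∃ j i : ℕ, x = b ^ j * a ^ i := by
    intro x
    have h1 := hb' (QuotientGroup.mk x)
    rw [← (isOfFinOrder_of_finite _).mem_powers_iff_mem_zpowers, Submonoid.mem_powers_iff] at h1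
    obtain ⟨j, hj⟩ := h1
    have h2 : (b ^ j)⁻¹ * x ∈ Subgroup.zpowers a := by
      rw [← QuotientGroup.eq, QuotientGroup.mk_pow]; exact hj
    obtain ⟨i, hi⟩ := exists_pow_of_mem a _ h2
    exact ⟨j, i, by rw [← hi, mul_inv_cancel_left]⟩
  have hcomm : Commute (QuotientGroup.mk a : G ⧸ Subgroup.zpowers (a * a)) (QuotientGroup.mk b) := by
    show (QuotientGroup.mk a : G ⧸ Subgroup.zpowers (a * a)) * QuotientGroup.mk b
      = QuotientGroup.mk b * QuotientGroup.mk a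
    rw [← QuotientGroup.mk_mul, ← QuotientGroup.mk_mul, QuotientGroup.eq]
    obtain ⟨t, ht⟩ := conj_odd hG a b⁻¹
    have e : (a * b)⁻¹ * (b * a) = (b⁻¹ * a * b⁻¹⁻¹)⁻¹ * a := by group
    rw [e, ht, pow_succ', mul_inv_rev, inv_mul_cancel_right, pow_mul, pow_two]
    exact Subgroup.inv_mem _ (Subgroup.pow_mem _ (Subgroup.mem_zpowers _) _)
  have hall : ∀ x y : G, (QuotientGroup.mk x : G ⧸ Subgroup.zpowers (a * a)) * QuotientGroup.mk y
      = QuotientGroup.mk y * QuotientGroup.mk x := by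
    intro x y
    obtain ⟨j, i, rfl⟩ := hgen x
    obtain ⟨l, k, rfl⟩ := hgen y
    rw [QuotientGroup.mk_mul, QuotientGroup.mk_mul, QuotientGroup.mk_pow, QuotientGroup.mk_pow,
      QuotientGroup.mk_pow, QuotientGroup.mk_pow]
    have hc' : Commute ((QuotientGroup.mk b : G ⧸ Subgroup.zpowers (a * a)) ^ j
        * (QuotientGroup.mk a) ^ i) ((QuotientGroup.mk b) ^ l * (QuotientGroup.mk a) ^ k) := by
      apply Commute.mul_left
      · apply Commute.mul_right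
        · exact (Commute.refl _).pow_pow j l
        · exact hcomm.symm.pow_pow j k
      · apply Commute.mul_right
        · exact hcomm.pow_pow i l
        · exact (Commute.refl _).pow_pow i k
    exact hc'.eq
  have h1 : g * h * g⁻¹ * h⁻¹ ∈ Subgroup.zpowers (a * a) := by
    rw [← QuotientGroup.eq_one_iff, QuotientGroup.mk_mul, QuotientGroup.mk_mul,
      QuotientGroup.mk_mul, hall g h, QuotientGroup.mk_inv, QuotientGroup.mk_inv,
      mul_inv_cancel_right, mul_inv_cancel]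
  obtain ⟨k, hk⟩ := exists_pow_of_mem (a * a) _ h1
  exact ⟨k, by rw [hk, (Commute.refl a).mul_pow]⟩

/-- An element of a metacyclic 2-group `T = Q ∪ xQ` acts trivially modulo squares on the abelian
subgroup `Q`, provided every element of order at most two of `Q` is a square in `Q`. -/
theorem hom_sq {T : Type*} [Group T] [Finite T] (hT : IsPGroup 2 T) (hm : Cfsg.IsMetacyclic T)
    (Q : Subgroup T) (hQ : ∀ a ∈ Q, ∀ b ∈ Q, a * b = b * a) (x : T)
    (hcov : ∀ g : T, g ∈ Q ∨ x⁻¹ * g ∈ Q)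
    (hsq : ∀ u ∈ Q, u * u = 1 → ∃ w ∈ Q, u = w * w) :
    ∀ q ∈ Q, ∃ w ∈ Q, x * q * x⁻¹ = q * (w * w) := by
  intro q hq
  by_cases hx : x ∈ Q
  · refine ⟨1, Q.one_mem, ?_⟩
    rw [hQ x hx q hq, mul_inv_cancel_right, mul_one, mul_one]
  have hxq : x * q * x⁻¹ ∈ Q := by
    rcases hcov (x * q * x⁻¹) with h | h
    · exact h
    · exfalso
      apply hx
      have e : x⁻¹ * (x * q * x⁻¹) = q * x⁻¹ := by group
      rw [e] at h
      have h2 := Q.mul_mem (Q.inv_mem hq) h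
      rw [inv_mul_cancel_left] at h2
      have h3 := Q.inv_mem h2
      rwa [inv_inv] at h3
  obtain ⟨a, hn, hc⟩ := meta_data hm
  haveI := hn
  haveI := hc
  by_cases ha : a ∈ Q
  · obtain ⟨k, hk⟩ := comm_sq hT a x q
    refine ⟨a ^ k, Q.pow_mem ha k, ?_⟩
    have e : x * q * x⁻¹ = (x * q * x⁻¹ * q⁻¹) * q := by group
    rw [e, hk]
    exact hQ _ (Q.mul_mem (Q.pow_mem ha k) (Q.pow_mem ha k)) q hq
  · have hq₁ : x⁻¹ * a ∈ Q := (hcov a).resolve_left ha
    have haa : a * a ∈ Q := by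
      rcases hcov (a * a) with h | h
      · exact h
      · exfalso
        apply ha
        have e : x⁻¹ * (a * a) = (x⁻¹ * a) * a := by group
        rw [e] at h
        have h2 := Q.mul_mem (Q.inv_mem hq₁) h
        rwa [inv_mul_cancel_left] at h2
    -- conjugation by `x` on `Q` is conjugation by `a`
    have hxa : x * q * x⁻¹ = a * q * a⁻¹ := by
      have e1 : a * q * a⁻¹ = x * ((x⁻¹ * a) * q * (x⁻¹ * a)⁻¹) * x⁻¹ := by group
      rw [e1, hQ _ hq₁ q hq, mul_inv_cancel_right]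
    obtain ⟨s, hs⟩ := conj_exists a q
    -- c = a q a⁻¹ q⁻¹ = a * (q a q⁻¹)⁻¹
    have hc1 : a * q * a⁻¹ * q⁻¹ = a * (a ^ s)⁻¹ := by
      rw [← hs]; group
    have hcQ : a * q * a⁻¹ * q⁻¹ ∈ Q := by
      rw [← hxa]; exact Q.mul_mem hxq (Q.inv_mem hq)
    have hss : a ^ s * a ^ s = a * a := by
      have e1 : a ^ s * a ^ s = q * (a * a) * q⁻¹ := by rw [← hs]; group
      rw [e1, hQ q hq _ haa, mul_inv_cancel_right]
    have hcc : a * q * a⁻¹ * q⁻¹ * (a * q * a⁻¹ * q⁻¹) = 1 := by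
      rw [hc1]
      have hcm : Commute a (a ^ s)⁻¹ := ((Commute.refl a).pow_right s).inv_right
      calc a * (a ^ s)⁻¹ * (a * (a ^ s)⁻¹) = a * ((a ^ s)⁻¹ * a) * (a ^ s)⁻¹ := by group
        _ = a * (a * (a ^ s)⁻¹) * (a ^ s)⁻¹ := by rw [hcm.eq]
        _ = (a * a) * (a ^ s * a ^ s)⁻¹ := by group
        _ = 1 := by rw [hss, mul_inv_cancel]
    obtain ⟨w, hw, hww⟩ := hsq _ hcQ hcc
    refine ⟨w, hw, ?_⟩
    have e : x * q * x⁻¹ = (a * q * a⁻¹ * q⁻¹) * q := by rw [hxa]; group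
    rw [e, hww]
    exact hQ _ (Q.mul_mem hw hw) q hq

/-- in `ZMod (2 ^ n)` with `n ≠ 1`, elements of order at most two are doubles -/
theorem zmod_half (n : ℕ) (hn : n ≠ 1) (α : ZMod (2 ^ n)) (h : α + α = 0) :
    ∃ β : ZMod (2 ^ n), α = β + β := by
  rcases Nat.lt_or_ge n 1 with h0 | h2
  · have hn0 : n = 0 := by omega
    subst hn0
    haveI : Subsingleton (ZMod (2 ^ 0)) := by
      rw [pow_zero]; infer_instance
    exact ⟨α, Subsingleton.elim _ _⟩
  · obtain ⟨n', rfl⟩ : ∃ n', n = n' + 2 := ⟨n - 2, by omega⟩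
    have h1 : ((α.val + α.val : ℕ) : ZMod (2 ^ (n' + 2))) = 0 := by
      rw [Nat.cast_add, ZMod.natCast_zmod_val]; exact h
    rw [ZMod.natCast_eq_zero_iff] at h1
    have h3 : 2 ^ (n' + 1) ∣ α.val := by
      have e : 2 ^ (n' + 2) = 2 * 2 ^ (n' + 1) := by rw [pow_succ']
      have e' : α.val + α.val = 2 * α.val := by ring
      have h1' : 2 * 2 ^ (n' + 1) ∣ 2 * α.val :=
        (dvd_of_eq e.symm).trans (h1.trans (dvd_of_eq e'))
      exact Nat.dvd_of_mul_dvd_mul_left (by norm_num) h1'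
    obtain ⟨c, hc⟩ := h3
    refine ⟨((2 ^ n' * c : ℕ) : ZMod (2 ^ (n' + 2))), ?_⟩
    rw [← Nat.cast_add]
    have e : 2 ^ n' * c + 2 ^ n' * c = α.val := by rw [hc, pow_succ]; ring
    rw [e, ZMod.natCast_zmod_val]

/-- four distinct elements exhaust a set with four elements -/
theorem four_exhaust {A : Type*} [Finite A] (h : Nat.card A = 4) (a b c d : A) (hab : a ≠ b)
    (hac : a ≠ c) (had : a ≠ d) (hbc : b ≠ c) (hbd : b ≠ d) (hcd : c ≠ d) (g : A) :
    g = a ∨ g = b ∨ g = c ∨ g = d := by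
  classical
  haveI : Fintype A := Fintype.ofFinite A
  have hS : ({a, b, c, d} : Finset A).card = 4 := by
    rw [Finset.card_insert_of_notMem, Finset.card_insert_of_notMem,
      Finset.card_insert_of_notMem, Finset.card_singleton]
    · simp only [Finset.mem_singleton]; exact hcd
    · simp only [Finset.mem_insert, Finset.mem_singleton, not_or]; exact ⟨hbc, hbd⟩
    · simp only [Finset.mem_insert, Finset.mem_singleton, not_or]; exact ⟨hab, hac, had⟩
  have hU : ({a, b, c, d} : Finset A) = Finset.univ := by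
    apply Finset.eq_univ_of_card
    rw [hS, ← Nat.card_eq_fintype_card, h]
  have hg : g ∈ ({a, b, c, d} : Finset A) := by rw [hU]; exact Finset.mem_univ _
  simpa only [Finset.mem_insert, Finset.mem_singleton] using hg

/-- a `2`-power of an element outside a subgroup with square inside -/
theorem exists_sq_mem {G : Type*} [Group G] (R : Subgroup G) (N : ℕ) :
    ∀ g : G, g ^ 2 ^ N = 1 → g ∉ R → ∃ j : ℕ, g ^ 2 ^ j ∉ R ∧ g ^ 2 ^ j * g ^ 2 ^ j ∈ R := by
  induction N with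
  | zero =>
    intro g hg hgR
    rw [pow_zero, pow_one] at hg
    rw [hg] at hgR
    exact absurd R.one_mem hgR
  | succ N ih =>
    intro g hg hgR
    by_cases h : g * g ∈ R
    · exact ⟨0, by rw [pow_zero, pow_one]; exact hgR, by rw [pow_zero, pow_one]; exact h⟩
    · have h1 : (g * g) ^ 2 ^ N = 1 := by
        rw [← pow_two, ← pow_mul, ← pow_succ']; exact hg
      obtain ⟨j, hj1, hj2⟩ := ih (g * g) h1 h
      refine ⟨j + 1, ?_, ?_⟩
      · rw [pow_succ', pow_mul, pow_two]; exact hj1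
      · rw [pow_succ', pow_mul, pow_two]; exact hj2

/-- the standard generators of a quaternion group of order 8 -/
theorem quat_elems {X : Type*} [Group X] (e : X ≃* QuaternionGroup 2) :
    ∃ i j : X, i * i = j * j ∧ i * i ≠ 1 ∧ (i * i) * (i * i) = 1 ∧ j * i * j⁻¹ = i⁻¹ := by
  refine ⟨e.symm (QuaternionGroup.a 1), e.symm (QuaternionGroup.xa 0), ?_, ?_, ?_, ?_⟩
  · rw [← map_mul, ← map_mul]
    congr 1
  · rw [← map_mul]
    intro h
    have h1 : (QuaternionGroup.a 1 * QuaternionGroup.a 1 : QuaternionGroup 2) = 1 := by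
      apply e.symm.injective
      rw [h, map_one]
    revert h1
    decide
  · rw [← map_mul, ← map_mul]
    have h1 : (QuaternionGroup.a 1 * QuaternionGroup.a 1 * (QuaternionGroup.a 1 * QuaternionGroup.a 1)
      : QuaternionGroup 2) = 1 := by decide
    rw [h1, map_one]
  · rw [← map_inv, ← map_mul, ← map_mul, ← map_inv]
    congr 1

end Meta2

end Cfsg.Agent.Lib.Helper42
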