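import Mathlib
import Cfsg.Prelude.Def_FusionSystem
import Cfsg.Agent.Lib.Helper87.FusionNormal
import Cfsg.Agent.Lib.Helper20.WrAut
import Cfsg.Agent.Lib.Helper42.Meta2
import Cfsg.Agent.S1896
import Cfsg.Agent.S5086

set_option autoImplicit false

/-!
# Strongly closed metacyclic 2-subgroups of saturated fusion systems

A strongly closed metacyclic subgroup of a saturated fusion system over a 2-group which is not
dihedral, semidihedral or generalized quaternion is normal in the system.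
-/

namespace Cfsg.Agent.Lib.Helper42

namespace Meta2F

open Cfsg Cfsg.FusionSystem Cfsg.Agent.Lib.Helper87 Cfsg.Agent.Lib.Helper20

variable {Ω : Type*} [Group Ω]

/-- The automorphisms of `R` acting trivially on `R / Q` and, on `Q`, trivially modulo `Y`. -/
def stabSub (R Q Y : Subgroup Ω) : Subgroup (MulAut R) where
  carrier := {β | (∀ r : R, (r : Ω)⁻¹ * ((β r : R) : Ω) ∈ Q) ∧
    (∀ r : R, (r : Ω) ∈ Q → (r : Ω)⁻¹ * ((β r : R) : Ω) ∈ Y)}
  one_mem' := by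
    refine ⟨fun r => ?_, fun r _ => ?_⟩
    · rw [MulAut.one_apply, inv_mul_cancel]; exact Q.one_mem
    · rw [MulAut.one_apply, inv_mul_cancel]; exact Y.one_mem
  mul_mem' := by
    rintro β γ ⟨hβ1, hβ2⟩ ⟨hγ1, hγ2⟩
    refine ⟨fun r => ?_, fun r hr => ?_⟩
    · have e : (r : Ω)⁻¹ * ((β (γ r) : R) : Ω)
          = ((r : Ω)⁻¹ * ((γ r : R) : Ω)) * (((γ r : R) : Ω)⁻¹ * ((β (γ r) : R) : Ω)) := by group
      show (r : Ω)⁻¹ * ((β (γ r) : R) : Ω) ∈ Q
      rw [e]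
      exact Q.mul_mem (hγ1 r) (hβ1 (γ r))
    · have hγr : ((γ r : R) : Ω) ∈ Q := by
        have h := Q.mul_mem hr (hγ1 r)
        rwa [mul_inv_cancel_left] at h
      have e : (r : Ω)⁻¹ * ((β (γ r) : R) : Ω)
          = ((r : Ω)⁻¹ * ((γ r : R) : Ω)) * (((γ r : R) : Ω)⁻¹ * ((β (γ r) : R) : Ω)) := by group
      show (r : Ω)⁻¹ * ((β (γ r) : R) : Ω) ∈ Y
      rw [e]
      exact Y.mul_mem (hγ2 r hr) (hβ2 (γ r) hγr)
  inv_mem' := by
    rintro β ⟨hβ1, hβ2⟩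
    have h1 : ∀ r : R, (r : Ω)⁻¹ * ((β⁻¹ r : R) : Ω) ∈ Q := by
      intro r
      have h := hβ1 (β⁻¹ r)
      rw [MulAut.apply_inv_self] at h
      have h' := Q.inv_mem h
      rwa [mul_inv_rev, inv_inv] at h'
    refine ⟨h1, fun r hr => ?_⟩
    have hr' : ((β⁻¹ r : R) : Ω) ∈ Q := by
      have h := Q.mul_mem hr (h1 r)
      rwa [mul_inv_cancel_left] at h
    have h := hβ2 (β⁻¹ r) hr'
    rw [MulAut.apply_inv_self] at h
    have h' := Y.inv_mem h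
    rwa [mul_inv_rev, inv_inv] at h'

theorem stabSub_map_mem {R Q Y : Subgroup Ω} {β : MulAut R} (hβ : β ∈ stabSub R Q Y) (r : R)
    (hr : (r : Ω) ∈ Q) : ((β r : R) : Ω) ∈ Q := by
  have h := Q.mul_mem hr (hβ.1 r)
  rwa [mul_inv_cancel_left] at h

theorem stabSub_conj_mem {R Q Y : Subgroup Ω} {α β : MulAut R}
    (hαQ : ∀ r : R, (r : Ω) ∈ Q → ((α r : R) : Ω) ∈ Q)
    (hαQ' : ∀ r : R, (r : Ω) ∈ Q → ((α⁻¹ r : R) : Ω) ∈ Q)
    (hαY : ∀ r : R, (r : Ω) ∈ Y → ((α r : R) : Ω) ∈ Y)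
    (hβ : β ∈ stabSub R Q Y) : α * β * α⁻¹ ∈ stabSub R Q Y := by
  have h3 : ∀ r : R, α ((α⁻¹ r)⁻¹ * β (α⁻¹ r)) = r⁻¹ * (α * β * α⁻¹) r := by
    intro r
    rw [map_mul, map_inv, MulAut.apply_inv_self]
    rfl
  constructor
  · intro r
    have h1 := hβ.1 (α⁻¹ r)
    have h2 := hαQ ((α⁻¹ r)⁻¹ * β (α⁻¹ r)) h1
    rw [h3] at h2
    exact h2
  · intro r hr
    have h1 := hβ.2 (α⁻¹ r) (hαQ' r hr)
    have h2 := hαY ((α⁻¹ r)⁻¹ * β (α⁻¹ r)) h1
    rw [h3] at h2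
    exact h2

theorem stabSub_isPGroup {R Q Y : Subgroup Ω} [Finite R] (hR : IsPGroup 2 R)
    (B : Subgroup (MulAut R)) (hB : B ≤ stabSub R Q Y)
    (hfix : ∀ γ ∈ B, ∀ k : ℕ, Odd k → γ ^ k = 1 → ∀ r : R, (r : Ω) ∈ Q → γ r = r) :
    IsPGroup 2 B := by
  rintro ⟨β, hβ⟩
  have hfin : Finite (MulAut R) := inferInstance
  have h0 : orderOf β ≠ 0 := (orderOf_pos β).ne'
  obtain ⟨j, k, hk, hjk⟩ := Nat.exists_eq_two_pow_mul_odd h0
  refine ⟨j, ?_⟩
  have hγB : β ^ 2 ^ j ∈ B := B.pow_mem hβ _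
  have hγk : (β ^ 2 ^ j) ^ k = 1 := by rw [← pow_mul, ← hjk, pow_orderOf_eq_one]
  have hγQ := hfix _ hγB k hk hγk
  have hγ1 : β ^ 2 ^ j = 1 := by
    apply MulEquiv.ext
    intro r
    have hst := (hB hγB).1 r
    have hh := hγQ (r⁻¹ * (β ^ 2 ^ j) r) hst
    exact aut_fix_of_mul hR (β ^ 2 ^ j) k hk hγk r (r⁻¹ * (β ^ 2 ^ j) r)
      (by rw [mul_inv_cancel_left]) hh
  apply Subtype.ext
  rw [Subgroup.coe_pow]
  exact hγ1

theorem conjAut_mem_stabSub {R P Y : Subgroup Ω} {x : Ω}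
    (hxN : x ∈ Subgroup.normalizer (R : Set Ω)) (hxP : x ∈ P)
    (hPn : ∀ r ∈ R, ∀ p ∈ P, r⁻¹ * p * r ∈ P)
    (hY : ∀ q ∈ R ⊓ P, q⁻¹ * (x * q * x⁻¹) ∈ Y) : conjAut R x hxN ∈ stabSub R (R ⊓ P) Y := by
  constructor
  · intro r
    rw [conjAut_apply]
    refine ⟨?_, ?_⟩
    · exact R.mul_mem (R.inv_mem r.2) ((Subgroup.mem_normalizer_iff.mp hxN r).mp r.2)
    · have e : (r : Ω)⁻¹ * (x * r * x⁻¹) = ((r : Ω)⁻¹ * x * r) * x⁻¹ := by group
      rw [e]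
      exact P.mul_mem (hPn r r.2 x hxP) (P.inv_mem hxP)
  · intro r hr
    rw [conjAut_apply]
    exact hY r hr

/-- restriction of an automorphism of `R` preserving `Q ≤ R` -/
def resAut {R Q : Subgroup Ω} (hQR : Q ≤ R) (γ : MulAut R)
    (h : ∀ r : R, (r : Ω) ∈ Q → ((γ r : R) : Ω) ∈ Q)
    (h' : ∀ r : R, (r : Ω) ∈ Q → ((γ⁻¹ r : R) : Ω) ∈ Q) : MulAut Q where
  toFun q := ⟨(γ ⟨q, hQR q.2⟩ : R), h _ q.2⟩
  invFun q := ⟨(γ⁻¹ ⟨q, hQR q.2⟩ : R), h' _ q.2⟩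
  left_inv q := by
    apply Subtype.ext
    show ((γ⁻¹ ⟨((γ ⟨q, hQR q.2⟩ : R) : Ω), _⟩ : R) : Ω) = q
    have e : (⟨((γ ⟨q, hQR q.2⟩ : R) : Ω), hQR (h _ q.2)⟩ : R) = γ ⟨q, hQR q.2⟩ :=
      Subtype.ext rfl
    rw [e, MulAut.inv_apply_self]
  right_inv q := by
    apply Subtype.ext
    show ((γ ⟨((γ⁻¹ ⟨q, hQR q.2⟩ : R) : Ω), _⟩ : R) : Ω) = q
    have e : (⟨((γ⁻¹ ⟨q, hQR q.2⟩ : R) : Ω), hQR (h' _ q.2)⟩ : R) = γ⁻¹ ⟨q, hQR q.2⟩ :=
      Subtype.ext rfl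
    rw [e, MulAut.apply_inv_self]
  map_mul' a b := by
    apply Subtype.ext
    show ((γ ⟨((a * b : Q) : Ω), _⟩ : R) : Ω)
      = ((γ ⟨a, hQR a.2⟩ : R) : Ω) * ((γ ⟨b, hQR b.2⟩ : R) : Ω)
    have e : (⟨((a * b : Q) : Ω), hQR (a * b).2⟩ : R) = ⟨a, hQR a.2⟩ * ⟨b, hQR b.2⟩ :=
      Subtype.ext rfl
    rw [e, map_mul]
    rfl

theorem resAut_apply {R Q : Subgroup Ω} (hQR : Q ≤ R) (γ : MulAut R)
    (h : ∀ r : R, (r : Ω) ∈ Q → ((γ r : R) : Ω) ∈ Q)
    (h' : ∀ r : R, (r : Ω) ∈ Q → ((γ⁻¹ r : R) : Ω) ∈ Q) (q : Q) :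
    ((resAut hQR γ h h' q : Q) : Ω) = ((γ ⟨q, hQR q.2⟩ : R) : Ω) := rfl

theorem resAut_pow_apply {R Q : Subgroup Ω} (hQR : Q ≤ R) (γ : MulAut R)
    (h : ∀ r : R, (r : Ω) ∈ Q → ((γ r : R) : Ω) ∈ Q)
    (h' : ∀ r : R, (r : Ω) ∈ Q → ((γ⁻¹ r : R) : Ω) ∈ Q) (k : ℕ) :
    ∀ q : Q, ((((resAut hQR γ h h') ^ k) q : Q) : Ω) = (((γ ^ k) ⟨q, hQR q.2⟩ : R) : Ω) := by
  induction k with
  | zero => intro q; rfl
  | succ k ih =>
    intro q
    rw [pow_succ, pow_succ, MulAut.mul_apply, MulAut.mul_apply, ih]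
    have e : (⟨((resAut hQR γ h h' q : Q) : Ω), hQR (resAut hQR γ h h' q).2⟩ : R)
        = γ ⟨q, hQR q.2⟩ := Subtype.ext rfl
    rw [e]

/-- If `Aut(Q)` is a 2-group, an automorphism of odd order of `R` preserving `Q` fixes `Q`
pointwise. -/
theorem fix_of_aut_pgroup {R Q : Subgroup Ω} (hQR : Q ≤ R) (hA : IsPGroup 2 (MulAut Q))
    (γ : MulAut R) (h : ∀ r : R, (r : Ω) ∈ Q → ((γ r : R) : Ω) ∈ Q)
    (h' : ∀ r : R, (r : Ω) ∈ Q → ((γ⁻¹ r : R) : Ω) ∈ Q) (k : ℕ) (hk : Odd k)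
    (hγk : γ ^ k = 1) : ∀ r : R, (r : Ω) ∈ Q → γ r = r := by
  intro r hr
  obtain ⟨N, hN⟩ := hA (resAut hQR γ h h')
  have h1 : (resAut hQR γ h h') ^ k = 1 := by
    apply MulEquiv.ext
    intro q
    apply Subtype.ext
    rw [resAut_pow_apply, hγk]
    rfl
  have h2 : resAut hQR γ h h' = 1 := by
    have hcop : Nat.Coprime (2 ^ N) k := Nat.Coprime.pow_left N (Nat.coprime_two_left.mpr hk)
    have h3 := (pow_gcd_eq_one (a := resAut hQR γ h h') (m := 2 ^ N) (n := k)).mpr ⟨hN, h1⟩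
    rwa [hcop.gcd_eq_one, pow_one] at h3
  have h3 := congrArg (fun ρ : MulAut Q => ((ρ ⟨r, hr⟩ : Q) : Ω)) h2
  exact Subtype.ext h3

/-- the subgroup generated by the squares of `Q` -/
def sqSub (Q : Subgroup Ω) : Subgroup Ω := Subgroup.closure {g | ∃ u ∈ Q, g = u * u}

theorem sqSub_le (Q : Subgroup Ω) : sqSub Q ≤ Q := by
  unfold sqSub
  rw [Subgroup.closure_le]
  rintro g ⟨u, hu, rfl⟩
  exact Q.mul_mem hu hu

theorem sqSub_abelian {Q : Subgroup Ω} (hQ : ∀ a ∈ Q, ∀ b ∈ Q, a * b = b * a) {g : Ω}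
    (hg : g ∈ sqSub Q) : ∃ w ∈ Q, g = w * w := by
  unfold sqSub at hg
  induction hg using Subgroup.closure_induction with
  | mem x hx => exact hx
  | one => exact ⟨1, Q.one_mem, by rw [mul_one]⟩
  | mul x y _ _ hx hy =>
    obtain ⟨w, hw, rfl⟩ := hx
    obtain ⟨w', hw', rfl⟩ := hy
    refine ⟨w * w', Q.mul_mem hw hw', ?_⟩
    rw [mul_assoc w w', ← mul_assoc w' w w', hQ w' hw' w hw]
    simp only [mul_assoc]
  | inv x _ hx =>
    obtain ⟨w, hw, rfl⟩ := hx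
    exact ⟨w⁻¹, Q.inv_mem hw, by rw [mul_inv_rev]⟩

theorem aut_sqSub_mem {R Q : Subgroup Ω} (hQR : Q ≤ R) (α : MulAut R)
    (hαQ : ∀ r : R, (r : Ω) ∈ Q → ((α r : R) : Ω) ∈ Q) :
    ∀ r : R, (r : Ω) ∈ sqSub Q → ((α r : R) : Ω) ∈ sqSub Q := by
  have key : ∀ g : Ω, g ∈ sqSub Q → ∀ hg : g ∈ R, ((α ⟨g, hg⟩ : R) : Ω) ∈ sqSub Q := by
    intro g hg
    unfold sqSub at hg
    induction hg using Subgroup.closure_induction with
    | mem x hx =>
      obtain ⟨u, hu, rfl⟩ := hx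
      intro hg
      have e : (⟨u * u, hg⟩ : R) = ⟨u, hQR hu⟩ * ⟨u, hQR hu⟩ := Subtype.ext rfl
      rw [e, map_mul]
      exact Subgroup.subset_closure ⟨_, hαQ ⟨u, hQR hu⟩ hu, rfl⟩
    | one =>
      intro hg
      have e : (⟨1, hg⟩ : R) = 1 := Subtype.ext rfl
      rw [e, map_one]
      exact Subgroup.one_mem _
    | mul x y hx hy ihx ihy =>
      intro hg
      have hxR : x ∈ R := hQR (sqSub_le Q hx)
      have hyR : y ∈ R := hQR (sqSub_le Q hy)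
      have e : (⟨x * y, hg⟩ : R) = ⟨x, hxR⟩ * ⟨y, hyR⟩ := Subtype.ext rfl
      rw [e, map_mul]
      exact Subgroup.mul_mem _ (ihx hxR) (ihy hyR)
    | inv x hx ihx =>
      intro hg
      have hxR : x ∈ R := hQR (sqSub_le Q hx)
      have e : (⟨x⁻¹, hg⟩ : R) = (⟨x, hxR⟩ : R)⁻¹ := Subtype.ext rfl
      rw [e, map_inv]
      exact Subgroup.inv_mem _ (ihx hxR)
  intro r hr
  exact key r hr r.2

/-- An automorphism of odd order of the 2-group `R` acting trivially on `R / Q` and trivially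
modulo squares on the abelian subgroup `Q` fixes `Q` pointwise. -/
theorem fix_of_abelian {R Q : Subgroup Ω} [Finite R] (hR : IsPGroup 2 R) (hQR : Q ≤ R)
    (hQ : ∀ a ∈ Q, ∀ b ∈ Q, a * b = b * a)
    (γ : MulAut R) (hγ : γ ∈ stabSub R Q (sqSub Q)) (k : ℕ) (hk : Odd k) (hγk : γ ^ k = 1) :
    ∀ r : R, (r : Ω) ∈ Q → γ r = r := by
  haveI : Fact (Nat.Prime 2) := ⟨Nat.prime_two⟩
  obtain ⟨E, hE⟩ := IsPGroup.iff_card.mp hR
  have hexp : ∀ r : R, r ^ 2 ^ E = 1 := by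
    intro r
    rw [← hE]
    exact pow_card_eq_one'
  have key : ∀ d : ℕ, d ≤ E → ∀ u : R, (u : Ω) ∈ Q →
      γ (u ^ 2 ^ (E - d)) = u ^ 2 ^ (E - d) := by
    intro d
    induction d with
    | zero =>
      intro _ u _
      rw [Nat.sub_zero, hexp, map_one]
    | succ d ih =>
      intro hd u hu
      obtain ⟨w, hw, hwu⟩ := sqSub_abelian hQ (hγ.2 u hu)
      obtain ⟨j, hj⟩ : ∃ j, j = E - (d + 1) := ⟨_, rfl⟩
      have hj1 : E - d = j + 1 := by omega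
      rw [← hj]
      have hγu : γ u = u * ((⟨w, hQR hw⟩ : R) * ⟨w, hQR hw⟩) := by
        apply Subtype.ext
        show ((γ u : R) : Ω) = (u : Ω) * (w * w)
        rw [← hwu, mul_inv_cancel_left]
      have hcomm : Commute u ((⟨w, hQR hw⟩ : R) * ⟨w, hQR hw⟩) := by
        apply Subtype.ext
        exact hQ u hu (w * w) (Q.mul_mem hw hw)
      have hfixw := ih (by omega) (⟨w, hQR hw⟩ : R) hw
      rw [hj1] at hfixw
      have e1 : γ (u ^ 2 ^ j) = u ^ 2 ^ j * (⟨w, hQR hw⟩ : R) ^ 2 ^ (j + 1) := by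
        rw [map_pow, hγu, hcomm.mul_pow, ← pow_two, ← pow_mul, ← pow_succ']
      exact aut_fix_of_mul hR γ k hk hγk (u ^ 2 ^ j) ((⟨w, hQR hw⟩ : R) ^ 2 ^ (j + 1)) e1 hfixw
  intro r hr
  have h := key E le_rfl r hr
  rwa [Nat.sub_self, pow_zero, pow_one] at h

/-- the subgroup `Q ∪ xQ` -/
def extSub (Q : Subgroup Ω) (x : Ω) (hn : ∀ q ∈ Q, x * q * x⁻¹ ∈ Q)
    (hn' : ∀ q ∈ Q, x⁻¹ * q * x ∈ Q) (hxx : x * x ∈ Q) : Subgroup Ω where
  carrier := {g | g ∈ Q ∨ x⁻¹ * g ∈ Q}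
  one_mem' := Or.inl Q.one_mem
  mul_mem' := by
    rintro g h (hg | hg) (hh | hh)
    · exact Or.inl (Q.mul_mem hg hh)
    · refine Or.inr ?_
      have e : x⁻¹ * (g * h) = (x⁻¹ * g * x) * (x⁻¹ * h) := by group
      rw [e]
      exact Q.mul_mem (hn' g hg) hh
    · refine Or.inr ?_
      have e : x⁻¹ * (g * h) = (x⁻¹ * g) * h := by group
      rw [e]
      exact Q.mul_mem hg hh
    · refine Or.inl ?_
      have e : g * h = (x * (x⁻¹ * g) * x⁻¹) * (x * x) * (x⁻¹ * h) := by group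
      rw [e]
      exact Q.mul_mem (Q.mul_mem (hn _ hg) hxx) hh
  inv_mem' := by
    rintro g (hg | hg)
    · exact Or.inl (Q.inv_mem hg)
    · refine Or.inr ?_
      have e : x⁻¹ * g⁻¹ = (x * x)⁻¹ * (x * (x⁻¹ * g)⁻¹ * x⁻¹) := by group
      rw [e]
      exact Q.mul_mem (Q.inv_mem hxx) (hn _ (Q.inv_mem hg))

theorem mem_extSub (Q : Subgroup Ω) (x : Ω) (hn : ∀ q ∈ Q, x * q * x⁻¹ ∈ Q)
    (hn' : ∀ q ∈ Q, x⁻¹ * q * x ∈ Q) (hxx : x * x ∈ Q) (g : Ω) :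
    g ∈ extSub Q x hn hn' hxx ↔ g ∈ Q ∨ x⁻¹ * g ∈ Q := Iff.rfl

/-- in a homocyclic group of rank two and exponent `2 ^ n`, `n ≠ 1`, the elements of order at
most two are squares -/
theorem homocyclic_sq {X : Type*} [Group X] (n : ℕ) (hn : n ≠ 1)
    (e : X ≃* Multiplicative (ZMod (2 ^ n)) × Multiplicative (ZMod (2 ^ n))) (u : X)
    (hu : u * u = 1) : ∃ w : X, u = w * w := by
  have h1 : e u * e u = 1 := by rw [← map_mul, hu, map_one]
  have h2 : Multiplicative.toAdd (e u).1 + Multiplicative.toAdd (e u).1 = 0 :=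
    congrArg (fun z : Multiplicative (ZMod (2 ^ n)) × Multiplicative (ZMod (2 ^ n)) =>
      Multiplicative.toAdd z.1) h1
  have h3 : Multiplicative.toAdd (e u).2 + Multiplicative.toAdd (e u).2 = 0 :=
    congrArg (fun z : Multiplicative (ZMod (2 ^ n)) × Multiplicative (ZMod (2 ^ n)) =>
      Multiplicative.toAdd z.2) h1
  obtain ⟨α, hα⟩ := Meta2.zmod_half n hn _ h2
  obtain ⟨β, hβ⟩ := Meta2.zmod_half n hn _ h3
  refine ⟨e.symm (Multiplicative.ofAdd α, Multiplicative.ofAdd β), ?_⟩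
  apply e.injective
  rw [map_mul, MulEquiv.apply_symm_apply]
  apply Prod.ext
  · show (e u).1 = Multiplicative.ofAdd (α + α)
    rw [← hα]
    rfl
  · show (e u).2 = Multiplicative.ofAdd (β + β)
    rw [← hβ]
    rfl

/-- the finishing argument: an element of `P ∩ N(R)` acting on `R` as an element of a normal
2-subgroup of `Aut_F(R)` lies in the centric radical subgroup `R` -/
theorem finish {S : Subgroup Ω} [Finite S] (hS : IsPGroup 2 S) (F : FusionSystem S)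
    {P R : Subgroup Ω} (hP : F.StronglyClosed P) (hc : F.IsCentric R) (hr : F.IsRadical 2 R)
    {x : Ω} (hxP : x ∈ P) (hxN : x ∈ Subgroup.normalizer (R : Set Ω))
    (Y : Subgroup Ω)
    (hYinv : ∀ α ∈ F.autGroup R, ∀ r : R, (r : Ω) ∈ Y → ((α r : R) : Ω) ∈ Y)
    (hY : ∀ q ∈ R ⊓ P, q⁻¹ * (x * q * x⁻¹) ∈ Y)
    (hfix : ∀ γ ∈ stabSub R (R ⊓ P) Y ⊓ F.autGroup R, ∀ k : ℕ, Odd k → γ ^ k = 1 →
      ∀ r : R, (r : Ω) ∈ R ⊓ P → γ r = r) : x ∈ R := by
  have hRS : R ≤ S := hc.1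
  have hPS : P ≤ S := hP.1
  haveI : Finite R := Finite.of_injective _ (Subgroup.inclusion_injective hRS)
  have hR2 : IsPGroup 2 R := hS.to_le hRS
  have hxS : x ∈ S := hPS hxP
  have hBp : IsPGroup 2 ↥(stabSub R (R ⊓ P) Y ⊓ F.autGroup R) :=
    stabSub_isPGroup hR2 _ inf_le_left hfix
  have hBn : ∀ α ∈ F.autGroup R, ∀ β ∈ stabSub R (R ⊓ P) Y ⊓ F.autGroup R,
      α * β * α⁻¹ ∈ stabSub R (R ⊓ P) Y ⊓ F.autGroup R := by
    intro α hα β hβ
    have hα' : α⁻¹ ∈ F.autGroup R := (F.autGroup R).inv_mem hα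
    refine ⟨stabSub_conj_mem ?_ ?_ (hYinv α hα) hβ.1,
      (F.autGroup R).mul_mem ((F.autGroup R).mul_mem hα hβ.2) hα'⟩
    · intro r hr'
      exact ⟨(α r).2, stronglyClosed_aut_mem F hP hRS hα r hr'.2⟩
    · intro r hr'
      exact ⟨(α⁻¹ r).2, stronglyClosed_aut_mem F hP hRS hα' r hr'.2⟩
  have hmem : conjAut R x hxN ∈ stabSub R (R ⊓ P) Y ⊓ F.autGroup R := by
    refine ⟨conjAut_mem_stabSub hxN hxP ?_ hY,
      autInducedBy_le_autGroup F hRS (conjAut_mem_autInducedBy S R hxS hxN)⟩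
    intro r hr' t ht
    exact stronglyClosed_conj_mem' F hP (hRS hr') ht
  exact mem_of_conjAut_mem_normal_pSubgroup F hc hr _ inf_le_right hBn hBp hxS hxN hmem

/-- in the four-group case: `x` centralizes `Q` -/
theorem klein_case {P R : Subgroup Ω} [Finite P] (hP2 : IsPGroup 2 P)
    (hm : Cfsg.IsMetacyclic ↥P) (hd : ¬ ∃ m : ℕ, Nonempty (↥P ≃* DihedralGroup m))
    (hsd : ¬ Cfsg.IsQuasiDihedral ↥P)
    (e : ↥(R ⊓ P) ≃* Multiplicative (ZMod (2 ^ 1)) × Multiplicative (ZMod (2 ^ 1)))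
    (hQab : ∀ a ∈ R ⊓ P, ∀ b ∈ R ⊓ P, a * b = b * a)
    {x : Ω} (hxP : x ∈ P) (hxR : x ∉ R) (hxQ : ∀ q ∈ R ⊓ P, x * q * x⁻¹ ∈ R ⊓ P)
    (hxxQ : x * x ∈ R ⊓ P) :
    ∀ q ∈ R ⊓ P, x * q * x⁻¹ = q := by
  haveI hQfin : Finite ↥(R ⊓ P) := Finite.of_injective _ (Subgroup.inclusion_injective
    (inf_le_right : R ⊓ P ≤ P))
  have hcard : Nat.card ↥(R ⊓ P) = 4 := by
    rw [Nat.card_congr e.toEquiv, Nat.card_prod]
    show Nat.card (ZMod (2 ^ 1)) * Nat.card (ZMod (2 ^ 1)) = 4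
    rw [Nat.card_zmod]
    norm_num
  have hexp : ∀ q ∈ R ⊓ P, q * q = 1 := by
    intro q hq
    have h1 : (⟨q, hq⟩ : ↥(R ⊓ P)) * ⟨q, hq⟩ = 1 := by
      apply e.injective
      rw [map_mul, map_one]
      have hz : ∀ a : ZMod (2 ^ 1), a + a = 0 := by decide
      apply Prod.ext
      · exact hz (Multiplicative.toAdd (e ⟨q, hq⟩).1)
      · exact hz (Multiplicative.toAdd (e ⟨q, hq⟩).2)
    exact congrArg Subtype.val h1
  by_contra hcon
  push Not at hcon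
  obtain ⟨v, hv, hvx⟩ := hcon
  obtain ⟨v', hv'⟩ : ∃ v', v' = x * v * x⁻¹ := ⟨_, rfl⟩
  rw [← hv'] at hvx
  have hv'Q : v' ∈ R ⊓ P := by rw [hv']; exact hxQ v hv
  obtain ⟨w, hw⟩ : ∃ w, w = v * v' := ⟨_, rfl⟩
  have hwQ : w ∈ R ⊓ P := by rw [hw]; exact (R ⊓ P).mul_mem hv hv'Q
  have hvv : v * v = 1 := hexp v hv
  have hv'v' : v' * v' = 1 := hexp v' hv'Q
  have hww : w * w = 1 := hexp w hwQ
  have hv1 : v ≠ 1 := by
    intro h
    apply hvx
    rw [hv', h, mul_one, mul_inv_cancel]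
  have hv'1 : v' ≠ 1 := by
    intro h
    apply hv1
    rw [hv'] at h
    have h2 : v = x⁻¹ * (x * v * x⁻¹) * x := by group
    rw [h2, h]
    group
  have hw1 : w ≠ 1 := by
    intro h
    apply hvx
    rw [hw] at h
    have h2 : v' = v⁻¹ := eq_inv_of_mul_eq_one_right h
    rw [h2]
    exact inv_eq_of_mul_eq_one_left hvv
  have hwv : w ≠ v := by
    intro h
    apply hv'1
    rw [hw] at h
    exact mul_left_cancel (a := v) (by rw [h, mul_one])
  have hwv' : w ≠ v' := by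
    intro h
    apply hv1
    rw [hw] at h
    exact mul_right_cancel (b := v') (by rw [h, one_mul])
  have hs : x * (x * x) * x⁻¹ = x * x := by group
  have hxv' : x * v' * x⁻¹ = v := by
    rw [hv']
    have h1 : x * (x * v * x⁻¹) * x⁻¹ = (x * x) * v * (x * x)⁻¹ := by group
    rw [h1, hQab (x * x) hxxQ v hv, mul_inv_cancel_right]
  have hfour := Meta2.four_exhaust hcard (1 : ↥(R ⊓ P)) ⟨v, hv⟩ ⟨v', hv'Q⟩ ⟨w, hwQ⟩
    (fun h => hv1 (congrArg Subtype.val h).symm)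
    (fun h => hv'1 (congrArg Subtype.val h).symm)
    (fun h => hw1 (congrArg Subtype.val h).symm)
    (fun h => hvx (congrArg Subtype.val h).symm)
    (fun h => hwv (congrArg Subtype.val h).symm)
    (fun h => hwv' (congrArg Subtype.val h).symm) ⟨x * x, hxxQ⟩
  have hinv : ∃ g ∈ P, g ∉ R ∧ g * g = 1 := by
    rcases hfour with h | h | h | h
    · exact ⟨x, hxP, hxR, congrArg Subtype.val h⟩
    · exfalso
      have h' : x * x = v := congrArg Subtype.val h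
      apply hvx
      rw [hv', ← h']
      exact hs
    · exfalso
      have h' : x * x = v' := congrArg Subtype.val h
      apply hvx
      rw [← hxv', ← h']
      exact hs.symm
    · have h' : x * x = w := congrArg Subtype.val h
      refine ⟨x * v, P.mul_mem hxP hv.2, ?_, ?_⟩
      · intro hR
        apply hxR
        have h2 : x = (x * v) * v⁻¹ := by group
        rw [h2]
        exact R.mul_mem hR (R.inv_mem hv.1)
      · have h1 : x * v * (x * v) = (x * v * x⁻¹) * (x * x) * v := by group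
        rw [h1, ← hv', h', hw]
        have h2 : v' * (v * v') * v = (v' * v) * (v' * v) := by group
        rw [h2]
        exact hexp _ ((R ⊓ P).mul_mem hv'Q hv)
  obtain ⟨g, hgP, hgR, hgg⟩ := hinv
  have hg1 : g ≠ 1 := fun h => hgR (h ▸ R.one_mem)
  have hgne : ∀ t ∈ R ⊓ P, t ≠ g := fun t ht h => hgR (h ▸ ht.1)
  have hfin := Meta2.dih_or_qd hP2 hm (⟨v, hv.2⟩ : P) ⟨v', hv'Q.2⟩ ⟨w, hwQ.2⟩ ⟨g, hgP⟩
    (Subtype.ext hvv) (Subtype.ext hv'v') (Subtype.ext hww) (Subtype.ext hgg)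
    (fun h => hv1 (congrArg Subtype.val h))
    (fun h => hv'1 (congrArg Subtype.val h))
    (fun h => hw1 (congrArg Subtype.val h))
    (fun h => hg1 (congrArg Subtype.val h))
    (fun h => hvx (congrArg Subtype.val h).symm)
    (fun h => hwv (congrArg Subtype.val h).symm)
    (fun h => hgne v hv (congrArg Subtype.val h))
    (fun h => hwv' (congrArg Subtype.val h).symm)
    (fun h => hgne v' hv'Q (congrArg Subtype.val h))
    (fun h => hgne w hwQ (congrArg Subtype.val h))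
  rcases hfin with h | h
  · exact hd h
  · exact hsd h

/-- A strongly closed metacyclic subgroup of a saturated fusion system over a 2-group which is
not dihedral, semidihedral or generalized quaternion is normal in the system. -/
theorem normal_of_metacyclic {S : Subgroup Ω} [Finite S] (hS : IsPGroup 2 S)
    (F : FusionSystem S) (hF : F.IsSaturated 2) (P : Subgroup Ω) (hP : F.StronglyClosed P)
    (hm : Cfsg.IsMetacyclic ↥P) (hd : ¬ ∃ m : ℕ, Nonempty (↥P ≃* DihedralGroup m))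
    (hq : ¬ ∃ m : ℕ, Nonempty (↥P ≃* QuaternionGroup m)) (hsd : ¬ Cfsg.IsQuasiDihedral ↥P) :
    F.IsNormal P := by
  haveI : Fact (Nat.Prime 2) := ⟨Nat.prime_two⟩
  rw [Cfsg.Agent.S5086.result 2 hS F hF P]
  refine ⟨hP, fun R hc hr => ?_⟩
  by_contra hPR
  have hRS : R ≤ S := hc.1
  have hPS : P ≤ S := hP.1
  haveI hRfin : Finite R := Finite.of_injective _ (Subgroup.inclusion_injective hRS)
  haveI hPfin : Finite P := Finite.of_injective _ (Subgroup.inclusion_injective hPS)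
  have hR2 : IsPGroup 2 R := hS.to_le hRS
  have hP2 : IsPGroup 2 P := hS.to_le hPS
  obtain ⟨x₀, hx₀P, hx₀N, hx₀R⟩ :=
    exists_mem_normalizer_not_mem hS hPS (stronglyClosed_le_normalizer F hP) hRS hPR
  obtain ⟨N, hN⟩ := hP2 ⟨x₀, hx₀P⟩
  have hN' : x₀ ^ 2 ^ N = 1 := by
    have h := congrArg Subtype.val hN
    simpa using h
  obtain ⟨j, hjR, hjR2⟩ := Meta2.exists_sq_mem R N x₀ hN' hx₀R
  obtain ⟨x, hx⟩ : ∃ x, x = x₀ ^ 2 ^ j := ⟨_, rfl⟩
  rw [← hx] at hjR hjR2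
  have hxP : x ∈ P := by rw [hx]; exact P.pow_mem hx₀P _
  have hxN : x ∈ Subgroup.normalizer (R : Set Ω) := by
    rw [hx]; exact Subgroup.pow_mem _ hx₀N _
  apply hjR
  have hxS : x ∈ S := hPS hxP
  have hQR : R ⊓ P ≤ R := inf_le_left
  have hQP : R ⊓ P ≤ P := inf_le_right
  haveI hQfin : Finite ↥(R ⊓ P) := Finite.of_injective _ (Subgroup.inclusion_injective hQR)
  have hQ2 : IsPGroup 2 ↥(R ⊓ P) := hR2.to_le hQR
  have hQm : Cfsg.IsMetacyclic ↥(R ⊓ P) :=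
    Meta2.metacyclic_of_injective (Subgroup.inclusion hQP) (Subgroup.inclusion_injective hQP) hm
  have hxQ : ∀ q ∈ R ⊓ P, x * q * x⁻¹ ∈ R ⊓ P := by
    intro q hq
    exact ⟨(Subgroup.mem_normalizer_iff.mp hxN q).mp hq.1, stronglyClosed_conj_mem F hP hxS hq.2⟩
  have hxQ' : ∀ q ∈ R ⊓ P, x⁻¹ * q * x ∈ R ⊓ P := by
    intro q hq
    refine ⟨?_, stronglyClosed_conj_mem' F hP hxS hq.2⟩
    have h := (Subgroup.mem_normalizer_iff.mp (Subgroup.inv_mem _ hxN) q).mp hq.1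
    rwa [inv_inv] at h
  have hxxQ : x * x ∈ R ⊓ P := ⟨hjR2, P.mul_mem hxP hxP⟩
  have hautQ : ∀ α ∈ F.autGroup R, ∀ r : R, (r : Ω) ∈ R ⊓ P → ((α r : R) : Ω) ∈ R ⊓ P := by
    intro α hα r hr'
    exact ⟨(α r).2, stronglyClosed_aut_mem F hP hRS hα r hr'.2⟩
  by_cases hA : IsPGroup 2 (MulAut ↥(R ⊓ P))
  · refine finish hS F hP hc hr hxP hxN (R ⊓ P) hautQ ?_ ?_
    · intro q hq
      exact (R ⊓ P).mul_mem ((R ⊓ P).inv_mem hq) (hxQ q hq)
    · intro γ hγ k hk hγk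
      exact fix_of_aut_pgroup hQR hA γ (fun r hr' => stabSub_map_mem hγ.1 r hr')
        (fun r hr' => stabSub_map_mem ((stabSub R (R ⊓ P) (R ⊓ P)).inv_mem hγ.1) r hr')
        k hk hγk
  · rcases Cfsg.Agent.S1896.result hQ2 hQm hA with ⟨⟨e⟩⟩ | ⟨n, ⟨e⟩⟩
    · exfalso
      obtain ⟨i, j, h1, h2, h3, h4⟩ := Meta2.quat_elems e
      have hfin := Meta2.quat_or_qd hP2 hm (Subgroup.inclusion hQP i) (Subgroup.inclusion hQP j)
        (by rw [← map_mul, ← map_mul, h1])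
        (by
          intro h
          apply h2
          apply Subgroup.inclusion_injective hQP
          rw [map_mul, map_one]
          exact h)
        (by rw [← map_mul, ← map_mul, h3, map_one])
        (by rw [← map_inv, ← map_mul, ← map_mul, h4, map_inv])
      rcases hfin with h | h
      · exact hq h
      · exact hsd h
    · have hQab : ∀ a ∈ R ⊓ P, ∀ b ∈ R ⊓ P, a * b = b * a := by
        intro a ha b hb
        have h1 : (⟨a, ha⟩ : ↥(R ⊓ P)) * ⟨b, hb⟩ = ⟨b, hb⟩ * ⟨a, ha⟩ := by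
          apply e.injective
          rw [map_mul, map_mul, mul_comm]
        exact congrArg Subtype.val h1
      have hxsq : ∀ q ∈ R ⊓ P, ∃ w ∈ R ⊓ P, x * q * x⁻¹ = q * (w * w) := by
        by_cases hn : n = 1
        · subst hn
          intro q hq
          refine ⟨1, (R ⊓ P).one_mem, ?_⟩
          rw [mul_one, mul_one]
          exact klein_case hP2 hm hd hsd e hQab hxP hjR hxQ hxxQ q hq
        · have hQT : R ⊓ P ≤ extSub (R ⊓ P) x hxQ hxQ' hxxQ := fun g hg => Or.inl hg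
          have hTP : extSub (R ⊓ P) x hxQ hxQ' hxxQ ≤ P := by
            rintro g (hg | hg)
            · exact hg.2
            · have h2 : g = x * (x⁻¹ * g) := by group
              rw [h2]
              exact P.mul_mem hxP hg.2
          have hxT : x ∈ extSub (R ⊓ P) x hxQ hxQ' hxxQ :=
            Or.inr (by rw [inv_mul_cancel]; exact (R ⊓ P).one_mem)
          haveI hTfin : Finite ↥(extSub (R ⊓ P) x hxQ hxQ' hxxQ) :=
            Finite.of_injective _ (Subgroup.inclusion_injective hTP)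
          have hT2 : IsPGroup 2 ↥(extSub (R ⊓ P) x hxQ hxQ' hxxQ) := hP2.to_le hTP
          have hTm : Cfsg.IsMetacyclic ↥(extSub (R ⊓ P) x hxQ hxQ' hxxQ) :=
            Meta2.metacyclic_of_injective (Subgroup.inclusion hTP)
              (Subgroup.inclusion_injective hTP) hm
          have hmain := Meta2.hom_sq hT2 hTm
            ((R ⊓ P).subgroupOf (extSub (R ⊓ P) x hxQ hxQ' hxxQ))
            (fun a ha b hb => Subtype.ext (hQab a ha b hb)) ⟨x, hxT⟩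
            (fun g => by
              rcases g.2 with h | h
              · exact Or.inl h
              · exact Or.inr h)
            (fun u hu huu => by
              have h1 : ((u : Ω) : Ω) * (u : Ω) = 1 := congrArg Subtype.val huu
              obtain ⟨w, hw⟩ := homocyclic_sq n hn e ⟨(u : Ω), hu⟩ (Subtype.ext h1)
              have h2 : ((u : Ω) : Ω) = (w : Ω) * (w : Ω) := congrArg Subtype.val hw
              exact ⟨⟨w, hQT w.2⟩, w.2, Subtype.ext h2⟩)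
          intro q hq
          obtain ⟨w, hw, hwq⟩ := hmain ⟨q, hQT hq⟩ hq
          exact ⟨w, hw, congrArg Subtype.val hwq⟩
      refine finish hS F hP hc hr hxP hxN (sqSub (R ⊓ P))
        (fun α hα => aut_sqSub_mem hQR α (hautQ α hα)) ?_ ?_
      · intro q hq
        obtain ⟨w, hw, hwq⟩ := hxsq q hq
        rw [hwq, inv_mul_cancel_left]
        exact Subgroup.subset_closure ⟨w, hw, rfl⟩
      · intro γ hγ k hk hγk
        exact fix_of_abelian hR2 hQR hQab γ hγ.1 k hk hγk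

end Meta2F

end Cfsg.Agent.Lib.Helper42
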