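import Mathlib
import Cfsg.Agent.Lib.Helper42.MetaSupCh
import Cfsg.Agent.Lib.Helper84.AbelEss
import Cfsg.Agent.Lib.Helper1.FrattiniAut
import Cfsg.Agent.Lib.Helper42.Meta2

set_option autoImplicit false

namespace Cfsg.Agent.Lib.Helper42.MetaSup

open Cfsg Cfsg.Agent.Lib

/-- an abelian `p`-group with Frattini quotient of order at most `p²` without an invariant
chain through the Frattini subgroup is homocyclic of rank two. -/
theorem abelian_homocyclic_of_no_chain {H : Type*} [Group H] [Finite H] {p : ℕ} [Fact p.Prime]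
    (hH : IsPGroup p H) (hcomm : ∀ a b : H, a * b = b * a) (A : Subgroup (MulAut H))
    (hnc : ∀ L : Subgroup H, frattini H ≤ L → (∀ α ∈ A, ∀ x ∈ L, α x ∈ L) →
      (frattini H).relIndex L ∣ p → L.index ∣ p → False)
    (hidx : (frattini H).index ∣ p ^ 2) :
    ∃ a : ℕ, 1 ≤ a ∧ Nonempty (H ≃* Multiplicative (ZMod (p ^ a) × ZMod (p ^ a))) := by
  classical
  have hp : p.Prime := Fact.out
  have hΦ : (frattini H).index = p ^ 2 := by
    obtain ⟨n, hn2, hn⟩ := (Nat.dvd_prime_pow hp).1 hidx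
    have h1 : ¬ (frattini H).index ∣ p := fun h =>
      hnc (frattini H) le_rfl (fun α _ x hx => (Helper84.aut_mem_frattini α).2 hx)
        (by rw [Subgroup.relIndex_self]; exact one_dvd _) h
    rw [hn] at h1 ⊢
    have h3 : ¬ n ≤ 1 := by
      intro h
      apply h1
      calc p ^ n ∣ p ^ 1 := pow_dvd_pow p h
        _ = p := pow_one p
    have h4 : n = 2 := by omega
    rw [h4]
  have hex : ∃ n : ℕ, ∀ x : H, x ^ (p ^ n) = 1 := by
    obtain ⟨n, hn⟩ := (IsPGroup.iff_card).1 hH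
    exact ⟨n, fun x => by rw [← hn]; exact pow_card_eq_one'⟩
  have ha := Nat.find_spec hex
  have hmin := fun m => Nat.find_min hex (m := m)
  generalize Nat.find hex = a at ha hmin
  have ha1 : 1 ≤ a := by
    by_contra h
    have h0 : a = 0 := by omega
    rw [h0] at ha
    have hsub : Subsingleton H := ⟨fun x y => by
      have h1 := ha x
      have h2 := ha y
      rw [pow_zero, pow_one] at h1 h2
      rw [h1, h2]⟩
    have h3 : (frattini H).index = 1 := by
      rw [Subgroup.index_eq_one]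
      exact Subsingleton.elim _ _
    rw [h3] at hΦ
    have h4 : 1 < p ^ 2 := Nat.one_lt_pow (by norm_num) hp.one_lt
    omega
  have hΦL : frattini H ≤ Helper84.omegaSub hcomm (p ^ (a - 1)) := by
    intro x hx
    obtain ⟨y, rfl⟩ := Helper84.exists_pow_of_mem_frattini (p := p) hcomm hx
    rw [Helper84.mem_omegaSub, ← pow_mul, ← pow_succ']
    have h1 : a - 1 + 1 = a := by omega
    rw [h1]
    exact ha y
  have hLne : Helper84.omegaSub hcomm (p ^ (a - 1)) ≠ ⊤ := by
    intro h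
    apply hmin (a - 1) (by omega)
    intro x
    have h1 : x ∈ Helper84.omegaSub hcomm (p ^ (a - 1)) := by rw [h]; exact Subgroup.mem_top x
    exact h1
  have hLA : ∀ α ∈ A, ∀ x ∈ Helper84.omegaSub hcomm (p ^ (a - 1)),
      α x ∈ Helper84.omegaSub hcomm (p ^ (a - 1)) := by
    intro α _ x hx
    rw [Helper84.mem_omegaSub] at hx ⊢
    rw [← map_pow, hx, map_one]
  have hrel := Subgroup.relIndex_mul_index hΦL
  rw [hΦ] at hrel
  have hdvd : (Helper84.omegaSub hcomm (p ^ (a - 1))).index ∣ p ^ 2 :=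
    ⟨_, by rw [← hrel, mul_comm]⟩
  obtain ⟨i, hi, hidx'⟩ := (Nat.dvd_prime_pow hp).1 hdvd
  have hi0 : i ≠ 0 := by
    intro h
    rw [h, pow_zero, Subgroup.index_eq_one] at hidx'
    exact hLne hidx'
  have hi2 : i = 2 := by
    by_contra h
    have hi1 : i = 1 := by omega
    rw [hi1, pow_one] at hidx'
    rw [hidx'] at hrel
    have h5 : (frattini H).relIndex (Helper84.omegaSub hcomm (p ^ (a - 1))) = p := by
      have h6 : (frattini H).relIndex (Helper84.omegaSub hcomm (p ^ (a - 1))) * p = p * p := by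
        rw [hrel]; ring
      exact Nat.eq_of_mul_eq_mul_right hp.pos h6
    exact hnc _ hΦL hLA (by rw [h5]) (by rw [hidx'])
  rw [hi2] at hidx'
  rw [hidx'] at hrel
  have h7 : (frattini H).relIndex (Helper84.omegaSub hcomm (p ^ (a - 1))) = 1 := by
    have h8 : (frattini H).relIndex (Helper84.omegaSub hcomm (p ^ (a - 1))) * p ^ 2
        = 1 * p ^ 2 := by
      rw [hrel]; ring
    exact Nat.eq_of_mul_eq_mul_right (pow_pos hp.pos 2) h8
  have hLΦ : Helper84.omegaSub hcomm (p ^ (a - 1)) ≤ frattini H := Subgroup.relIndex_eq_one.1 h7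
  have hΦeq : ∀ x : H, x ∈ frattini H ↔ x ^ (p ^ (a - 1)) = 1 :=
    fun x => ⟨fun hx => hΦL hx, fun hx => hLΦ hx⟩
  refine ⟨a, ha1, ?_⟩
  obtain ⟨x, y, hgen, hxy⟩ := Helper84.exists_basis_mod_frattini hH hcomm hΦ
  have key : ∀ e : ℕ, e ≤ a → ∀ i j : ℕ, x ^ i * y ^ j = 1 → p ^ e ∣ i ∧ p ^ e ∣ j := by
    intro e
    induction e with
    | zero => intro _ i j _; simp
    | succ e ih =>
      intro he i j hij
      obtain ⟨⟨i', rfl⟩, ⟨j', rfl⟩⟩ := ih (by omega) i j hij
      have hc : Commute (x ^ i') (y ^ j') := hcomm _ _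
      have h1 : (x ^ i' * y ^ j') ^ (p ^ e) = 1 := by
        rw [hc.mul_pow, ← pow_mul, ← pow_mul, mul_comm i', mul_comm j']
        exact hij
      have h2 : x ^ i' * y ^ j' ∈ frattini H := by
        rw [hΦeq]
        have e2 : p ^ (a - 1) = p ^ e * p ^ (a - 1 - e) := by
          rw [← pow_add]
          congr 1
          omega
        rw [e2, pow_mul, h1, one_pow]
      obtain ⟨h3, h4⟩ := hxy _ _ h2
      rw [pow_succ]
      exact ⟨Nat.mul_dvd_mul_left _ h3, Nat.mul_dvd_mul_left _ h4⟩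
  haveI : NeZero (p ^ a) := ⟨pow_ne_zero _ hp.ne_zero⟩
  obtain ⟨e, -⟩ := Helper84.nonempty_mulEquiv_prod_zmod hcomm (p ^ a) x y (ha x) (ha y) hgen
    (key a le_rfl)
  exact ⟨e.symm⟩

/-- a metacyclic group is generated by two elements -/
theorem metacyclic_two_gen {G : Type*} [Group G] (hm : Cfsg.IsMetacyclic G) :
    ∃ a b : G, Subgroup.closure ({a, b} : Set G) = ⊤ := by
  obtain ⟨a, hn, hc⟩ := Meta2.meta_data hm
  obtain ⟨g, hg⟩ := hc.exists_generator
  obtain ⟨b, rfl⟩ := QuotientGroup.mk_surjective g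
  refine ⟨a, b, ?_⟩
  rw [eq_top_iff]
  intro x _
  obtain ⟨k, hk⟩ := Subgroup.mem_zpowers_iff.mp (hg (QuotientGroup.mk x))
  have h1 : (b ^ k)⁻¹ * x ∈ Subgroup.zpowers a := by
    rw [← QuotientGroup.eq]
    exact hk
  have ha : a ∈ Subgroup.closure ({a, b} : Set G) := Subgroup.subset_closure (by simp)
  have hb : b ∈ Subgroup.closure ({a, b} : Set G) := Subgroup.subset_closure (by simp)
  have h2 : (b ^ k)⁻¹ * x ∈ Subgroup.closure ({a, b} : Set G) :=
    (Subgroup.zpowers_le.mpr ha) h1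
  have h3 := Subgroup.mul_mem _ (Subgroup.zpow_mem _ hb k) h2
  rwa [mul_inv_cancel_left] at h3

/-- condition (b) for abelian metacyclic groups which are not homocyclic -/
theorem abelian_b {S : Type*} [Group S] [Finite S] {p : ℕ} [Fact p.Prime]
    (hS : IsPGroup p S) (hm : Cfsg.IsMetacyclic S) (hcomm : ∀ a b : S, a * b = b * a)
    (hh : ¬ ∃ n : ℕ, 0 < n ∧
      Nonempty (S ≃* Multiplicative (ZMod (p ^ n)) × Multiplicative (ZMod (p ^ n))))
    (H : Subgroup (MulAut S)) (hH : (Nat.card H).Coprime p) :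
    (∀ x ∈ H, ∀ y ∈ H, x * y = y * x) ∧ ∀ h ∈ H, h ^ (p - 1) = 1 := by
  by_contra hcon
  obtain ⟨a, b, hgen⟩ := metacyclic_two_gen hm
  have hidx := Helper1.frattini_index_dvd_sq_of_two_generated p hS a b hgen
  obtain ⟨n, hn, ⟨e⟩⟩ := abelian_homocyclic_of_no_chain hS hcomm H
    (fun L hΦL hLH h1 h2 => hcon (comm_of_chain hS H hH L hΦL hLH h1 h2)) hidx
  exact hh ⟨n, hn, ⟨e.trans (MulEquiv.prodMultiplicative _ _)⟩⟩

end Cfsg.Agent.Lib.Helper42.MetaSup
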