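import Mathlib
import Cfsg.Agent.Lib.Helper42.MetaSupCh
import Cfsg.Agent.Lib.Helper42.Meta2
import Cfsg.Agent.S1447

set_option autoImplicit false

namespace Cfsg.Agent.Lib.Helper42.MetaSup

open Cfsg Cfsg.Agent.Lib
open scoped commutatorElement

/-- condition (b) for non-abelian metacyclic `p`-groups, `p` odd -/
theorem nonabelian_b {S : Type*} [Group S] [Finite S] {p : ℕ} [Fact p.Prime] (hp2 : p ≠ 2)
    (hS : IsPGroup p S) (hm : Cfsg.IsMetacyclic S) (hnc : ¬ ∀ a b : S, a * b = b * a)
    (H : Subgroup (MulAut S)) (hH : (Nat.card H).Coprime p) :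
    (∀ x ∈ H, ∀ y ∈ H, x * y = y * x) ∧ ∀ h ∈ H, h ^ (p - 1) = 1 := by
  classical
  have hp : p.Prime := Fact.out
  haveI : Finite (S ⋊[H.subtype] H) := Finite.of_equiv _ SemidirectProduct.equivProd.symm
  obtain ⟨R, hR⟩ : ∃ R : Subgroup (S ⋊[H.subtype] H),
      R = (SemidirectProduct.inl : S →* S ⋊[H.subtype] H).range := ⟨_, rfl⟩
  obtain ⟨A, hA⟩ : ∃ A : Subgroup (S ⋊[H.subtype] H),
      A = (SemidirectProduct.inr : H →* S ⋊[H.subtype] H).range := ⟨_, rfl⟩
  obtain ⟨eR⟩ : Nonempty (S ≃* R) :=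
    ⟨(MonoidHom.ofInjective SemidirectProduct.inl_injective).trans
      (MulEquiv.subgroupCongr hR.symm)⟩
  obtain ⟨eA⟩ : Nonempty (H ≃* A) :=
    ⟨(MonoidHom.ofInjective SemidirectProduct.inr_injective).trans
      (MulEquiv.subgroupCongr hA.symm)⟩
  have hRp : IsPGroup p R := hS.of_equiv eR
  have hRm : Cfsg.IsMetacyclic R :=
    Meta2.metacyclic_of_injective eR.symm.toMonoidHom eR.symm.injective hm
  haveI hRn : R.Normal := by
    rw [hR, SemidirectProduct.range_inl_eq_ker_rightHom]
    infer_instance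
  have hAN : A ≤ Subgroup.normalizer (R : Set (S ⋊[H.subtype] H)) := by
    rw [Subgroup.normalizer_eq_top]
    exact le_top
  have hcop : (Nat.card A).Coprime p := by
    rw [← Nat.card_congr eA.toEquiv]
    exact hH
  obtain ⟨-, hsup, -, hlast⟩ := Cfsg.Agent.S1447.result p hp2 R A hRp hRm hAN hcop
  have hinlR : ∀ s : S, (SemidirectProduct.inl s : S ⋊[H.subtype] H) ∈ R := by
    intro s
    rw [hR]
    exact ⟨s, rfl⟩
  have hinrA : ∀ h : H, (SemidirectProduct.inr h : S ⋊[H.subtype] H) ∈ A := by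
    intro h
    rw [hA]
    exact ⟨h, rfl⟩
  -- the action is faithful
  have faithful : ∀ h : H, (∀ r ∈ R, (SemidirectProduct.inr h : S ⋊[H.subtype] H) * r
      = r * SemidirectProduct.inr h) → h = 1 := by
    intro h hc
    apply Subtype.ext
    apply MulEquiv.ext
    intro s
    have h1 := SemidirectProduct.inl_aut (φ := H.subtype) h s
    have h2 := hc (SemidirectProduct.inl s) (hinlR s)
    rw [h2, map_inv, mul_inv_cancel_right] at h1
    exact SemidirectProduct.inl_injective h1
  by_cases hAC : A ≤ Subgroup.centralizer (R : Set (S ⋊[H.subtype] H))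
  · have htriv : ∀ h ∈ H, h = 1 := by
      intro h hh
      have h1 := faithful ⟨h, hh⟩ (fun r hr =>
        ((Subgroup.mem_centralizer_iff.mp (hAC (hinrA ⟨h, hh⟩))) r hr).symm)
      exact congrArg Subtype.val h1
    exact ⟨fun x hx y hy => by rw [htriv x hx, htriv y hy],
      fun h hh => by rw [htriv h hh, one_pow]⟩
  · have hRna : ¬ IsMulCommutative R := by
      intro hc
      apply hnc
      intro a b
      have h1 := hc.is_comm.comm (eR a) (eR b)
      rw [← map_mul, ← map_mul] at h1
      exact eR.injective h1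
    obtain ⟨-, hKc, -, -, -⟩ := hlast hRna hAC
    obtain ⟨K, hK⟩ : ∃ K : Subgroup (S ⋊[H.subtype] H), K = ⁅R, A⁆ := ⟨_, rfl⟩
    rw [← hK] at hsup hKc
    have hAK : A ≤ Subgroup.normalizer (K : Set (S ⋊[H.subtype] H)) := by
      rw [hK]
      exact Helper1.le_normalizer_commutator_right R A
    have hKR : K ≤ R := by
      rw [← hsup]
      exact le_sup_left
    have hKp : IsPGroup p K := hRp.to_le hKR
    -- the action of `H` on `K`
    obtain ⟨Ψ, hΨ⟩ : ∃ Ψ : H →* MulAut K, ∀ (h : H) (k : K),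
        ((Ψ h k : K) : S ⋊[H.subtype] H)
          = (SemidirectProduct.inr h : S ⋊[H.subtype] H) * (k : S ⋊[H.subtype] H)
            * (SemidirectProduct.inr h)⁻¹ :=
      ⟨(Subgroup.normalizerMonoidHom K).comp ((Subgroup.inclusion hAK).comp
        ((SemidirectProduct.inr : H →* S ⋊[H.subtype] H).codRestrict A hinrA)),
        fun h k => rfl⟩
    have hker : ∀ h : H, Ψ h = 1 → h = 1 := by
      intro h hh
      apply faithful
      have h1 : ∀ k ∈ K, (SemidirectProduct.inr h : S ⋊[H.subtype] H) * k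
          = k * SemidirectProduct.inr h := by
        intro k hk
        have h2 := hΨ h ⟨k, hk⟩
        rw [hh] at h2
        have h3 : k = SemidirectProduct.inr h * k * (SemidirectProduct.inr h)⁻¹ := h2
        calc (SemidirectProduct.inr h : S ⋊[H.subtype] H) * k
            = (SemidirectProduct.inr h * k * (SemidirectProduct.inr h)⁻¹)
              * SemidirectProduct.inr h := by group
          _ = k * SemidirectProduct.inr h := by rw [← h3]
      have hcent : R ≤ Subgroup.centralizer
          ({(SemidirectProduct.inr h : S ⋊[H.subtype] H)} : Set (S ⋊[H.subtype] H)) := by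
        rw [← hsup]
        apply sup_le
        · intro k hk
          rw [Subgroup.mem_centralizer_iff]
          rintro _ rfl
          exact h1 k hk
        · intro c hc
          rw [Subgroup.mem_centralizer_iff]
          rintro _ rfl
          exact Subgroup.mem_centralizer_iff.mp hc.2 _ (hinrA h)
      intro r hr
      exact (Subgroup.mem_centralizer_iff.mp (hcent hr)) _ rfl
    have := hKc
    constructor
    · intro x hx y hy
      have h1 : Ψ ((⟨x, hx⟩ : H) * ⟨y, hy⟩ * (⟨x, hx⟩ : H)⁻¹ * (⟨y, hy⟩ : H)⁻¹) = 1 := by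
        rw [map_mul, map_mul, map_mul, map_inv, map_inv,
          mulAut_comm_of_cyclic (Ψ ⟨x, hx⟩) (Ψ ⟨y, hy⟩)]
        group
      have h2 := congrArg Subtype.val (hker _ h1)
      have h3 : x * y * x⁻¹ * y⁻¹ = 1 := h2
      calc x * y = (x * y * x⁻¹ * y⁻¹) * (y * x) := by group
        _ = y * x := by rw [h3, one_mul]
    · intro h hh
      have hord1 : orderOf (Ψ ⟨h, hh⟩) ∣ Nat.card H :=
        (orderOf_map_dvd Ψ _).trans (orderOf_dvd_natCard _)
      have hord2 : orderOf (Ψ ⟨h, hh⟩) ∣ Nat.totient (Nat.card K) := by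
        rw [← IsCyclic.card_mulAut K]
        exact orderOf_dvd_natCard _
      obtain ⟨k, hk⟩ := IsPGroup.iff_card.mp hKp
      have hord3 : orderOf (Ψ ⟨h, hh⟩) ∣ p - 1 := by
        rw [hk] at hord2
        rcases Nat.eq_zero_or_pos k with h0 | hpos
        · rw [h0, pow_zero, Nat.totient_one] at hord2
          exact hord2.trans (one_dvd _)
        · obtain ⟨k', rfl⟩ : ∃ k', k = k' + 1 := ⟨k - 1, by omega⟩
          rw [Nat.totient_prime_pow_succ hp] at hord2
          have hc : (orderOf (Ψ ⟨h, hh⟩)).Coprime (p ^ k') :=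
            Nat.Coprime.pow_right k' (Nat.Coprime.coprime_dvd_left hord1 hH)
          exact hc.dvd_of_dvd_mul_left hord2
      have h1 : Ψ ((⟨h, hh⟩ : H) ^ (p - 1)) = 1 := by
        rw [map_pow]
        exact orderOf_dvd_iff_pow_eq_one.mp hord3
      exact congrArg Subtype.val (hker _ h1)

end Cfsg.Agent.Lib.Helper42.MetaSup
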