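import Mathlib
import Cfsg.Agent.Lib.Helper42.MetaSupAb
import Cfsg.Agent.Lib.Helper42.MetaSupNa
import Cfsg.Agent.Lib.Helper42.Meta2Fusion
import Cfsg.Agent.S1896
import Cfsg.Agent.S5086

set_option autoImplicit false

namespace Cfsg.Agent.Lib.Helper42.MetaSup

open Cfsg Cfsg.FusionSystem Cfsg.Agent.Lib

/-- condition (b) for metacyclic `p`-groups, `p` odd, which are not homocyclic -/
theorem odd_b {S : Type*} [Group S] [Finite S] {p : ℕ} [Fact p.Prime] (hp2 : p ≠ 2)
    (hS : IsPGroup p S) (hm : Cfsg.IsMetacyclic S)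
    (hh : ¬ ∃ n : ℕ, 0 < n ∧
      Nonempty (S ≃* Multiplicative (ZMod (p ^ n)) × Multiplicative (ZMod (p ^ n))))
    (H : Subgroup (MulAut S)) (hH : (Nat.card H).Coprime p) :
    IsMulCommutative H ∧ ∀ h ∈ H, h ^ (p - 1) = 1 := by
  have key : (∀ x ∈ H, ∀ y ∈ H, x * y = y * x) ∧ ∀ h ∈ H, h ^ (p - 1) = 1 := by
    by_cases hc : ∀ a b : S, a * b = b * a
    · exact abelian_b hS hm hc hh H hH
    · exact nonabelian_b hp2 hS hm hc H hH
  exact ⟨⟨⟨fun a b => Subtype.ext (key.1 a a.2 b b.2)⟩⟩, key.2⟩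

/-- condition (b) for metacyclic `2`-groups -/
theorem two_b {S : Type*} [Group S] [Finite S] (hS : IsPGroup 2 S) (hm : Cfsg.IsMetacyclic S)
    (hh : ¬ ∃ n : ℕ, 0 < n ∧
      Nonempty (S ≃* Multiplicative (ZMod (2 ^ n)) × Multiplicative (ZMod (2 ^ n))))
    (hq : ¬ ∃ n : ℕ, 2 ≤ n ∧ Nonempty (S ≃* QuaternionGroup n))
    (H : Subgroup (MulAut S)) (hH : (Nat.card H).Coprime 2) :
    IsMulCommutative H ∧ ∀ h ∈ H, h ^ (2 - 1) = 1 := by
  have hA : IsPGroup 2 (MulAut S) := by
    by_contra hA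
    rcases Cfsg.Agent.S1896.result hS hm hA with ⟨⟨e⟩⟩ | ⟨n, ⟨e⟩⟩
    · exact hq ⟨2, le_rfl, ⟨e⟩⟩
    · rcases Nat.eq_zero_or_pos n with h0 | hpos
      · subst h0
        apply hA
        have hsub : Subsingleton S := by
          have h1 : Nat.card S = 1 := by
            rw [Nat.card_congr e.toEquiv, Nat.card_prod]
            simp
          exact (Nat.card_eq_one_iff_unique.mp h1).1
        intro α
        refine ⟨0, ?_⟩
        apply MulEquiv.ext
        intro x
        exact Subsingleton.elim _ _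
      · exact hh ⟨n, hpos, ⟨e⟩⟩
  have hHtriv : ∀ h ∈ H, h = 1 := by
    intro h hh'
    obtain ⟨k, hk⟩ := hA h
    have hk2 : h ^ Nat.card H = 1 := by
      have h3 := pow_card_eq_one' (G := H) (x := ⟨h, hh'⟩)
      exact congrArg Subtype.val h3
    have hd1 : orderOf h ∣ Nat.card H := orderOf_dvd_of_pow_eq_one hk2
    have hd2 : orderOf h ∣ 2 ^ k := orderOf_dvd_of_pow_eq_one hk
    have hd3 : orderOf h ∣ Nat.gcd (Nat.card H) (2 ^ k) := Nat.dvd_gcd hd1 hd2
    rw [show Nat.gcd (Nat.card H) (2 ^ k) = 1 from Nat.Coprime.pow_right k hH] at hd3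
    exact orderOf_eq_one_iff.1 (Nat.dvd_one.1 hd3)
  refine ⟨⟨⟨fun a b => Subtype.ext ?_⟩⟩, fun h hh' => by rw [hHtriv h hh', one_pow]⟩
  rw [Subgroup.coe_mul, Subgroup.coe_mul, hHtriv a a.2, hHtriv b b.2]

section fus

variable {Ω : Type*} [Group Ω] {S : Subgroup Ω}

/-- every saturated fusion system over an abelian `p`-group is constrained by the whole group -/
theorem normal_of_comm [Finite S] (p : ℕ) [Fact p.Prime] (hS : IsPGroup p S)
    (F : FusionSystem S) (hF : F.IsSaturated p) (hc : ∀ x y : S, x * y = y * x) :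
    F.IsNormal S := by
  rw [Cfsg.Agent.S5086.result p hS F hF S]
  refine ⟨⟨le_rfl, fun R hR φ hφ x => (F.le_of_mem hφ).2 x⟩, fun P hcP _ => ?_⟩
  have h1 := hcP.2 P (Helper85.isConj_refl F hcP.1)
  intro s hs
  apply h1
  refine ⟨hs, Subgroup.mem_centralizer_iff.mpr ?_⟩
  intro y hy
  have h2 := hc ⟨y, hcP.1 hy⟩ ⟨s, hs⟩
  exact congrArg Subtype.val h2

theorem dih_one_comm : ∀ a b : DihedralGroup 1, a * b = b * a := by decide

theorem quat_one_comm : ∀ a b : QuaternionGroup 1, a * b = b * a := by decide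

theorem quat_zero_infinite : Infinite (QuaternionGroup 0) :=
  Infinite.of_injective (fun i : ℤ => (QuaternionGroup.a (show ZMod (2 * 0) from i) :
    QuaternionGroup 0)) (fun i j h => QuaternionGroup.a.inj h)

/-- condition (a) for metacyclic `2`-groups -/
theorem two_a [Finite S] (hS : IsPGroup 2 S) (hm : Cfsg.IsMetacyclic S)
    (hd : ¬ ∃ n : ℕ, 2 ≤ n ∧ Nonempty (S ≃* DihedralGroup n))
    (hqd : ¬ Cfsg.IsQuasiDihedral S)
    (hq : ¬ ∃ n : ℕ, 2 ≤ n ∧ Nonempty (S ≃* QuaternionGroup n))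
    (F : FusionSystem S) (hF : F.IsSaturated 2) : F.IsNormal S := by
  have hsc : F.StronglyClosed S := ⟨le_rfl, fun R hR φ hφ x => (F.le_of_mem hφ).2 x⟩
  by_cases hc : ∀ x y : S, x * y = y * x
  · exact normal_of_comm 2 hS F hF hc
  · refine Meta2F.normal_of_metacyclic hS F hF S hsc hm ?_ ?_ hqd
    · rintro ⟨m, ⟨e⟩⟩
      rcases m with _ | _ | m
      · have h1 : Nat.card S = 0 := by rw [Nat.card_congr e.toEquiv, DihedralGroup.nat_card]
        exact Nat.card_pos.ne' h1
      · apply hc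
        intro x y
        apply e.injective
        rw [map_mul, map_mul]
        exact dih_one_comm (e x) (e y)
      · exact hd ⟨m + 2, by omega, ⟨e⟩⟩
    · rintro ⟨m, ⟨e⟩⟩
      rcases m with _ | _ | m
      · haveI := quat_zero_infinite
        haveI : Finite (QuaternionGroup 0) := Finite.of_equiv S e.toEquiv
        exact not_finite (QuaternionGroup 0)
      · apply hc
        intro x y
        apply e.injective
        rw [map_mul, map_mul]
        exact quat_one_comm (e x) (e y)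
      · exact hq ⟨m + 2, by omega, ⟨e⟩⟩

end fus

end Cfsg.Agent.Lib.Helper42.MetaSup
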