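import Mathlib
import Cfsg.Agent.Lib.Helper42.PChiC
import Cfsg.Agent.Lib.Helper87.FusionRadical

set_option autoImplicit false
set_option linter.style.haveILetI false

/-!
# Part D: the system `A ∘ G0` is generated by its maps on the good subgroups.
-/

namespace Cfsg.Agent.Lib.Helper42.PChi

open Cfsg Cfsg.FusionSystem Cfsg.Agent.Lib.Helper84 Cfsg.Agent.Lib.Helper84.SatCrit
open Cfsg.Agent.Lib.Helper84.PPrimeRes
open Cfsg.Agent.Lib.Helper88 (Mor extFun extFun_mem extFun_apply img mor_of_hom hom_of_mor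
  mor_conj mor_id)
open Cfsg.Agent.Lib.Helper42.PRes

variable {Ω : Type*} [Group Ω] {S T : Subgroup Ω} {Δ : Type*} [Group Δ]

/-- transfer of a `G0`-map on a big subgroup to a system containing the big generators. -/
theorem g0_mor_big [Finite S] {p : ℕ} {F : FusionSystem S} {P : Subgroup Ω} {f : Ω → Ω}
    (h : G0 F p P f) (E' : FusionSystem S) (n : ℕ)
    (hbase : ∀ (R : Subgroup Ω) (f₁ : Ω → Ω), n < Nat.card R → F.IsCentric R → Mor F R f₁ →
      (∀ x ∈ R, f₁ x ∈ R) → (∃ k : ℕ, ∀ x ∈ R, f₁^[p ^ k] x = x) → Mor E' R f₁) :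
    n < Nat.card P → Mor E' P f := by
  induction h with
  | base R P f₁ f hc hPR hf₁ hmaps hk hff =>
    intro hn
    haveI : Finite R := finite_of_le hc.1
    have h1 : Nat.card P ≤ Nat.card R := Subgroup.card_le_of_le hPR
    exact ((hbase R f₁ (lt_of_lt_of_le hn h1) hc hf₁ hmaps hk).res hPR).congr
      (fun x hx => (hff x hx).symm)
  | comp P f g h hf hg hh ihf ihg =>
    intro hn
    have h1 := ihf hn
    have h2 := ihg (by rw [hf.mor.card_img]; exact hn)
    exact (h1.comp h2 (fun x hx => h1.apply_mem_img hx)).congr (fun x hx => (hh x hx).symm)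

/-- generation by the maps on the subgroups of the family. -/
theorem fk_gen [Finite S] {p : ℕ} [Fact p.Prime] (hS : IsPGroup p S)
    {F : FusionSystem S} {E : FusionSystem T} (hE : E.IsWeaklyNormalIn F p) (hTS : T ≤ S)
    (χ : ↥(F.autGroup T) →* Δ)
    (hA : ∀ g ∈ S, ∃ a ∈ AK F hTS χ,
      ∀ x ∈ S, autFun ((a : F.autGroup S) : MulAut S) x = g * x * g⁻¹)
    (E' : FusionSystem S)
    (hE' : ∀ P : Subgroup Ω, F.IsCentric P → TC F T (P ⊓ T) →
      (FrSys F p (AK F hTS χ) hA).Hom P ⊆ E'.Hom P) :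
    FrSys F p (AK F hTS χ) hA ≤ E' := by
  have hF := hE.2.1
  have hEinv := hE.2.2
  have hEF := hEinv.1
  have hTcl := hEinv.2.1
  obtain ⟨hidx, hfrat, hcen⟩ := fr_facts p hS F hF (AK F hTS χ) hA
  have hmorE : ∀ {P : Subgroup Ω} {f : Ω → Ω},
      Mor (FrSys F p (AK F hTS χ) hA) P f ↔ FrMor F p (AK F hTS χ) P f := mor_frSys_iff
  have hAE' : ∀ a ∈ AK F hTS χ, Mor E' S (autFun ((a : F.autGroup S) : MulAut S)) := by
    intro a ha
    obtain ⟨φ', hφ', hφ'f⟩ := hmorE.2 (FrMor.of_mem ha le_rfl)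
    exact ⟨φ', hE' S (centric_top F) (tc_top hEinv) hφ', hφ'f⟩
  have key : ∀ n : ℕ, ∀ (R : Subgroup Ω) (f₁ : Ω → Ω), Nat.card S - Nat.card R = n →
      F.IsCentric R → Mor F R f₁ → (∀ x ∈ R, f₁ x ∈ R) →
      (∃ k : ℕ, ∀ x ∈ R, f₁^[p ^ k] x = x) → Mor E' R f₁ := by
    intro n
    induction n using Nat.strong_induction_on with
    | _ n ih =>
    intro R f₁ hn hc hf₁ hmaps hk
    have hRS : R ≤ S := hc.1
    by_cases hH : TC F T (R ⊓ T)
    · have hg : G0 F p R f₁ := G0.base R R f₁ f₁ hc le_rfl hf₁ hmaps hk (fun _ _ => rfl)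
      obtain ⟨φ', hφ', hφ'f⟩ := hmorE.2 (FrMor.of_G0 hg)
      exact ⟨φ', hE' R hc hH hφ', hφ'f⟩
    · -- maps of the subsystem on bigger subgroups
      have hbig : ∀ (P' : Subgroup Ω) (f' : Ω → Ω), Nat.card R < Nat.card P' →
          Mor (FrSys F p (AK F hTS χ) hA) P' f' → Mor E' P' f' := by
        intro P' f' hlt hf'
        obtain ⟨a, ha, g₀, hg₀, hfa⟩ := hmorE.1 hf'
        have h1 : Mor E' P' g₀ := g0_mor_big hg₀ E' (Nat.card R)
          (fun R' f₂ hlt' hc' hf₂ hmaps' hk' => by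
            have hR'S : R' ≤ S := hc'.1
            have hle : Nat.card R' ≤ Nat.card S := Subgroup.card_le_of_le hR'S
            exact ih (Nat.card S - Nat.card R') (by omega) R' f₂ rfl hc' hf₂ hmaps' hk') hlt
        exact (h1.comp (hAE' a ha) (fun x hx => h1.mem_S hx)).congr
          (fun x hx => (hfa x hx).symm)
      have hnc : ¬ E.IsCentric (R ⊓ T) := fun h => hH (tc_of_centric hEinv h)
      have hnr : ¬ F.IsRadical p R :=
        (Helper87.centric_not_radical_of_subsystem hS F hF E hEF hTcl R hc hnc).2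
      have hRne : R ≠ S := by
        rintro rfl
        exact hH (tc_top hEinv)
      have hlt : R < S := lt_of_le_of_ne hRS hRne
      have hlt2 : R < normalizerIn S R := Helper88.normalizer_grow hS le_rfl hlt
      haveI : Finite (normalizerIn S R) := finite_of_le (normalizerIn_le S R)
      have hcardN : Nat.card R < Nat.card (normalizerIn S R) := by
        by_contra hcon
        exact hlt2.ne (Subgroup.eq_of_le_of_card_ge hlt2.le (not_lt.mp hcon))
      -- step A: a map of the subsystem onto a fully normalized subgroup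
      obtain ⟨P', hPP', hP'n⟩ := exists_fullyNormalized_conj F hRS
      obtain ⟨f, hf, himg⟩ := (Helper88.isConj_iff F).1 hPP'
      have hP'S : P' ≤ S := hP'n.1
      have hexP' := hF P' hP'S
      have hfaP' : F.IsFullyAutomized p P' := fa_of_fn_local p hS F hexP' hP'n
      have hrecP' : F.IsReceptive P' :=
        rec_of_fc_local p hS F hexP' (fc_of_fn_local p hS F hexP' hP'n)
      obtain ⟨χ₁, hχ₁, himgχ⟩ := Helper88.lemma26a hS hfaP' hrecP' hf himg
      obtain ⟨α, χ₀, hχ₀, hχα⟩ := hfrat _ _ hχ₁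
      have hχ₀E' : Mor E' (normalizerIn S R) χ₀ := hbig _ _ hcardN hχ₀
      have hRN : R ≤ normalizerIn S R := le_normalizerIn hRS
      have hχ₀F : Mor F (normalizerIn S R) χ₀ := (hmorE.1 hχ₀).mor
      have hζF : Mor F R χ₀ := hχ₀F.res hRN
      have hζE' : Mor E' R χ₀ := hχ₀E'.res hRN
      have hQS : img R χ₀ ≤ S := hζF.img_le
      have hαm : Mor F S (autFun (α : MulAut S)) := autFun_mor F le_rfl α.2
      have himgQ : img (img R χ₀) (autFun (α : MulAut S)) = P' := by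
        rw [← himgχ, Helper88.img_congr (fun x hx => hχα x (hRN hx))]
        exact (DFac.img_comp hζF (hαm.res hQS)).symm
      have hQn : F.IsFullyNormalized (img R χ₀) := fn_transport hQS α himgQ hP'n
      have hexQ := hF (img R χ₀) hQS
      have hfaQ : F.IsFullyAutomized p (img R χ₀) := fa_of_fn_local p hS F hexQ hQn
      have hrecQ : F.IsReceptive (img R χ₀) :=
        rec_of_fc_local p hS F hexQ (fc_of_fn_local p hS F hexQ hQn)
      -- the inverse of the map
      obtain ⟨ζ', hζ', -, hζ'ζ, hζζ'⟩ := hζF.exists_inv_img rfl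
      obtain ⟨gE, hgE, hgEf⟩ := hζE'.exists_inv
      have hζ'E' : Mor E' (img R χ₀) ζ' := hgE.congr (fun y hy => by
        obtain ⟨x, hx, rfl⟩ := hζF.mem_img.1 hy
        rw [hgEf x hx, hζ'ζ x hx])
      -- step B: the transported automorphism
      have hχQ : ∀ x ∈ R, χ₀ x ∈ img R χ₀ := fun x hx => hζF.apply_mem_img hx
      have hρ₁ : Mor F (img R χ₀) (fun y => χ₀ (f₁ (ζ' y))) :=
        (hζ'.comp hf₁ (fun y hy => (hζζ' y hy).1)).comp hζF
          (fun y hy => hmaps _ (hζζ' y hy).1)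
      have hmaps₁ : ∀ y ∈ img R χ₀, χ₀ (f₁ (ζ' y)) ∈ img R χ₀ :=
        fun y hy => hχQ _ (hmaps _ (hζζ' y hy).1)
      obtain ⟨k, hk⟩ := hk
      have hiterR : ∀ n : ℕ, ∀ x ∈ R, f₁^[n] x ∈ R := fun n => iterate_mem hmaps n
      have hiter : ∀ n : ℕ, ∀ y ∈ img R χ₀,
          (fun y => χ₀ (f₁ (ζ' y)))^[n] y = χ₀ (f₁^[n] (ζ' y)) := by
        intro n
        induction n with
        | zero => intro y hy; exact ((hζζ' y hy).2).symm
        | succ n ih =>
          intro y hy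
          rw [Function.iterate_succ_apply', ih y hy]
          show χ₀ (f₁ (ζ' (χ₀ (f₁^[n] (ζ' y))))) = χ₀ (f₁^[n + 1] (ζ' y))
          rw [hζ'ζ _ (hiterR n _ (hζζ' y hy).1), Function.iterate_succ_apply']
      obtain ⟨d, hd, hdimg, t, ht, hdt⟩ := PNorm.sylow_move hfaQ hρ₁ hmaps₁
        ⟨k, fun y hy => by
          rw [hiter (p ^ k) y hy, hk _ (hζζ' y hy).1]; exact (hζζ' y hy).2⟩
      have hnrQ : ¬ F.IsRadical p (img R χ₀) := by
        intro hrad
        obtain ⟨e, he⟩ := (Helper87.isConj_iff_exists_iso F _ _).1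
          (isConj_symm F (Helper88.isConj_of_mor hζF))
        exact hnr (Helper87.isRadical_of_isIso hS F he hrad)
      obtain ⟨g, hgQ, hgext⟩ :=
        Helper87.exists_mem_extender_not_mem_of_not_radical hS F hfaQ hnrQ
      have hdQ : ∀ y ∈ img R χ₀, d y ∈ img R χ₀ := fun y hy => by
        have h1 := hd.apply_mem_img hy
        rwa [hdimg] at h1
      obtain ⟨δ, hδ, hδx⟩ := hd.exists_aut hdQ
      have hφδ : (img R χ₀).subtype.comp δ.toMonoidHom ∈ F.Hom (img R χ₀) :=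
        Helper88.subtype_comp_mem F hQS hδ
      have hrange : ((img R χ₀).subtype.comp δ.toMonoidHom).range = img R χ₀ := by
        ext y
        constructor
        · rintro ⟨x, rfl⟩
          exact (δ x).2
        · intro hy
          exact ⟨δ.symm ⟨y, hy⟩, by simp⟩
      obtain ⟨ψ, hψ, hψφ⟩ := hrecQ.2 _ _ hφδ hrange
      have hgN : g ∈ extender S (img R χ₀) ((img R χ₀).subtype.comp δ.toMonoidHom) :=
        hgext δ hδ
      have hQN : img R χ₀ ≤ extender S (img R χ₀) ((img R χ₀).subtype.comp δ.toMonoidHom) :=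
        le_extender hQS _ (hom_mem_S F hφδ)
      haveI : Finite (extender S (img R χ₀) ((img R χ₀).subtype.comp δ.toMonoidHom)) :=
        finite_of_le (Helper87.extender_le S _ _)
      have hcardQ : Nat.card (img R χ₀) <
          Nat.card (extender S (img R χ₀) ((img R χ₀).subtype.comp δ.toMonoidHom)) :=
        card_lt_of_le_of_not_mem hQN hgN hgQ
      have hψm : Mor F (extender S (img R χ₀) ((img R χ₀).subtype.comp δ.toMonoidHom))
          (extFun ψ) := mor_of_hom F hψ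
      obtain ⟨μ, ψ₀, hψ₀, hψμ⟩ := hfrat _ _ hψm
      have hψ₀E' : Mor E' (extender S (img R χ₀) ((img R χ₀).subtype.comp δ.toMonoidHom)) ψ₀ :=
        hbig _ _ (by rw [← hζF.card_img]; exact hcardQ) hψ₀
      have hψ₀Q : Mor E' (img R χ₀) ψ₀ := hψ₀E'.res hQN
      have hψ₀QF : Mor F (img R χ₀) ψ₀ := ((hmorE.1 hψ₀).mor).res hQN
      have hdμ : ∀ y ∈ img R χ₀, d y = autFun (μ : MulAut S) (ψ₀ y) := by
        intro y hy
        rw [← hψμ y (hQN hy), extFun_mem ψ (hQN hy), hψφ y hy (hQN hy)]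
        exact (hδx ⟨y, hy⟩).symm
      have hμi : Mor F S (autFun ((μ : MulAut S)⁻¹)) := autFun_mor F le_rfl (μ⁻¹).2
      have ht' : autFun ((μ : MulAut S)⁻¹) t ∈ S := autFun_mem_R _ ht
      have hconj : ∀ y ∈ img R χ₀, ψ₀ (χ₀ (f₁ (ζ' y))) =
          autFun ((μ : MulAut S)⁻¹) t * ψ₀ y * (autFun ((μ : MulAut S)⁻¹) t)⁻¹ := by
        intro y hy
        have h1 : d (χ₀ (f₁ (ζ' y))) = t * d y * t⁻¹ := hdt y hy
        rw [hdμ _ (hmaps₁ y hy), hdμ y hy] at h1
        have hψ₀S : ψ₀ y ∈ S := hψ₀QF.mem_S hy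
        have hψ₀S' : ψ₀ (χ₀ (f₁ (ζ' y))) ∈ S := hψ₀QF.mem_S (hmaps₁ y hy)
        have h2 := congrArg (autFun ((μ : MulAut S)⁻¹)) h1
        rw [autFun_inv _ hψ₀S', mor_conj_apply hμi ht (autFun_mem_R _ hψ₀S),
          autFun_inv _ hψ₀S] at h2
        exact h2
      obtain ⟨gψ, hgψ, hgψf⟩ := hψ₀Q.exists_inv
      have hcE' : Mor E' (img (img R χ₀) ψ₀)
          (fun z => autFun ((μ : MulAut S)⁻¹) t * z * (autFun ((μ : MulAut S)⁻¹) t)⁻¹) :=
        mor_conj E' hψ₀Q.img_le ht'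
      have hρ₁E' : Mor E' (img R χ₀) (fun y => χ₀ (f₁ (ζ' y))) := by
        have h1 := hψ₀Q.comp hcE' (fun y hy => hψ₀Q.apply_mem_img hy)
        have h2 := h1.comp hgψ (fun y hy => by
          show autFun ((μ : MulAut S)⁻¹) t * ψ₀ y * (autFun ((μ : MulAut S)⁻¹) t)⁻¹ ∈
            img (img R χ₀) ψ₀
          rw [← hconj y hy]
          exact hψ₀Q.apply_mem_img (hmaps₁ y hy))
        refine h2.congr (fun y hy => ?_)
        show gψ (autFun ((μ : MulAut S)⁻¹) t * ψ₀ y * (autFun ((μ : MulAut S)⁻¹) t)⁻¹) =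
          χ₀ (f₁ (ζ' y))
        rw [← hconj y hy, hgψf _ (hmaps₁ y hy)]
      -- step C
      have h3 := (hζE'.comp hρ₁E' hχQ).comp hζ'E' (fun x hx => hmaps₁ _ (hχQ x hx))
      refine h3.congr (fun x hx => ?_)
      show ζ' (χ₀ (f₁ (ζ' (χ₀ x)))) = f₁ x
      rw [hζ'ζ x hx, hζ'ζ _ (hmaps x hx)]
  intro P φ hφ
  obtain ⟨a, ha, f₀, hf₀, hfa⟩ := hφ.2
  have h1 : Mor E' P f₀ := hf₀.mor_of E'
    (fun R f₁ hc hf₁ hmaps hk => key _ R f₁ rfl hc hf₁ hmaps hk)
  exact hom_of_mor (h1.comp (hAE' a ha) (fun x hx => h1.mem_S hx))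
    (fun x => (extFun_apply φ x).symm.trans (hfa x x.2))

end Cfsg.Agent.Lib.Helper42.PChi
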