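import Mathlib
import Cfsg.Agent.Lib.Helper42.PChiD
import Cfsg.Agent.Lib.Helper88.FusEss

set_option autoImplicit false
set_option linter.style.haveILetI false

/-!
# Part E: the remaining condition of the saturation criterion, and saturation of `A ∘ G0`.
-/

namespace Cfsg.Agent.Lib.Helper42.PChi

open Cfsg Cfsg.FusionSystem Cfsg.Agent.Lib.Helper84 Cfsg.Agent.Lib.Helper84.SatCrit
open Cfsg.Agent.Lib.Helper84.PPrimeRes
open Cfsg.Agent.Lib.Helper88 (Mor extFun extFun_mem extFun_apply img mor_of_hom hom_of_mor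
  mor_conj mor_id)
open Cfsg.Agent.Lib.Helper42.PRes

variable {Ω : Type*} [Group Ω] {S T : Subgroup Ω} {Δ : Type*} [Group Δ]

/-- a centric subgroup outside the family has a conjugate in the subsystem with a nontrivial
element of `Out_S ∩ O_p(Out)`. -/
theorem fk_star [Finite S] {p : ℕ} [Fact p.Prime] (hS : IsPGroup p S)
    {F : FusionSystem S} {E : FusionSystem T} (hE : E.IsWeaklyNormalIn F p)
    (A : Subgroup (F.autGroup S))
    (hA : ∀ g ∈ S, ∃ a ∈ A, ∀ x ∈ S, autFun ((a : F.autGroup S) : MulAut S) x = g * x * g⁻¹)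
    (P : Subgroup Ω) (hPc : (FrSys F p A hA).IsCentric P) (hnot : ¬ TC F T (P ⊓ T)) :
    ∃ Q, (FrSys F p A hA).IsConj P Q ∧
      ¬ (autInducedBy S Q ⊓ (pCore p ↥((FrSys F p A hA).autGroup Q)).map
        ((FrSys F p A hA).autGroup Q).subtype ≤ Inn Q) := by
  have hF := hE.2.1
  have hEinv := hE.2.2
  have hEF := hEinv.1
  have hTcl := hEinv.2.1
  obtain ⟨hidx, hfrat, hcen⟩ := fr_facts p hS F hF A hA
  have hsub : (FrSys F p A hA).IsSubsystemOf F := fun P φ hφ => hφ.1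
  have hPcF : F.IsCentric P := (hcen P).1 hPc
  have hnc : ¬ E.IsCentric (P ⊓ T) := fun h => hnot (tc_of_centric hEinv h)
  obtain ⟨⟨φ, hφ, x, hxN, hxn, α, hα, hαx⟩, -⟩ :=
    Helper87.centric_not_radical_of_subsystem hS F hF E hEF hTcl P hPcF hnc
  have hφm : Mor F P (extFun φ) := mor_of_hom F hφ
  have himgφ : img P (extFun φ) = φ.range :=
    Helper88.img_eq_range φ (fun x => (extFun_apply φ x).symm)
  obtain ⟨ν, φ₀, hφ₀, hφν⟩ := hfrat _ _ hφm
  have hφ₀F : Mor F P φ₀ := Helper88.subsystem_mor hsub hφ₀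
  have hQS : img P φ₀ ≤ S := hφ₀F.img_le
  have hνm : Mor F S (autFun (ν : MulAut S)) := autFun_mor F le_rfl ν.2
  have hνi : Mor F S (autFun ((ν : MulAut S)⁻¹)) := autFun_mor F le_rfl (ν⁻¹).2
  have hX : img (img P φ₀) (autFun (ν : MulAut S)) = φ.range := by
    rw [← himgφ, Helper88.img_congr hφν]
    exact (DFac.img_comp hφ₀F (hνm.res hQS)).symm
  have hXS : φ.range ≤ S := by rw [← himgφ]; exact hφm.img_le
  have he : Mor F φ.range (autFun ((ν : MulAut S)⁻¹)) := hνi.res hXS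
  have hQ' : img φ.range (autFun ((ν : MulAut S)⁻¹)) = img P φ₀ := by
    rw [← hX]
    exact img_inv hνm (by rw [img_autFun F le_rfl ν]; exact hνi)
      (fun x hx => autFun_inv _ hx) hQS
  have hxS : x ∈ S := hxN.1
  have hxN' : x ∈ normalizerIn S φ.range := hxN
  have hxnorm : ∀ z ∈ φ.range, x * z * x⁻¹ ∈ φ.range :=
    fun z hz => conj_mem_of_mem_normalizerIn hxN' hz
  obtain ⟨α₀, hα₀, rfl⟩ := hα
  obtain ⟨x', hx'def⟩ : ∃ x', x' = autFun ((ν : MulAut S)⁻¹) x := ⟨_, rfl⟩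
  have hx'S : x' ∈ S := by rw [hx'def]; exact autFun_mem_R _ hxS
  have hQ'S : img φ.range (autFun ((ν : MulAut S)⁻¹)) ≤ S := he.img_le
  have hcm : Mor F (img φ.range (autFun ((ν : MulAut S)⁻¹))) (fun y => x' * y * x'⁻¹) :=
    mor_conj F hQ'S hx'S
  have hcz : ∀ z ∈ φ.range, x' * autFun ((ν : MulAut S)⁻¹) z * x'⁻¹ =
      autFun ((ν : MulAut S)⁻¹) (x * z * x⁻¹) := by
    intro z hz
    rw [hx'def]
    exact (mor_conj_apply hνi hxS (hXS hz)).symm
  have hcmaps : ∀ y ∈ img φ.range (autFun ((ν : MulAut S)⁻¹)),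
      x' * y * x'⁻¹ ∈ img φ.range (autFun ((ν : MulAut S)⁻¹)) := by
    intro y hy
    obtain ⟨z, hz, rfl⟩ := he.mem_img.1 hy
    rw [hcz z hz]
    exact he.apply_mem_img (hxnorm z hz)
  obtain ⟨α', hα', hα'x⟩ := hcm.exists_aut hcmaps
  have hα'x' : ∀ y : ↥(img φ.range (autFun ((ν : MulAut S)⁻¹))),
      ((α' y : ↥(img φ.range (autFun ((ν : MulAut S)⁻¹)))) : Ω) = x' * (y : Ω) * x'⁻¹ := hα'x
  have hαx' : ∀ y : ↥φ.range, (((α₀ : MulAut ↥φ.range) y : ↥φ.range) : Ω) =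
      x * (y : Ω) * x⁻¹ := hαx
  have hrel : TRel φ.range (autFun ((ν : MulAut S)⁻¹)) α' (α₀ : MulAut φ.range) := by
    intro z hz
    rw [autFun_mem α' (he.apply_mem_img hz), hα'x', autFun_mem _ hz, hαx' ⟨z, hz⟩]
    exact hcz z hz
  have hcore : (⟨α', hα'⟩ : F.autGroup (img φ.range (autFun ((ν : MulAut S)⁻¹)))) ∈
      pCore p (F.autGroup (img φ.range (autFun ((ν : MulAut S)⁻¹)))) :=
    pCore_transport p he hα₀ hrel
  have hQ'c : F.IsCentric (img φ.range (autFun ((ν : MulAut S)⁻¹))) := by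
    rw [hQ']; exact Helper88.centric_conj hPcF hφ₀F
  refine ⟨img φ.range (autFun ((ν : MulAut S)⁻¹)), ?_, ?_⟩
  · rw [hQ']; exact Helper88.isConj_of_mor hφ₀
  · intro hle
    have h1 : α' ∈ autInducedBy S (img φ.range (autFun ((ν : MulAut S)⁻¹))) :=
      (Helper84.mem_autInducedBy_iff S _ α').2 ⟨x', hx'S, hα'x'⟩
    have hF₀ : α' ∈ (FrSys F p A hA).autGroup (img φ.range (autFun ((ν : MulAut S)⁻¹))) := by
      rw [Helper88.mem_autGroup_iff _ hQ'S]
      refine (mor_conj (FrSys F p A hA) hQ'S hx'S).congr (fun y hy => ?_)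
      rw [extFun_mem _ hy]
      exact (hα'x' ⟨y, hy⟩).symm
    have hleA : (FrSys F p A hA).autGroup (img φ.range (autFun ((ν : MulAut S)⁻¹))) ≤
        F.autGroup (img φ.range (autFun ((ν : MulAut S)⁻¹))) := by
      unfold FusionSystem.autGroup
      exact Subgroup.closure_mono (fun α hα => hsub _ hα)
    have hB := Helper87.le_pCore_map_of_normal_pSubgroup (p := p) (FrSys F p A hA)
      (((pCore p (F.autGroup (img φ.range (autFun ((ν : MulAut S)⁻¹))))).map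
        (F.autGroup (img φ.range (autFun ((ν : MulAut S)⁻¹)))).subtype) ⊓
        (FrSys F p A hA).autGroup (img φ.range (autFun ((ν : MulAut S)⁻¹)))) inf_le_right
      (by
        rintro a ha b ⟨⟨b₀, hb₀, hb₀e⟩, hbF₀⟩
        refine ⟨⟨⟨a, hleA ha⟩ * b₀ * ⟨a, hleA ha⟩⁻¹,
          (pCore_normal' p _).conj_mem b₀ hb₀ _, ?_⟩,
          Subgroup.mul_mem _ (Subgroup.mul_mem _ ha hbF₀) (Subgroup.inv_mem _ ha)⟩
        rw [← hb₀e]
        rfl)
      (((pCore_isPGroup p _).map _).to_le inf_le_left)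
    have h2 : α' ∈ (pCore p ((FrSys F p A hA).autGroup
        (img φ.range (autFun ((ν : MulAut S)⁻¹))))).map
        ((FrSys F p A hA).autGroup (img φ.range (autFun ((ν : MulAut S)⁻¹)))).subtype :=
      hB ⟨⟨⟨α', hα'⟩, hcore, rfl⟩, hF₀⟩
    obtain ⟨q, hq⟩ := hle ⟨h1, h2⟩
    have hx'Q : x' ∈ img φ.range (autFun ((ν : MulAut S)⁻¹)) := by
      refine Helper88.mem_of_conj_eq hQ'c hx'S q.2 (fun y hy => ?_)
      have h3 : (((MulAut.conj q) ⟨y, hy⟩ : ↥(img φ.range (autFun ((ν : MulAut S)⁻¹)))) : Ω) =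
          ((α' ⟨y, hy⟩ : ↥(img φ.range (autFun ((ν : MulAut S)⁻¹)))) : Ω) := by rw [hq]
      rw [hα'x' ⟨y, hy⟩] at h3
      exact h3
    obtain ⟨z, hz, hzx⟩ := he.mem_img.1 hx'Q
    rw [hx'def] at hzx
    have hzeq : z = x := hνi.inj (hXS hz) hxS hzx
    exact hxn (hzeq ▸ hz)

/-- the system `A ∘ G0` is saturated. -/
theorem fk_saturated [Finite S] [Finite Δ] {p : ℕ} [Fact p.Prime] (hS : IsPGroup p S)
    {F : FusionSystem S} {E : FusionSystem T} (hE : E.IsWeaklyNormalIn F p) (hTS : T ≤ S)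
    (χ : ↥(F.autGroup T) →* Δ) (hΔ : (Nat.card Δ).Coprime p)
    (hker : (E.autGroup T).subgroupOf (F.autGroup T) ≤ χ.ker)
    (hA : ∀ g ∈ S, ∃ a ∈ AK F hTS χ,
      ∀ x ∈ S, autFun ((a : F.autGroup S) : MulAut S) x = g * x * g⁻¹) :
    (FrSys F p (AK F hTS χ) hA).IsSaturated p := by
  have hF := hE.2.1
  have hEinv := hE.2.2
  have hTcl := hEinv.2.1
  obtain ⟨hidx, hfrat, hcen⟩ := fr_facts p hS F hF (AK F hTS χ) hA
  have hmorEF : ∀ {P : Subgroup Ω} {f : Ω → Ω},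
      Mor (FrSys F p (AK F hTS χ) hA) P f → Mor F P f := fun h => (mor_frSys_iff.1 h).mor
  refine SatCrit.main p hS _ {P | F.IsCentric P ∧ TC F T (P ⊓ T)} (fun P hP => hP.1.1)
    ?_ ?_ ?_ ?_
  · intro P hP Q hQ
    obtain ⟨f, hf, rfl⟩ := (Helper88.isConj_iff _).1 hQ
    exact ⟨Helper88.centric_conj hP.1 (hmorEF hf), tc_conj hTcl (hmorEF hf) hP.2⟩
  · intro P hP
    exact fk_sat_on hS hE hTS χ hΔ hker hA hP.1 hP.2
  · intro E' hE'
    exact fk_gen hS hE hTS χ hA E' (fun P hc ht => hE' P ⟨hc, ht⟩)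
  · intro P hPc hPnot
    have hPcF : F.IsCentric P := (hcen P).1 hPc
    exact fk_star hS hE (AK F hTS χ) hA P hPc (fun ht => hPnot ⟨hPcF, ht⟩)

end Cfsg.Agent.Lib.Helper42.PChi
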