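import Mathlib
import Cfsg.Agent.Lib.Helper42.PChiE
import Cfsg.Agent.Lib.Helper88.IsoB

set_option autoImplicit false
set_option linter.style.haveILetI false

/-!
# Part F: the subsystem of index prime to `p` attached to a `p'`-quotient of `Aut_F(T)`.
-/

namespace Cfsg.Agent.Lib.Helper42.PChi

open Cfsg Cfsg.FusionSystem Cfsg.Agent.Lib.Helper84 Cfsg.Agent.Lib.Helper84.SatCrit
open Cfsg.Agent.Lib.Helper84.PPrimeRes
open Cfsg.Agent.Lib.Helper88 (Mor extFun extFun_mem extFun_apply img mor_of_hom hom_of_mor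
  mor_conj mor_id)
open Cfsg.Agent.Lib.Helper42.PRes

variable {Ω : Type*} [Group Ω] {S T : Subgroup Ω} {Δ : Type*} [Group Δ]

/-- `G0`-maps with source `T` are elements of the kernel. -/
theorem g0_top_ker [Finite S] [Finite Δ] {p : ℕ} [Fact p.Prime] (hS : IsPGroup p S)
    {F : FusionSystem S} {E : FusionSystem T} (hE : E.IsWeaklyNormalIn F p)
    (χ : ↥(F.autGroup T) →* Δ) (hΔ : (Nat.card Δ).Coprime p)
    (hker : (E.autGroup T).subgroupOf (F.autGroup T) ≤ χ.ker) {g₀ : Ω → Ω}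
    (hg : G0 F p T g₀) :
    ∃ β₀ : F.autGroup T, χ β₀ = 1 ∧ ∀ x ∈ T, g₀ x = autFun (β₀ : MulAut T) x := by
  have hF := hE.2.1
  have hEinv := hE.2.2
  have h := g0_ke hS hF hEinv χ hΔ hg
  rw [inf_idem] at h
  exact KE.aut hEinv.2.1.1 hEinv.1 hker h

/-- the automorphisms of `T` in the subsystem are the elements of the kernel. -/
theorem fk_T_iff [Finite S] [Finite Δ] {p : ℕ} [Fact p.Prime] (hS : IsPGroup p S)
    {F : FusionSystem S} {E : FusionSystem T} (hE : E.IsWeaklyNormalIn F p) (hTS : T ≤ S)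
    (χ : ↥(F.autGroup T) →* Δ) (hΔ : (Nat.card Δ).Coprime p)
    (hker : (E.autGroup T).subgroupOf (F.autGroup T) ≤ χ.ker)
    (hA : ∀ g ∈ S, ∃ a ∈ AK F hTS χ,
      ∀ x ∈ S, autFun ((a : F.autGroup S) : MulAut S) x = g * x * g⁻¹)
    (β : F.autGroup T) :
    Mor (FrSys F p (AK F hTS χ) hA) T (autFun (β : MulAut T)) ↔ χ β = 1 := by
  have hF := hE.2.1
  have hEinv := hE.2.2
  have hTcl := hEinv.2.1
  obtain ⟨hidx, hfrat, hcen⟩ := fr_facts p hS F hF (AK F hTS χ) hA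
  constructor
  · intro h
    obtain ⟨a, ha, g₀, hg₀, hfa⟩ := mor_frSys_iff.1 h
    obtain ⟨β₀, hβ₀, hg₀x⟩ := g0_top_ker hS hE χ hΔ hker hg₀
    obtain ⟨βa, hβa, hresa⟩ := ha
    have e : β = βa * β₀ := by
      apply Subtype.ext
      apply MulEquiv.ext
      intro x
      apply Subtype.ext
      show (((β : MulAut T) x : T) : Ω) = ((((βa : MulAut T) * (β₀ : MulAut T)) x : T) : Ω)
      rw [← autFun_mem (β : MulAut T) x.2,
        ← autFun_mem ((βa : MulAut T) * (β₀ : MulAut T)) x.2,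
        autFun_mul _ _ x.2, hfa _ x.2, hg₀x _ x.2, hresa _ (autFun_mem_R _ x.2)]
    rw [e, map_mul, hβa, hβ₀, one_mul]
  · intro hβ
    obtain ⟨ν, f₀, hf₀, hfν⟩ := hfrat T _ (autFun_mor F hTS β.2)
    obtain ⟨a, ha, g₀, hg₀, hfa⟩ := mor_frSys_iff.1 hf₀
    obtain ⟨β₀, hβ₀, hg₀x⟩ := g0_top_ker hS hE χ hΔ hker hg₀
    obtain ⟨βν, hresν⟩ := exists_res hTcl ν
    obtain ⟨βa, hβa, hresa⟩ := mem_AK.1 ha
    have e : β = βν * βa * β₀ := by
      apply Subtype.ext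
      apply MulEquiv.ext
      intro x
      apply Subtype.ext
      show (((β : MulAut T) x : T) : Ω) =
        ((((βν : MulAut T) * (βa : MulAut T) * (β₀ : MulAut T)) x : T) : Ω)
      rw [← autFun_mem (β : MulAut T) x.2,
        ← autFun_mem ((βν : MulAut T) * (βa : MulAut T) * (β₀ : MulAut T)) x.2,
        autFun_mul _ _ x.2, autFun_mul _ _ (autFun_mem_R _ x.2), hfν _ x.2, hfa _ x.2,
        hg₀x _ x.2,
        hresν _ (autFun_mem_R (βa : MulAut T) (autFun_mem_R _ x.2)),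
        hresa _ (autFun_mem_R _ x.2)]
    have hχν : χ βν = 1 := by
      have h1 : χ β = χ βν * χ βa * χ β₀ := by rw [e, map_mul, map_mul]
      rw [hβ, hβa, hβ₀, mul_one, mul_one] at h1
      exact h1.symm
    have hνA : ν ∈ AK F hTS χ := (mem_AK_of_res hresν).2 hχν
    refine mor_frSys_iff.2 ⟨ν * a, (AK F hTS χ).mul_mem hνA ha, g₀, hg₀, fun x hx => ?_⟩
    show autFun (β : MulAut T) x = autFun ((ν : MulAut S) * (a : MulAut S)) (g₀ x)
    rw [autFun_mul _ _ (hg₀.mor.mem_S hx), ← hfa x hx, ← hfν x hx]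

/-- `G0`-maps of a subsystem `E` of `F` lie in every subsystem of index prime to `p` of `F`. -/
theorem g0E_mor [Finite S] {p : ℕ} [Fact p.Prime] {F : FusionSystem S} {E : FusionSystem T}
    (hEF : E.IsSubsystemOf F) {D : FusionSystem S} (hD : D.HasPrimeToPIndexIn F p)
    {P : Subgroup Ω} {f : Ω → Ω} (h : G0 E p P f) : Mor D P f := by
  induction h with
  | base R P f₁ f hc hPR hf₁ hmaps hk hff =>
    exact ((ppow_mem hD (Helper88.subsystem_mor hEF hf₁) hmaps hk).res hPR).congr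
      (fun x hx => (hff x hx).symm)
  | comp P f g h hf hg hh ihf ihg =>
    exact (ihf.comp ihg (fun x hx => ihf.apply_mem_img hx)).congr (fun x hx => (hh x hx).symm)

/-- the subsystem contains `E`. -/
theorem fk_sub [Finite S] [Finite Δ] {p : ℕ} [Fact p.Prime] (hS : IsPGroup p S)
    {F : FusionSystem S} {E : FusionSystem T} (hE : E.IsWeaklyNormalIn F p) (hTS : T ≤ S)
    (χ : ↥(F.autGroup T) →* Δ) (hΔ : (Nat.card Δ).Coprime p)
    (hker : (E.autGroup T).subgroupOf (F.autGroup T) ≤ χ.ker)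
    (hA : ∀ g ∈ S, ∃ a ∈ AK F hTS χ,
      ∀ x ∈ S, autFun ((a : F.autGroup S) : MulAut S) x = g * x * g⁻¹) :
    E.IsSubsystemOf (FrSys F p (AK F hTS χ) hA) := by
  have hEsat := hE.1
  have hF := hE.2.1
  have hEinv := hE.2.2
  have hEF := hEinv.1
  haveI hfinT : Finite T := Finite.of_injective _ (Subgroup.inclusion_injective hTS)
  have hT : IsPGroup p T := hS.to_le hTS
  obtain ⟨hidx, hfrat, hcen⟩ := fr_facts p hS F hF (AK F hTS χ) hA
  obtain ⟨-, hfratE, -⟩ := fr_facts p hT E hEsat (A0 E p) (A0_inner hT E)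
  have hle : E.autGroup T ≤ F.autGroup T := by
    unfold FusionSystem.autGroup
    exact Subgroup.closure_mono (fun α hα => hEF T hα)
  intro P φ hφ
  obtain ⟨α, f₀, hf₀, hfα⟩ := hfratE P _ (mor_of_hom E hφ)
  obtain ⟨a', ha', g₀, hg₀, hfa⟩ := mor_frSys_iff.1 hf₀
  have h1 : Mor (FrSys F p (AK F hTS χ) hA) P g₀ := g0E_mor hEF hidx hg₀
  have hmem : ((α * a' : E.autGroup T) : MulAut T) ∈ E.autGroup T := (α * a').2
  have hχ : χ ⟨((α * a' : E.autGroup T) : MulAut T), hle hmem⟩ = 1 :=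
    MonoidHom.mem_ker.1 (hker (Subgroup.mem_subgroupOf.2 hmem))
  have h2 : Mor (FrSys F p (AK F hTS χ) hA) T
      (autFun ((α * a' : E.autGroup T) : MulAut T)) :=
    (fk_T_iff hS hE hTS χ hΔ hker hA ⟨_, hle hmem⟩).2 hχ
  refine hom_of_mor (h1.comp h2 (fun x hx => hg₀.mor.mem_S hx)) (fun x => ?_)
  rw [← extFun_apply φ x, hfα x x.2, hfa x x.2]
  show autFun (α : MulAut T) (autFun (a' : MulAut T) (g₀ x)) =
    autFun ((α : MulAut T) * (a' : MulAut T)) (g₀ x)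
  rw [autFun_mul _ _ (hg₀.mor.mem_S x.2)]

/-- the subsystem is normal in `F`. -/
theorem fk_normal [Finite S] [Finite Δ] {p : ℕ} [Fact p.Prime] (hS : IsPGroup p S)
    {F : FusionSystem S} {E : FusionSystem T} (hE : E.IsWeaklyNormalIn F p) (hTS : T ≤ S)
    (χ : ↥(F.autGroup T) →* Δ) (hΔ : (Nat.card Δ).Coprime p)
    (hker : (E.autGroup T).subgroupOf (F.autGroup T) ≤ χ.ker)
    (hA : ∀ g ∈ S, ∃ a ∈ AK F hTS χ,
      ∀ x ∈ S, autFun ((a : F.autGroup S) : MulAut S) x = g * x * g⁻¹) :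
    (FrSys F p (AK F hTS χ) hA).IsNormalIn F p := by
  have hF := hE.2.1
  have hEinv := hE.2.2
  have hTcl := hEinv.2.1
  have hsat := fk_saturated hS hE hTS χ hΔ hker hA
  obtain ⟨hidx, hfrat, hcen⟩ := fr_facts p hS F hF (AK F hTS χ) hA
  have hsub : (FrSys F p (AK F hTS χ) hA).IsSubsystemOf F := fun P φ hφ => hφ.1
  have hinv : Helper88.InvData (FrSys F p (AK F hTS χ) hA) F := by
    refine ⟨hsub, ⟨le_rfl, fun R hR φ hφ x => (F.le_of_mem hφ).2 x⟩, ?_, ?_⟩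
    · intro P hPS f hf a a' ha ha'a
      obtain ⟨ν, hν, hνx⟩ := ha.exists_aut (fun x hx => ha.mem_S hx)
      have hνa : ∀ x ∈ S, autFun ν x = a x := fun x hx => by
        rw [autFun_mem ν hx]; exact hνx ⟨x, hx⟩
      obtain ⟨b, hb, g₀, hg₀, hfb⟩ := mor_frSys_iff.1 hf
      have hg := hg₀.conj (a := ν) (b := ν⁻¹) hν ((F.autGroup S).inv_mem hν)
        (fun x hx => autFun_inv _ hx) (fun x hx => autFun_inv' _ hx)
      have himg : img P (autFun ν) = img P a :=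
        Helper88.img_congr (fun x hx => hνa x (hPS hx))
      rw [himg] at hg
      have hbA : (⟨ν, hν⟩ : F.autGroup S) * b * (⟨ν, hν⟩ : F.autGroup S)⁻¹ ∈ AK F hTS χ :=
        AK_conj hTcl χ ⟨ν, hν⟩ hb
      refine mor_frSys_iff.2 ⟨_, hbA, _, hg, fun y hy => ?_⟩
      obtain ⟨x, hx, rfl⟩ := (ha.res hPS).mem_img.1 hy
      have hxS := hPS hx
      have hg₀S : g₀ x ∈ S := hg₀.mor.mem_S hx
      show a (f (a' (a x))) =
        autFun (ν * (b : MulAut S) * ν⁻¹) (autFun ν (g₀ (autFun ν⁻¹ (a x))))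
      rw [ha'a x hxS, ← hνa x hxS, autFun_inv ν hxS, autFun_mul _ _ (autFun_mem_R _ hg₀S),
        autFun_inv ν hg₀S, autFun_mul _ _ hg₀S, hfb x hx, hνa _ (autFun_mem_R _ hg₀S)]
    · intro P hPS f hf
      obtain ⟨α, f₀, hf₀, hfα⟩ := hfrat P f hf
      exact ⟨autFun (α : MulAut S), f₀, autFun_mor F le_rfl α.2, hf₀, hfα⟩
  have hwn : (FrSys F p (AK F hTS χ) hA).IsWeaklyNormalIn F p :=
    ⟨hsat, hF, Helper88.invariant_of_invData hinv⟩
  refine Helper88.normal_of_extCond hwn ?_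
  intro f hf hfS
  have hfF : Mor F S f := (mor_frSys_iff.1 hf).mor
  have hU : S ⊔ centralizerIn S S = S := sup_eq_left.2 inf_le_left
  rw [hU]
  refine ⟨f, hfF, hfS, fun _ _ => rfl, ?_⟩
  intro c hc
  have hcS : c ∈ S := hc.1
  have hcZ : c ∈ Subgroup.centralizer (S : Set Ω) := hc.2
  have hfc : f c ∈ Subgroup.centralizer (S : Set Ω) := by
    rw [Subgroup.mem_centralizer_iff]
    intro s hs
    obtain ⟨s', hs', rfl⟩ := surj_of_maps hfF le_rfl hfS s hs
    rw [← hfF.map_mul hs' hcS, ← hfF.map_mul hcS hs']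
    congr 1
    exact (Subgroup.mem_centralizer_iff.1 hcZ) s' hs'
  exact Subgroup.mul_mem _ (Subgroup.inv_mem _ ⟨hcS, hcZ⟩) ⟨hfS c hcS, hfc⟩

/-- **The main theorem.**  For a normal subsystem `E` of the saturated system `F` over `T ≤ S`
and a surjection `χ` of `Aut_F(T)` onto a nontrivial group of order prime to `p` trivial on
`Aut_E(T)`: a proper normal subsystem of `F` over `S` containing `E` and every `p'`-residual of
`F`, whose automorphisms of `S` are those of `F` restricting into the kernel of `χ`. -/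
theorem prime_index_system [Finite S] [Finite Δ] [Nontrivial Δ] (p : ℕ) [Fact p.Prime]
    (hS : IsPGroup p S) (F : FusionSystem S) (hF : F.IsSaturated p) (hTS : T ≤ S)
    (E : FusionSystem T) (hE : E.IsNormalIn F p) (hΔ : (Nat.card Δ).Coprime p)
    (χ : ↥(F.autGroup T) →* Δ) (hχ : Function.Surjective χ)
    (hker : (E.autGroup T).subgroupOf (F.autGroup T) ≤ χ.ker) :
    ∃ F₀ : FusionSystem S, F₀.IsNormalIn F p ∧ ¬ (∀ P : Subgroup Ω, F₀.Hom P = F.Hom P) ∧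
      E.IsSubsystemOf F₀ ∧
      (∀ α : MulAut ↥S, α ∈ F₀.autGroup S ↔ α ∈ F.autGroup S ∧
        ∃ β : ↥(F.autGroup T), χ β = 1 ∧
          ∀ t : ↥T, (((β : MulAut ↥T) t : ↥T) : Ω) = ((α ⟨(t : Ω), hTS t.2⟩ : ↥S) : Ω)) ∧
      ∀ R : FusionSystem S, F.IsPPrimeResidual p R → R.IsSubsystemOf F₀ := by
  have hW := hE.1
  have hEinv := hW.2.2
  have hTcl := hEinv.2.1
  have hA : ∀ g ∈ S, ∃ a ∈ AK F hTS χ,
      ∀ x ∈ S, autFun ((a : F.autGroup S) : MulAut S) x = g * x * g⁻¹ :=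
    AK_inner hS hTcl χ hΔ
  have hsat := fk_saturated hS hW hTS χ hΔ hker hA
  obtain ⟨hidx, hfrat, hcen⟩ := fr_facts p hS F hF (AK F hTS χ) hA
  refine ⟨FrSys F p (AK F hTS χ) hA, fk_normal hS hW hTS χ hΔ hker hA, ?_,
    fk_sub hS hW hTS χ hΔ hker hA, ?_, ?_⟩
  · intro h
    obtain ⟨δ, hδ⟩ := exists_ne (1 : Δ)
    obtain ⟨β, rfl⟩ := hχ δ
    obtain ⟨φ, hφ, hφf⟩ := autFun_mor F hTS β.2
    have h1 : Mor (FrSys F p (AK F hTS χ) hA) T (autFun (β : MulAut T)) :=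
      ⟨φ, by rw [h T]; exact hφ, hφf⟩
    exact hδ ((fk_T_iff hS hW hTS χ hΔ hker hA β).1 h1)
  · intro α
    constructor
    · intro hα
      have hm : Mor (FrSys F p (AK F hTS χ) hA) S (autFun α) := autFun_mor _ le_rfl hα
      have hαF : α ∈ F.autGroup S :=
        (Helper88.mem_autGroup_iff F le_rfl α).2 ((mor_frSys_iff.1 hm).mor)
      obtain ⟨a, ha, g₀, hg₀, hfa⟩ := mor_frSys_iff.1 hm
      have hc : a⁻¹ * ⟨α, hαF⟩ ∈ AK F hTS χ := by
        refine crux hS hW χ hΔ hker (a⁻¹ * ⟨α, hαF⟩) (tc_top hEinv)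
          (hg₀.congr (fun x hx => ?_))
        show autFun ((a : MulAut S)⁻¹ * α) x = g₀ x
        rw [autFun_mul _ _ hx, hfa x hx, autFun_inv _ (hg₀.mor.mem_S hx)]
      have hαA : (⟨α, hαF⟩ : F.autGroup S) ∈ AK F hTS χ := by
        have h5 := (AK F hTS χ).mul_mem ha hc
        have e : a * (a⁻¹ * ⟨α, hαF⟩) = (⟨α, hαF⟩ : F.autGroup S) := by group
        rwa [e] at h5
      obtain ⟨β, hβ, hres⟩ := mem_AK.1 hαA
      refine ⟨hαF, β, hβ, fun t => ?_⟩
      rw [← autFun_mem (β : MulAut T) t.2, hres _ t.2, autFun_mem α (hTS t.2)]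
    · rintro ⟨hαF, β, hβ, hres⟩
      have hαA : (⟨α, hαF⟩ : F.autGroup S) ∈ AK F hTS χ := ⟨β, hβ, fun t ht => by
        show autFun (β : MulAut T) t = autFun α t
        rw [autFun_mem (β : MulAut T) ht, autFun_mem α (hTS ht)]
        exact hres ⟨t, ht⟩⟩
      exact (Helper88.mem_autGroup_iff _ le_rfl α).2
        (mor_frSys_iff.2 (FrMor.of_mem hαA le_rfl))
  · intro R hR
    exact hR.2.2 _ hsat hidx

end Cfsg.Agent.Lib.Helper42.PChi
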