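import Mathlib
import Cfsg.Agent.Lib.Helper42.RedB
import Cfsg.Agent.Lib.Helper42.PChiA
import Cfsg.Agent.Lib.Helper42.PNormF
import Cfsg.Agent.Lib.Helper88.IsoB

/-!
# Subsystems of index prime to `p` have the same residual limit

The maps of the saturated subsystem of `p`-power index over a subgroup, a system normal in
itself, and the key lemma: the subsystem of `p`-power index of the `p'`-residual over the
hyperfocal subgroup has index prime to `p` in the `p`-residual.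
-/

set_option autoImplicit false

namespace Cfsg.Agent.Lib.Helper42.Red

open Cfsg Cfsg.FusionSystem Cfsg.Agent.Lib.Helper84 Cfsg.Agent.Lib.Helper84.SatCrit
open Cfsg.Agent.Lib.Helper88 (Mor extFun extFun_mem extFun_apply img mor_of_hom hom_of_mor
  mor_conj mor_id)

variable {Ω : Type*} [Group Ω] {S : Subgroup Ω}

theorem invData_self [Finite S] (F : FusionSystem S) : Helper88.InvData F F where
  sub := fun _ => subset_rfl
  sc := ⟨le_rfl, fun R _ φ hφ x => (F.le_of_mem hφ).2 x⟩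
  conj := by
    intro P hP f hf a a' ha ha'
    have haP : Mor F P a := ha.res hP
    obtain ⟨g, hg, hga⟩ := haP.exists_inv
    have h1 : Mor F (img P a) (fun y => f (g y)) := hg.comp hf (fun y hy => by
      obtain ⟨x, hx, rfl⟩ := haP.mem_img.1 hy
      rw [hga x hx]; exact hx)
    have h2 : Mor F (img P a) (fun y => a (f (g y))) := h1.comp ha (fun y hy => h1.mem_S hy)
    refine h2.congr (fun y hy => ?_)
    obtain ⟨x, hx, rfl⟩ := haP.mem_img.1 hy
    show a (f (g (a x))) = a (f (a' (a x)))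
    rw [hga x hx, ha' x (hP hx)]
  frat := by
    intro P hP f hf
    exact ⟨fun x => x, f, mor_id F le_rfl, hf, fun _ _ => rfl⟩

theorem weaklyNormal_self [Finite S] {F : FusionSystem S} {p : ℕ} (hF : F.IsSaturated p) :
    F.IsWeaklyNormalIn F p :=
  ⟨hF, hF, Helper88.invariant_of_invData (invData_self F)⟩

/-- the extension condition is automatic when `C_S(T) ≤ T`. -/
theorem extCond_of_cen [Finite S] {T : Subgroup Ω} {E : FusionSystem T} {F : FusionSystem S}
    (hEF : E.IsSubsystemOf F) (hcen : centralizerIn S T ≤ T) : Helper88.ExtCond E F := by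
  intro f hf hfT
  have e : T ⊔ centralizerIn S T = T := sup_eq_left.2 hcen
  rw [e]
  have hTS : T ≤ S := (Helper88.subsystem_mor hEF hf).le
  haveI : Finite T := Helper84.finite_of_le hTS
  refine ⟨f, Helper88.subsystem_mor hEF hf, hfT, fun _ _ => rfl, fun c hc => ?_⟩
  have hcT : c ∈ T := hcen hc
  refine ⟨T.mul_mem (T.inv_mem hcT) (hfT c hcT), Subgroup.mem_centralizer_iff.2 ?_⟩
  intro y hy
  have hy' : y ∈ img T f := by rw [hf.img_eq_self hfT]; exact hy
  obtain ⟨x, hx, rfl⟩ := hf.mem_img.1 hy'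
  have hc2 : ∀ z ∈ T, z * c = c * z := fun z hz => (Subgroup.mem_centralizer_iff.1 hc.2) z hz
  have h1 : f x * c = c * f x := hc2 (f x) (hfT x hx)
  have h2 : f x * f c = f c * f x := by
    rw [← hf.map_mul hx hcT, ← hf.map_mul hcT hx, hc2 x hx]
  calc f x * (c⁻¹ * f c) = c⁻¹ * (c * f x) * c⁻¹ * f c := by group
    _ = c⁻¹ * (f x * c) * c⁻¹ * f c := by rw [h1]
    _ = c⁻¹ * (f x * f c) := by group
    _ = c⁻¹ * (f c * f x) := by rw [h2]
    _ = c⁻¹ * f c * f x := by group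

theorem normal_self [Finite S] {F : FusionSystem S} {p : ℕ} (hF : F.IsSaturated p) :
    F.IsNormalIn F p :=
  Helper88.normal_of_extCond (weaklyNormal_self hF)
    (extCond_of_cen (fun _ => subset_rfl) inf_le_left)

/-- composites of restrictions of elements of the groups `O^p(Aut_F(R))` between subgroups of a
normal subgroup `M` containing the hyperfocal subgroup are maps of every subsystem of `p`-power
index over `M`. -/
theorem kmor_mor [Finite S] {p : ℕ} [Fact p.Prime] (hS : IsPGroup p S) {F : FusionSystem S}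
    (hF : F.IsSaturated p) {M : Subgroup Ω} (hMS : M ≤ S)
    (hMn : ∀ s ∈ S, ∀ m ∈ M, s * m * s⁻¹ ∈ M) {E₁ : FusionSystem M}
    (hidx : E₁.HasPPowerIndexIn F p) {P : Subgroup Ω} {κ : Ω → Ω}
    (hκ : Helper87.KMor F p P κ) : P ≤ M → Mor E₁ P κ := by
  induction hκ with
  | @res R P f g hRS hf hPR hfg =>
    intro hPM
    obtain ⟨α, hα, hαf⟩ := hf
    have hQR : R ⊓ M ≤ R := inf_le_left
    have h : ∀ α ∈ F.autGroup R, ∃ α' ∈ F.autGroup (R ⊓ M),
        ∀ z : ↥(R ⊓ M), α (Subgroup.inclusion hQR z) = Subgroup.inclusion hQR (α' z) := by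
      intro α hα
      have hm : Mor F R (autFun α) := autFun_mor F hRS hα
      have hmaps : ∀ x ∈ R ⊓ M, autFun α x ∈ R ⊓ M := fun x hx =>
        ⟨autFun_mem_R α hx.1, (Helper87.mor_mem_iff87 hS F hF hMn hidx.2.1 hm hx.1).2 hx.2⟩
      obtain ⟨α', hα', hα'x⟩ := (hm.res hQR).exists_aut hmaps
      refine ⟨α', hα', fun z => ?_⟩
      apply Subtype.ext
      show ((α ⟨z, hQR z.2⟩ : R) : Ω) = ((α' z : ↥(R ⊓ M)) : Ω)
      rw [hα'x z, autFun_mem α (hQR z.2)]
    obtain ⟨α', hα', hα'z⟩ := Helper87.pResidual_restrict hQR h hα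
    have h1 : α' ∈ E₁.autGroup (R ⊓ M) := hidx.2.2 (R ⊓ M) inf_le_right hα'
    have h2 : Mor E₁ (R ⊓ M) (autFun α') := autFun_mor E₁ inf_le_right h1
    refine (h2.res (le_inf hPR hPM)).congr (fun x hx => ?_)
    have hxQ : x ∈ R ⊓ M := ⟨hPR hx, hPM hx⟩
    have e : ((α ⟨x, hPR hx⟩ : R) : Ω) = ((α' ⟨x, hxQ⟩ : ↥(R ⊓ M)) : Ω) :=
      congrArg Subtype.val (hα'z ⟨x, hxQ⟩)
    rw [autFun_mem α' hxQ, hfg x hx, ← hαf ⟨x, hPR hx⟩, e]
  | @comp P f g h hf hg hh ihf ihg =>
    intro hPM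
    have h1 := ihf hPM
    have h2 := ihg (fun y hy => by
      obtain ⟨x, hx, rfl⟩ := h1.mem_img.1 hy
      exact h1.mem_S hx)
    exact (h1.comp h2 (fun x hx => h1.apply_mem_img hx)).congr (fun x hx => (hh x hx).symm)

/-- the maps of the saturated subsystem of `p`-power index over a normal subgroup. -/
theorem mor_ppow_iff [Finite S] {p : ℕ} [Fact p.Prime] (hS : IsPGroup p S) {F : FusionSystem S}
    (hF : F.IsSaturated p) {M : Subgroup Ω} (hMS : M ≤ S)
    (hMn : ∀ s ∈ S, ∀ m ∈ M, s * m * s⁻¹ ∈ M) {E₁ : FusionSystem M} (hsat : E₁.IsSaturated p)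
    (hidx : E₁.HasPPowerIndexIn F p) {P : Subgroup Ω} {f : Ω → Ω} :
    Mor E₁ P f ↔
      P ≤ M ∧ ∃ t ∈ M, ∃ κ, Helper87.KMor F p P κ ∧ ∀ x ∈ P, f x = t * κ x * t⁻¹ := by
  constructor
  · intro h
    have hle := Helper87.ppow_le87 hS hMS hsat hidx (Helper87.kSys_ppow hMS hidx.2.1)
    obtain ⟨φ, hφ, hφf⟩ := h
    exact (Helper87.mor_kSys_iff hMS hidx.2.1).1 ⟨φ, hle P hφ, hφf⟩
  · rintro ⟨hP, t, ht, κ, hκ, hf⟩
    have h1 := kmor_mor hS hF hMS hMn hidx hκ hP
    exact (h1.comp (mor_conj E₁ h1.img_le ht) (fun x hx => h1.apply_mem_img hx)).congr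
      (fun x hx => (hf x hx).symm)

/-- **Key lemma.** -/
theorem key_primeIdx [Finite S] {p : ℕ} [Fact p.Prime] (hS : IsPGroup p S) {F : FusionSystem S}
    (hF : F.IsSaturated p) {D : FusionSystem S} (hD : F.IsPPrimeResidual p D)
    (A : FusionSystem (F.hyperfocalSubgroup p)) (hA : F.IsPResidual p A)
    (K : FusionSystem (F.hyperfocalSubgroup p)) (hKsat : K.IsSaturated p)
    (hKidx : K.HasPPowerIndexIn D p) : K.HasPrimeToPIndexIn A p := by
  have hHS : F.hyperfocalSubgroup p ≤ S := Helper86.hyperfocal_le F p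
  haveI hfinH : Finite (F.hyperfocalSubgroup p) := Helper84.finite_of_le hHS
  have hHn : ∀ s ∈ S, ∀ m ∈ F.hyperfocalSubgroup p, s * m * s⁻¹ ∈ F.hyperfocalSubgroup p :=
    fun s hs m hm => Helper87.hyperfocal_conj_mem F p hs hm
  have hKF : K.IsSubsystemOf F := fun P => (hKidx.1 P).trans (hD.2.1.1 P)
  have hKA : K.IsSubsystemOf A := Helper86.le_of_hasPPowerIndexIn hS F K hKsat hKF A le_rfl hA.2
  have hDn : D.IsNormalIn F p :=
    PNorm.residual_normal p hS F hF F (weaklyNormal_self hF) D hD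
  have hDinv := Helper88.invData_of_invariant hDn.1.2.2
  have hFsc : F.StronglyClosed S := (invData_self F).sc
  rw [primeIdx_iff]
  refine ⟨hKA, fun P hP => (Subgroup.closure_le _).2 ?_⟩
  rintro a ⟨ha, k, hk⟩
  have hPS : P ≤ S := hP.trans hHS
  have hρ : Mor A P (autFun a) := autFun_mor A hP ha
  have hmaps : ∀ x ∈ P, autFun a x ∈ P := fun x hx => autFun_mem_R a hx
  have hiter : ∀ x ∈ P, (autFun a)^[p ^ k] x = x := by
    intro x hx
    rw [← PPrimeRes.autFun_pow_iterate a (p ^ k) x hx, ← hk, pow_orderOf_eq_one, autFun_one hx]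
  obtain ⟨ζ, hζ, t, ht, hζt⟩ := PChi.ppow_conj hA.1 hρ hmaps ⟨k, hiter⟩
  have hζF : Mor F P ζ := Helper88.subsystem_mor hA.2.1 hζ
  obtain ⟨b, ζ₀, hb, hζ₀, hζb⟩ := hDinv.frat P hPS ζ hζF
  obtain ⟨b', hb', hbS, hb'S, hb'b, hbb'⟩ := Helper88.aut_inverse hFsc hb
  have htS : t ∈ S := hHS ht
  have ht₀ : b' t ∈ F.hyperfocalSubgroup p :=
    (Helper87.mor_mem_iff87 hS F hF hHn le_rfl hb' htS).2 ht
  have hζ₀S : ∀ x ∈ P, ζ₀ x ∈ S := fun x hx => hζ₀.mem_S hx
  have hζ₀t : ∀ x ∈ P, ζ₀ (autFun a x) = b' t * ζ₀ x * (b' t)⁻¹ := by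
    intro x hx
    have h1 := hζt x hx
    rw [hζb x hx, hζb _ (hmaps x hx)] at h1
    have h2 := congrArg b' h1
    rw [hb'b _ (hζ₀S _ (hmaps x hx)), mor_conj_apply hb' htS (hbS _ (hζ₀S x hx)),
      hb'b _ (hζ₀S x hx)] at h2
    exact h2
  obtain ⟨s, hs, κ, hκ, hζ₀κ⟩ := Helper87.frattini hS D hD.1 hζ₀
  have hκK : Mor K P κ := kmor_mor hS hD.1 hHS hHn hKidx hκ hP
  have ht₁ : s⁻¹ * b' t * s ∈ F.hyperfocalSubgroup p := by
    have := hHn s⁻¹ (S.inv_mem hs) _ ht₀
    rwa [inv_inv] at this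
  have hκt : ∀ x ∈ P, κ (autFun a x) = (s⁻¹ * b' t * s) * κ x * (s⁻¹ * b' t * s)⁻¹ := by
    intro x hx
    have h1 := hζ₀t x hx
    rw [hζ₀κ x hx, hζ₀κ _ (hmaps x hx)] at h1
    have h2 : κ (autFun a x) = s⁻¹ * (s * κ (autFun a x) * s⁻¹) * s := by group
    rw [h2, h1]
    group
  obtain ⟨κ', hκ', hκ'κ⟩ := hκK.exists_inv
  have h3 : Mor K P (fun x => (s⁻¹ * b' t * s) * κ x * (s⁻¹ * b' t * s)⁻¹) :=
    hκK.comp (mor_conj K hκK.img_le ht₁) (fun x hx => hκK.apply_mem_img hx)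
  have h4 : Mor K P (fun x => κ' ((s⁻¹ * b' t * s) * κ x * (s⁻¹ * b' t * s)⁻¹)) :=
    h3.comp hκ' (fun x hx => by
      show (s⁻¹ * b' t * s) * κ x * (s⁻¹ * b' t * s)⁻¹ ∈ img P κ
      rw [← hκt x hx]
      exact hκK.apply_mem_img (hmaps x hx))
  have h5 : Mor K P (autFun a) := h4.congr (fun x hx => by
    show κ' ((s⁻¹ * b' t * s) * κ x * (s⁻¹ * b' t * s)⁻¹) = autFun a x
    rw [← hκt x hx, hκ'κ _ (hmaps x hx)])
  exact (Helper88.mem_autGroup_iff K hP a).2 h5

theorem top_case [Finite S] {p : ℕ} [Fact p.Prime] (hS : IsPGroup p S) {F D : FusionSystem S}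
    (hF : F.IsSaturated p) (hD : F.IsPPrimeResidual p D) {U : Subgroup Ω} (hU : U = S)
    (A A' K : FusionSystem U) (hAsat : A.IsSaturated p) (hAidx : A.HasPPowerIndexIn F p)
    (hA' : A.IsPPrimeResidual p A') (hKsat : K.IsSaturated p) (hKidx : K.HasPPowerIndexIn D p) :
    A' = K := by
  subst hU
  have e1 : A = F :=
    Helper86.eq_of_hasPPowerIndexIn hS F A F hAsat hF hAidx (Helper86.hasPPowerIndexIn_self F p)
  subst e1
  have e2 : K = D :=
    Helper86.eq_of_hasPPowerIndexIn hS D K D hKsat hD.1 hKidx (Helper86.hasPPowerIndexIn_self D p)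
  subst e2
  exact Helper86.eq_of_isPPrimeResidual hA' hD

/-- a system and its `p'`-residual have the same residual limit. -/
theorem resLim_pprime (p : ℕ) [Fact p.Prime] : ∀ n : ℕ, ∀ (S : Subgroup Ω)
    (F D : FusionSystem S), Finite S → IsPGroup p S → F.IsSaturated p → F.IsPPrimeResidual p D →
    Nat.card S = n → ∀ {U V : Subgroup Ω} (Finf : FusionSystem U) (Dinf : FusionSystem V),
    Finf.IsResidualLimitOf F p → Dinf.IsResidualLimitOf D p →
    ∀ P : Subgroup Ω, Finf.Hom P = Dinf.Hom P := by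
  intro n
  induction n using Nat.strong_induction_on with
  | _ n ih =>
    intro S F D hfin hS hF hD hn U V Finf Dinf hFinf hDinf P
    have hp : p.Prime := Fact.out
    have hHS : F.hyperfocalSubgroup p ≤ S := Helper86.hyperfocal_le F p
    haveI hfinH : Finite (F.hyperfocalSubgroup p) := Helper84.finite_of_le hHS
    have hHp : IsPGroup p (F.hyperfocalSubgroup p) := hS.to_le hHS
    obtain ⟨A, ⟨hAsat, hAidx⟩, -⟩ :=
      Helper87.ppow_exists_unique87 p hS F hF (F.hyperfocalSubgroup p) hHS le_rfl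
    obtain ⟨A', hA'⟩ := Helper84.PPrimeRes.exists_pPrimeResidual p hHp A hAsat
    obtain ⟨W, L, hL⟩ := exists_residualLimit' p hHp A' hA'.1
    have h1 : Finf.Hom P = L.Hom P :=
      Helper86.residualLimit_unique Finf F p hFinf hp hfin hS L
        (IsResidualLimitOf.step F p A A' ⟨hAsat, hAidx⟩ hA' hL) P
    have hDH : D.hyperfocalSubgroup p ≤ F.hyperfocalSubgroup p :=
      Helper86.hyperfocal_le_of_subsystem D F hD.2.1.1 p
    obtain ⟨K, ⟨hKsat, hKidx⟩, -⟩ :=
      Helper87.ppow_exists_unique87 p hS D hD.1 (F.hyperfocalSubgroup p) hHS hDH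
    obtain ⟨W', Kinf, hKinf⟩ := exists_residualLimit' p hHp K hKsat
    have h2 : Dinf.Hom P = Kinf.Hom P :=
      Helper86.residualLimit_eq_of_hasPPowerIndexIn p hS D K hKsat hKidx Dinf hDinf Kinf hKinf P
    have hKA : K.HasPrimeToPIndexIn A p :=
      key_primeIdx hS hF hD A ⟨hAsat, hAidx⟩ K hKsat hKidx
    have hKpp : K.IsPPrimeResidual p A' := pprime_of_primeIdx hKsat hKA hA'
    have h3 : Kinf.Hom P = L.Hom P := by
      by_cases hc : Nat.card (F.hyperfocalSubgroup p) < n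
      · exact ih _ hc (F.hyperfocalSubgroup p) K A' hfinH hHp hKsat hKpp rfl Kinf L hKinf hL P
      · have hU : F.hyperfocalSubgroup p = S := by
          apply Subgroup.eq_of_le_of_card_ge hHS
          omega
        have e := top_case hS hF hD hU A A' K hAsat hAidx hA' hKsat hKidx
        subst e
        exact Helper86.residualLimit_unique Kinf A' p hKinf hp hfinH hHp L hL P
    rw [h1, h2, h3]

/-- **A saturated subsystem of index prime to `p` has the same residual limit.** -/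
theorem resLim_primeIdx [Finite S] (p : ℕ) [Fact p.Prime] (hS : IsPGroup p S)
    (F F₁ : FusionSystem S) (hF : F.IsSaturated p) (hF₁ : F₁.IsSaturated p)
    (hidx : F₁.HasPrimeToPIndexIn F p) {U V : Subgroup Ω} (Finf : FusionSystem U)
    (hFinf : Finf.IsResidualLimitOf F p) (F₁inf : FusionSystem V)
    (h₁ : F₁inf.IsResidualLimitOf F₁ p) : ∀ P : Subgroup Ω, Finf.Hom P = F₁inf.Hom P := by
  intro P
  obtain ⟨D, hD⟩ := Helper84.PPrimeRes.exists_pPrimeResidual p hS F hF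
  have hD₁ : F₁.IsPPrimeResidual p D := pprime_of_primeIdx hF₁ hidx hD
  obtain ⟨W, Dinf, hDinf⟩ := exists_residualLimit' p hS D hD.1
  rw [resLim_pprime p _ S F D inferInstance hS hF hD rfl Finf Dinf hFinf hDinf P,
    resLim_pprime p _ S F₁ D inferInstance hS hF₁ hD₁ rfl F₁inf Dinf h₁ hDinf P]

end Cfsg.Agent.Lib.Helper42.Red
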