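import Mathlib
import Cfsg.Agent.Lib.Helper42.RedC

/-!
# Transfer of normality along automorphisms of the intermediate system

`F` normal in `Fh` over `S`, `F₁` normal in `F` and invariant under the automorphisms of `S` in
`Fh`: then `F₁` is normal in `Fh` (when the centralizer condition is automatic).  Transport of the
generating maps of the subsystems of `p`-power index and of index prime to `p`.
-/

set_option autoImplicit false

namespace Cfsg.Agent.Lib.Helper42.Red

open Cfsg Cfsg.FusionSystem Cfsg.Agent.Lib.Helper84 Cfsg.Agent.Lib.Helper84.SatCrit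
open Cfsg.Agent.Lib.Helper88 (Mor extFun extFun_mem extFun_apply img mor_of_hom hom_of_mor
  mor_conj mor_id)

variable {Ω : Type*} [Group Ω] {S Sh : Subgroup Ω}

/-- `a` is an automorphism of `S` in the system `Fh`, with inverse `a'`. -/
structure SAut (Fh : FusionSystem Sh) (S : Subgroup Ω) (a a' : Ω → Ω) : Prop where
  mor : Mor Fh S a
  mor' : Mor Fh S a'
  maps : ∀ x ∈ S, a x ∈ S
  maps' : ∀ x ∈ S, a' x ∈ S
  left : ∀ x ∈ S, a' (a x) = x
  right : ∀ x ∈ S, a (a' x) = x

namespace SAut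

variable {Fh : FusionSystem Sh} {a a' : Ω → Ω}

theorem symm (h : SAut Fh S a a') : SAut Fh S a' a :=
  ⟨h.mor', h.mor, h.maps', h.maps, h.right, h.left⟩

theorem of_mor [Finite Sh] (hsc : Fh.StronglyClosed S) (ha : Mor Fh S a) :
    ∃ a', SAut Fh S a a' := by
  obtain ⟨a', ha', haS, ha'S, ha'a, haa'⟩ := Helper88.aut_inverse hsc ha
  exact ⟨a', ha, ha', haS, ha'S, ha'a, haa'⟩

theorem mem_img (h : SAut Fh S a a') {R : Subgroup Ω} (hRS : R ≤ S) {y : Ω} :
    y ∈ img R a ↔ ∃ x ∈ R, a x = y := (h.mor.res hRS).mem_img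

theorem img_le (h : SAut Fh S a a') {R : Subgroup Ω} (hRS : R ≤ S) : img R a ≤ S := by
  intro y hy
  obtain ⟨x, hx, rfl⟩ := (h.mem_img hRS).1 hy
  exact h.maps x (hRS hx)

theorem back (h : SAut Fh S a a') {R : Subgroup Ω} (hRS : R ≤ S) :
    ∀ y ∈ img R a, a' y ∈ R := by
  intro y hy
  obtain ⟨x, hx, rfl⟩ := (h.mem_img hRS).1 hy
  rw [h.left x (hRS hx)]; exact hx

theorem img_img (h : SAut Fh S a a') {R : Subgroup Ω} (hRS : R ≤ S) :
    img (img R a) a' = R := by
  ext z
  rw [h.symm.mem_img (h.img_le hRS)]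
  constructor
  · rintro ⟨y, hy, rfl⟩
    exact h.back hRS y hy
  · intro hz
    exact ⟨a z, (h.mor.res hRS).apply_mem_img hz, h.left z (hRS hz)⟩

end SAut

/-- **Transfer of normality.** -/
theorem normal_transfer [Finite Sh] {p : ℕ} {Fh : FusionSystem Sh} {S₁ : Subgroup Ω}
    {F : FusionSystem S} {F₁ : FusionSystem S₁} (hF : F.IsNormalIn Fh p)
    (h1 : F₁.IsNormalIn F p)
    (hinv : ∀ a a' : Ω → Ω, SAut Fh S a a' → (∀ x ∈ S₁, a x ∈ S₁) ∧
      ∀ (P : Subgroup Ω), P ≤ S₁ → ∀ f, Mor F₁ P f → Mor F₁ (img P a) (fun y => a (f (a' y))))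
    (hcen : centralizerIn Sh S₁ ≤ S₁) : F₁.IsNormalIn Fh p := by
  have hSSh : S ≤ Sh := hF.1.2.2.2.1.1
  haveI : Finite S := Helper84.finite_of_le hSSh
  have hD := Helper88.invData_of_invariant hF.1.2.2
  have hD1 := Helper88.invData_of_invariant h1.1.2.2
  have hS₁S : S₁ ≤ S := hD1.sc.1
  have hsub : F₁.IsSubsystemOf Fh := fun P => (hD1.sub P).trans (hD.sub P)
  have hinvD : Helper88.InvData F₁ Fh := by
    refine ⟨hsub, ⟨hS₁S.trans hSSh, fun R hR φ hφ x => ?_⟩, ?_, ?_⟩
    · have hm : Mor Fh R (extFun φ) := mor_of_hom Fh hφ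
      obtain ⟨a, f₀, ha, hf₀, hfa⟩ := hD.frat R (hR.trans hS₁S) _ hm
      obtain ⟨a', hs⟩ := SAut.of_mor hD.sc ha
      have h2 : f₀ x ∈ S₁ := Helper88.stronglyClosed_mor hD1.sc hR hf₀ x x.2
      have h3 := (hinv a a' hs).1 _ h2
      rw [← extFun_apply φ x, hfa x x.2]; exact h3
    · intro P hP f hf a a' ha ha'a
      obtain ⟨b, a₀, hb, ha₀, hab⟩ := hD.frat S₁ hS₁S a ha
      obtain ⟨b', hs⟩ := SAut.of_mor hD.sc hb
      obtain ⟨a₀', ha₀', ha₀S, ha₀'S, ha₀'a₀, ha₀a₀'⟩ := Helper88.aut_inverse hD1.sc ha₀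
      have step1 : Mor F₁ (img P a₀) (fun y => a₀ (f (a₀' y))) :=
        hD1.conj P hP f hf a₀ a₀' ha₀ ha₀'a₀
      have hP1 : img P a₀ ≤ S₁ := step1.le
      have step2 := (hinv b b' hs).2 (img P a₀) hP1 _ step1
      have ham : Mor Fh P a := ha.res hP
      have ha₀m : Mor F P a₀ := ha₀.res hP
      have himg : img (img P a₀) b = img P a := by
        ext z
        have hbm : Mor Fh (img P a₀) b := hb.res (hP1.trans hS₁S)
        rw [hbm.mem_img, ham.mem_img]
        constructor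
        · rintro ⟨w, hw, rfl⟩
          obtain ⟨x, hx, rfl⟩ := ha₀m.mem_img.1 hw
          exact ⟨x, hx, hab x (hP hx)⟩
        · rintro ⟨x, hx, rfl⟩
          exact ⟨a₀ x, ha₀m.apply_mem_img hx, (hab x (hP hx)).symm⟩
      rw [himg] at step2
      refine step2.congr (fun y hy => ?_)
      obtain ⟨x, hx, rfl⟩ := ham.mem_img.1 hy
      have hxS : x ∈ S₁ := hP hx
      show b (a₀ (f (a₀' (b' (a x))))) = a (f (a' (a x)))
      rw [ha'a x hxS, hab x hxS, hs.left _ (hS₁S (ha₀S x hxS)), ha₀'a₀ x hxS]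
      exact (hab _ (hf.mem_S hx)).symm
    · intro P hP f hf
      obtain ⟨b, f₀, hb, hf₀, hfb⟩ := hD.frat P (hP.trans hS₁S) f hf
      obtain ⟨a₀, f₁, ha₀, hf₁, hfa₀⟩ := hD1.frat P hP f₀ hf₀
      refine ⟨fun x => b (a₀ x), f₁, ?_, hf₁, fun x hx => ?_⟩
      · exact (Helper88.subsystem_mor hD.sub ha₀).comp hb (fun x hx => ha₀.mem_S hx)
      · rw [hfb x hx, hfa₀ x hx]
  have hw : F₁.IsWeaklyNormalIn Fh p :=
    ⟨h1.1.1, hF.1.2.1, Helper88.invariant_of_invData hinvD⟩
  exact Helper88.normal_of_extCond hw (extCond_of_cen hsub hcen)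

/-- transport of an element of `O^p(Aut_F(R))`. -/
theorem ra_transport' [Finite Sh] {p : ℕ} {Fh : FusionSystem Sh} {F : FusionSystem S}
    (hD : Helper88.InvData F Fh) {a a' : Ω → Ω} (hs : SAut Fh S a a') {R : Subgroup Ω}
    (hRS : R ≤ S) {f : Ω → Ω} (hf : Helper87.RA F p R f) :
    Helper87.RA F p (img R a) (fun y => a (f (a' y))) := by
  haveI : Finite S := Helper84.finite_of_le hD.sc.1
  obtain ⟨α, hα, hαf⟩ := hf
  have hR'S : img R a ≤ S := hs.img_le hRS
  have hback := hs.back hRS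
  have key : ∀ α ∈ Subgroup.closure {b : MulAut R | b ∈ F.autGroup R ∧ (orderOf b).Coprime p},
      Helper87.RA F p (img R a) (fun y => a (autFun α (a' y))) := by
    intro α hα
    induction hα using Subgroup.closure_induction with
    | mem α hα =>
      have hm : Mor F R (autFun α) := autFun_mor F hRS hα.1
      have hm' : Mor F (img R a) (fun y => a (autFun α (a' y))) :=
        hD.conj R hRS _ hm a a' hs.mor hs.left
      have hmaps : ∀ y ∈ img R a, a (autFun α (a' y)) ∈ img R a := fun y hy =>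
        (hs.mor.res hRS).apply_mem_img (autFun_mem_R α (hback y hy))
      obtain ⟨β, hβ, hβy⟩ := hm'.exists_aut hmaps
      refine ⟨β, ?_, fun y => hβy y⟩
      rw [Helper87.map_pResidual_eq_closure]
      apply Subgroup.subset_closure
      refine ⟨hβ, ?_⟩
      have hpow : ∀ k : ℕ, ∀ y : ↥(img R a),
          (((β ^ k) y : ↥(img R a)) : Ω) = a (autFun (α ^ k) (a' y)) := by
        intro k
        induction k with
        | zero =>
          intro y
          rw [pow_zero, pow_zero, autFun_one (hback y y.2), hs.right y (hR'S y.2)]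
          rfl
        | succ k ih =>
          intro y
          rw [pow_succ', pow_succ', MulAut.mul_apply, hβy, ih y,
            hs.left _ (hRS (autFun_mem_R _ (hback y y.2))), autFun_mul _ _ (hback y y.2)]
      have h1 : β ^ orderOf α = 1 := by
        apply MulEquiv.ext
        intro y
        apply Subtype.ext
        rw [hpow, pow_orderOf_eq_one, autFun_one (hback y y.2), hs.right y (hR'S y.2)]
        rfl
      exact Nat.Coprime.coprime_dvd_left (orderOf_dvd_of_pow_eq_one h1) hα.2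
    | one =>
      refine (Helper87.RA.id F p (img R a)).congr (fun y hy => ?_)
      show a (autFun 1 (a' y)) = y
      rw [autFun_one (hback y hy), hs.right y (hR'S hy)]
    | mul α β hα hβ ihα ihβ =>
      refine (Helper87.RA.comp ihβ ihα).congr (fun y hy => ?_)
      show a (autFun (α * β) (a' y)) = a (autFun α (a' (a (autFun β (a' y)))))
      rw [hs.left _ (hRS (autFun_mem_R _ (hback y hy))), autFun_mul _ _ (hback y hy)]
    | inv α hα ih =>
      obtain ⟨g, hg, hgf, -⟩ := ih.inv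
      refine hg.congr (fun y hy => ?_)
      have hz : a (autFun α (a' (a (autFun α⁻¹ (a' y))))) = y := by
        rw [hs.left _ (hRS (autFun_mem_R _ (hback y hy))), autFun_inv' α (hback y hy),
          hs.right y (hR'S hy)]
      have hzm : a (autFun α⁻¹ (a' y)) ∈ img R a :=
        (hs.mor.res hRS).apply_mem_img (autFun_mem_R _ (hback y hy))
      have h3 : g (a (autFun α (a' (a (autFun α⁻¹ (a' y)))))) = a (autFun α⁻¹ (a' y)) :=
        hgf _ hzm
      rw [hz] at h3
      exact h3.symm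
  have h1 := key α (by rw [← Helper87.map_pResidual_eq_closure]; exact hα)
  refine h1.congr (fun y hy => ?_)
  rw [autFun_mem α (hback y hy), hαf ⟨a' y, hback y hy⟩]

/-- transport of a composite of restrictions of elements of the groups `O^p(Aut_F(R))`. -/
theorem kmor_transport [Finite Sh] {p : ℕ} {Fh : FusionSystem Sh} {F : FusionSystem S}
    (hD : Helper88.InvData F Fh) {a a' : Ω → Ω} (hs : SAut Fh S a a') {P : Subgroup Ω}
    {κ : Ω → Ω} (hκ : Helper87.KMor F p P κ) :
    Helper87.KMor F p (img P a) (fun y => a (κ (a' y))) := by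
  induction hκ with
  | @res R P f g hRS hf hPR hfg =>
    have h1 := ra_transport' hD hs hRS hf
    have heR : Mor Fh R a := hs.mor.res hRS
    refine Helper87.KMor.res (hs.img_le hRS) h1 (Helper88.img_mono heR hPR) (fun y hy => ?_)
    obtain ⟨x, hx, rfl⟩ := (heR.res hPR).mem_img.1 hy
    show a (g (a' (a x))) = a (f (a' (a x)))
    rw [hs.left x (hRS (hPR hx)), hfg x hx]
  | @comp P f g h hf hg hh ihf ihg =>
    have hfm := hf.mor
    have hPS : P ≤ S := hfm.le
    have hePm : Mor Fh P a := hs.mor.res hPS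
    have heQ : Mor Fh (img P f) a := hs.mor.res hfm.img_le
    refine (Helper87.KMor.comp' ihf ihg ?_).congr ?_
    · intro y hy
      obtain ⟨x, hx, rfl⟩ := hePm.mem_img.1 hy
      show a (f (a' (a x))) ∈ img (img P f) a
      rw [hs.left x (hPS hx)]
      exact heQ.apply_mem_img (hfm.apply_mem_img hx)
    · intro y hy
      obtain ⟨x, hx, rfl⟩ := hePm.mem_img.1 hy
      show a (h (a' (a x))) = a (g (a' (a (f (a' (a x))))))
      rw [hs.left x (hPS hx), hs.left _ (hfm.mem_S hx), hh x hx]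

/-- transport of centric subgroups. -/
theorem centric_transport [Finite Sh] {Fh : FusionSystem Sh} {F : FusionSystem S}
    (hD : Helper88.InvData F Fh) {a a' : Ω → Ω} (hs : SAut Fh S a a') {R : Subgroup Ω}
    (hc : F.IsCentric R) : F.IsCentric (img R a) := by
  have hRS := hc.1
  have hR'S : img R a ≤ S := hs.img_le hRS
  refine ⟨hR'S, fun Q hQ => ?_⟩
  obtain ⟨f, hf, rfl⟩ := (Helper88.isConj_iff F).1 hQ
  have hg : Mor F (img (img R a) a') (fun y => a' (f (a y))) :=
    hD.conj (img R a) hR'S f hf a' a hs.mor' hs.right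
  rw [hs.img_img hRS] at hg
  have hconj : F.IsConj R (img R (fun y => a' (f (a y)))) :=
    (Helper88.isConj_iff F).2 ⟨_, hg, rfl⟩
  have hcen := hc.2 _ hconj
  intro c hc'
  have hcS : c ∈ S := hc'.1
  have h1 : a' c ∈ centralizerIn S (img R (fun y => a' (f (a y)))) := by
    refine ⟨hs.maps' c hcS, Subgroup.mem_centralizer_iff.2 ?_⟩
    intro z hz
    obtain ⟨x, hx, rfl⟩ := hg.mem_img.1 hz
    have hq : f (a x) ∈ img (img R a) f := hf.apply_mem_img ((hs.mor.res hRS).apply_mem_img hx)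
    have hqS : f (a x) ∈ S := hf.mem_S ((hs.mor.res hRS).apply_mem_img hx)
    have hcomm : f (a x) * c = c * f (a x) := (Subgroup.mem_centralizer_iff.1 hc'.2) _ hq
    rw [← hs.mor'.map_mul hqS hcS, ← hs.mor'.map_mul hcS hqS, hcomm]
  have h2 := hcen h1
  obtain ⟨x, hx, hxc⟩ := hg.mem_img.1 h2
  have h3 : c = f (a x) := by
    have := congrArg a hxc
    rw [hs.right _ (hf.mem_S ((hs.mor.res hRS).apply_mem_img hx)), hs.right c hcS] at this
    exact this.symm
  rw [h3]
  exact hf.apply_mem_img ((hs.mor.res hRS).apply_mem_img hx)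

/-- transport of a composite of restrictions of automorphisms of `p`-power order of centric
subgroups. -/
theorem g0_transport [Finite Sh] {p : ℕ} {Fh : FusionSystem Sh} {F : FusionSystem S}
    (hD : Helper88.InvData F Fh) {a a' : Ω → Ω} (hs : SAut Fh S a a') {P : Subgroup Ω}
    {f : Ω → Ω} (hg : PPrimeRes.G0 F p P f) :
    PPrimeRes.G0 F p (img P a) (fun y => a (f (a' y))) := by
  induction hg with
  | base R P f₁ f hc hPR hf₁ hmaps hk hff =>
    have hRS : R ≤ S := hc.1
    have heR : Mor Fh R a := hs.mor.res hRS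
    have hR'S : img R a ≤ S := hs.img_le hRS
    have hback := hs.back hRS
    have hf' : Mor F (img R a) (fun y => a (f₁ (a' y))) :=
      hD.conj R hRS f₁ hf₁ a a' hs.mor hs.left
    have hmaps' : ∀ y ∈ img R a, a (f₁ (a' y)) ∈ img R a :=
      fun y hy => heR.apply_mem_img (hmaps _ (hback y hy))
    obtain ⟨k, hk⟩ := hk
    have hiter : ∀ n : ℕ, ∀ y ∈ img R a,
        (fun y => a (f₁ (a' y)))^[n] y = a (f₁^[n] (a' y)) := by
      intro n
      induction n with
      | zero => intro y hy; exact (hs.right y (hR'S hy)).symm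
      | succ n ih =>
        intro y hy
        rw [Function.iterate_succ_apply', ih y hy]
        show a (f₁ (a' (a (f₁^[n] (a' y))))) = a (f₁^[n + 1] (a' y))
        rw [hs.left _ (hRS (PPrimeRes.iterate_mem hmaps n _ (hback y hy))),
          Function.iterate_succ_apply']
    refine PPrimeRes.G0.base (img R a) (img P a) _ _ (centric_transport hD hs hc)
      (Helper88.img_mono heR hPR) hf' hmaps' ⟨k, ?_⟩ ?_
    · intro y hy
      rw [hiter (p ^ k) y hy, hk _ (hback y hy), hs.right y (hR'S hy)]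
    · intro y hy
      obtain ⟨x, hx, rfl⟩ := (heR.res hPR).mem_img.1 hy
      show a (f (a' (a x))) = a (f₁ (a' (a x)))
      rw [hs.left x (hRS (hPR hx)), hff x hx]
  | comp P f g h' hf hg hh ihf ihg =>
    have hfm := hf.mor
    have hPS : P ≤ S := hfm.le
    have hePm : Mor Fh P a := hs.mor.res hPS
    have hQS : img P f ≤ S := hfm.img_le
    have heQ : Mor Fh (img P f) a := hs.mor.res hQS
    have himg : img (img P a) (fun y => a (f (a' y))) = img (img P f) a := by
      ext z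
      rw [ihf.mor.mem_img, heQ.mem_img]
      constructor
      · rintro ⟨y, hy, rfl⟩
        obtain ⟨x, hx, rfl⟩ := hePm.mem_img.1 hy
        refine ⟨f x, hfm.apply_mem_img hx, ?_⟩
        show a (f x) = a (f (a' (a x)))
        rw [hs.left x (hPS hx)]
      · rintro ⟨w, hw, rfl⟩
        obtain ⟨x, hx, rfl⟩ := hfm.mem_img.1 hw
        refine ⟨a x, hePm.apply_mem_img hx, ?_⟩
        show a (f (a' (a x))) = a (f x)
        rw [hs.left x (hPS hx)]
    refine PPrimeRes.G0.comp _ _ _ _ ihf (by rw [himg]; exact ihg) ?_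
    intro y hy
    obtain ⟨x, hx, rfl⟩ := hePm.mem_img.1 hy
    show a (h' (a' (a x))) = a (g (a' (a (f (a' (a x))))))
    rw [hs.left x (hPS hx), hs.left _ (hfm.mem_S hx), hh x hx]

/-! ### conjugation of automorphisms of `T` -/

theorem autFun_inv_eq {T : Subgroup Ω} {a a' : Ω → Ω} (hl : ∀ x ∈ T, a' (a x) = x)
    {ā : MulAut T} (hā : ∀ t ∈ T, autFun ā t = a t) : ∀ t ∈ T, autFun ā⁻¹ t = a' t := by
  intro t ht
  have h1 := autFun_inv' ā ht
  rw [hā _ (autFun_mem_R _ ht)] at h1
  have h2 := hl _ (autFun_mem_R ā⁻¹ ht)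
  rw [h1] at h2
  exact h2.symm

theorem autFun_conj_eq {T : Subgroup Ω} {a a' : Ω → Ω} (hl : ∀ x ∈ T, a' (a x) = x)
    {ā : MulAut T} (hā : ∀ t ∈ T, autFun ā t = a t) (γ : MulAut T) :
    ∀ t ∈ T, autFun (ā * γ * ā⁻¹) t = a (autFun γ (a' t)) := by
  intro t ht
  have h1 : autFun ā⁻¹ t ∈ T := autFun_mem_R _ ht
  rw [autFun_mul _ _ ht, autFun_mul _ _ h1, hā _ (autFun_mem_R _ h1), autFun_inv_eq hl hā t ht]

theorem aut_conj_mem {X : Subgroup Ω} {G : FusionSystem X} {T : Subgroup Ω} (hTX : T ≤ X)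
    {a a' : Ω → Ω} (hl : ∀ x ∈ T, a' (a x) = x)
    (hconj : ∀ f, Mor G T f → Mor G T (fun y => a (f (a' y))))
    {ā : MulAut T} (hā : ∀ t ∈ T, autFun ā t = a t)
    {γ : MulAut T} (hγ : γ ∈ G.autGroup T) : ā * γ * ā⁻¹ ∈ G.autGroup T := by
  rw [Helper88.mem_autGroup_iff G hTX]
  refine (hconj _ (autFun_mor G hTX hγ)).congr (fun t ht => ?_)
  exact (autFun_conj_eq hl hā γ t ht).symm

/-! ### the elements acting on `T` as elements of a given group of automorphisms -/

/-- the elements of `S` acting on `T` by conjugation as elements of `K`. -/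
def NK (S T : Subgroup Ω) (K : Subgroup (MulAut T)) : Subgroup Ω where
  carrier := {x | x ∈ S ∧ ∃ κ ∈ K, ∀ t : T, ((κ t : T) : Ω) = x * t * x⁻¹}
  mul_mem' := by
    rintro x y ⟨hx, κ, hκ, h1⟩ ⟨hy, κ', hκ', h2⟩
    refine ⟨S.mul_mem hx hy, κ * κ', K.mul_mem hκ hκ', fun t => ?_⟩
    rw [MulAut.mul_apply, h1, h2]; group
  one_mem' := ⟨S.one_mem, 1, K.one_mem, fun t => by simp⟩
  inv_mem' := by
    rintro x ⟨hx, κ, hκ, h1⟩
    refine ⟨S.inv_mem hx, κ⁻¹, K.inv_mem hκ, fun t => ?_⟩
    have h2 := h1 (κ⁻¹ t)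
    rw [MulAut.apply_inv_self] at h2
    rw [h2]; group

theorem mem_NK {T : Subgroup Ω} {K : Subgroup (MulAut T)} {x : Ω} :
    x ∈ NK S T K ↔ x ∈ S ∧ ∃ κ ∈ K, ∀ t : T, ((κ t : T) : Ω) = x * t * x⁻¹ := Iff.rfl

theorem NK_le {T : Subgroup Ω} {K : Subgroup (MulAut T)} : NK S T K ≤ S := fun _ hx => hx.1

theorem cen_le_NK {T : Subgroup Ω} {K : Subgroup (MulAut T)} : centralizerIn S T ≤ NK S T K := by
  intro x hx
  refine ⟨hx.1, 1, K.one_mem, fun t => ?_⟩
  have h := (Subgroup.mem_centralizer_iff.1 hx.2) t t.2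
  show (t : Ω) = x * t * x⁻¹
  rw [← h]; group

theorem T_le_NK {T : Subgroup Ω} {K : Subgroup (MulAut T)} (hTS : T ≤ S)
    (hK : ∀ g : T, MulAut.conj g ∈ K) : T ≤ NK S T K := by
  intro x hx
  exact ⟨hTS hx, MulAut.conj ⟨x, hx⟩, hK _, fun t => by simp [MulAut.conj_apply]⟩

end Cfsg.Agent.Lib.Helper42.Red
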