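import Mathlib
import Cfsg.Agent.Lib.Helper42.RedA
import Cfsg.Agent.Lib.Helper42.RedD
import Cfsg.Agent.Lib.Helper84.PIdxN4
import Cfsg.Agent.Lib.Helper84.HypStrongly

/-!
# The step of `p`-power index

`E` weakly normal in `F` over `T`, `F` normal in `Fh`, and `K` the subgroup of `Aut_F(T)`
generated by `Aut_E(T)` and the elements of order prime to `p`: the saturated subsystem of
`p`-power index of `F` over the subgroup of the elements of `S` acting on `T` as elements of `K`.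
-/

set_option autoImplicit false

namespace Cfsg.Agent.Lib.Helper42.Red

open Cfsg Cfsg.FusionSystem Cfsg.Agent.Lib.Helper84 Cfsg.Agent.Lib.Helper84.SatCrit
open Cfsg.Agent.Lib.Helper88 (Mor extFun extFun_mem extFun_apply img mor_of_hom hom_of_mor
  mor_conj mor_id)

variable {Ω : Type*} [Group Ω] {S Sh : Subgroup Ω}

/-- a `p`-power power of an automorphism in `F` of a subgroup of `T` is an element of the kernel
composed with a map of `E`. -/
theorem ke_iterate [Finite S] {p : ℕ} [Fact p.Prime] {F : FusionSystem S} {T : Subgroup Ω}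
    {E : FusionSystem T} (hEinv : E.IsInvariantIn F) {Δ : Type*} [Group Δ]
    (χ : ↥(F.autGroup T) →* Δ)
    (hχ : ∀ β : F.autGroup T, (orderOf (β : MulAut T)).Coprime p → χ β = 1)
    {Q : Subgroup Ω} (hQT : Q ≤ T) {ρ : Ω → Ω} (hρ : Mor F Q ρ) (hmaps : ∀ x ∈ Q, ρ x ∈ Q) :
    ∃ k : ℕ, PChi.KE F E χ Q (ρ^[p ^ k]) := by
  have hTcl := hEinv.2.1
  have hTS : T ≤ S := hTcl.1
  haveI : Finite T := Helper84.finite_of_le hTS
  have hED := Helper88.invData_of_invariant hEinv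
  obtain ⟨a, e, ha, he, hρae⟩ := hED.frat Q hQT ρ hρ
  obtain ⟨a', ha', haT, ha'T, ha'a, haa'⟩ := Helper88.aut_inverse hTcl ha
  obtain ⟨α, hα, hαa⟩ := ha.exists_aut haT
  have key : ∀ n : ℕ, ∃ en, Mor E Q en ∧ ∀ x ∈ Q, ρ^[n] x = a^[n] (en x) := by
    intro n
    induction n with
    | zero => exact ⟨fun x => x, mor_id E hQT, fun x hx => rfl⟩
    | succ n ih =>
      obtain ⟨en, hen, hn⟩ := ih
      have hb : Mor F T (a'^[n]) := PNorm.mor_iterate ha' ha'T n
      have hb'b : ∀ x ∈ T, a^[n] (a'^[n] x) = x := PNorm.iterate_left_inv ha'T haa' n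
      have hbb' : ∀ x ∈ T, a'^[n] (a^[n] x) = x := PNorm.iterate_left_inv haT ha'a n
      have hc : Mor E (img Q (a'^[n])) (fun y => a'^[n] (e (a^[n] y))) :=
        hED.conj Q hQT e he _ _ hb hb'b
      have hle : img Q en ≤ img Q (a'^[n]) := by
        intro y hy
        obtain ⟨x, hx, rfl⟩ := hen.mem_img.1 hy
        have h1 : a^[n] (en x) ∈ Q := by
          rw [← hn x hx]; exact PPrimeRes.iterate_mem hmaps n x hx
        have h2 := (hb.res hQT).apply_mem_img h1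
        rwa [hbb' _ (hen.mem_S hx)] at h2
      refine ⟨fun x => a'^[n] (e (a^[n] (en x))),
        hen.comp (hc.res hle) (fun x hx => hen.apply_mem_img hx), fun x hx => ?_⟩
      have h1 : ρ^[n] x ∈ Q := PPrimeRes.iterate_mem hmaps n x hx
      have h2 : e (a^[n] (en x)) ∈ T := he.mem_S (by rw [← hn x hx]; exact h1)
      rw [Function.iterate_succ_apply', hρae _ h1, hn x hx, Function.iterate_succ_apply',
        hb'b _ h2]
  obtain ⟨k, hk⟩ := exists_pow_coprime_order p α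
  obtain ⟨en, hen, hn⟩ := key (p ^ k)
  refine ⟨k, ⟨⟨α ^ p ^ k, Subgroup.pow_mem _ hα _⟩, hχ _ hk, en, hen, fun x hx => ?_⟩⟩
  have hz : en x ∈ T := hen.mem_S hx
  rw [hn x hx]
  show a^[p ^ k] (en x) = autFun (α ^ p ^ k) (en x)
  rw [PPrimeRes.autFun_pow_iterate α (p ^ k) _ hz]
  exact (PNorm.iterate_agree (fun y hy => by rw [autFun_mem α hy]; exact hαa ⟨y, hy⟩) haT
    (p ^ k) _ hz).symm

/-- the elements of `O^p(Aut_F(Q))`, `Q ≤ T`, are elements of the kernel composed with maps of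
`E`. -/
theorem opke [Finite S] {p : ℕ} [Fact p.Prime] {F : FusionSystem S} {T : Subgroup Ω}
    {E : FusionSystem T} (hEinv : E.IsInvariantIn F) {Δ : Type*} [Group Δ]
    (χ : ↥(F.autGroup T) →* Δ)
    (hχ : ∀ β : F.autGroup T, (orderOf (β : MulAut T)).Coprime p → χ β = 1)
    {Q : Subgroup Ω} (hQT : Q ≤ T) {α : MulAut Q}
    (hα : α ∈ (pResidual p ↥(F.autGroup Q)).map (F.autGroup Q).subtype) :
    PChi.KE F E χ Q (autFun α) := by
  have hTS : T ≤ S := hEinv.2.1.1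
  have hQS : Q ≤ S := hQT.trans hTS
  haveI : Finite Q := Helper84.finite_of_le hQS
  have hone : PChi.KE F E χ Q (autFun (1 : MulAut Q)) :=
    (PChi.KE.of_mor (mor_id E hQT)).congr (fun x hx => autFun_one hx)
  have hmul : ∀ α β : MulAut Q, PChi.KE F E χ Q (autFun α) → PChi.KE F E χ Q (autFun β) →
      PChi.KE F E χ Q (autFun (α * β)) := by
    intro α β h1 h2
    exact (PChi.KE.comp hEinv h2 h1 (fun x hx => autFun_mem_R β hx)).congr
      (fun x hx => autFun_mul α β hx)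
  have hpow : ∀ (α : MulAut Q), PChi.KE F E χ Q (autFun α) →
      ∀ n : ℕ, PChi.KE F E χ Q (autFun (α ^ n)) := by
    intro α h n
    induction n with
    | zero => rw [pow_zero]; exact hone
    | succ n ih => rw [pow_succ']; exact hmul _ _ h ih
  rw [Helper87.map_pResidual_eq_closure] at hα
  induction hα using Subgroup.closure_induction with
  | mem b hb =>
    obtain ⟨k, hk⟩ := ke_iterate hEinv χ hχ hQT (autFun_mor F hQS hb.1)
      (fun x hx => autFun_mem_R b hx)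
    have h1 : PChi.KE F E χ Q (autFun (b ^ p ^ k)) :=
      hk.congr (fun x hx => PPrimeRes.autFun_pow_iterate b (p ^ k) x hx)
    by_cases hm : orderOf b = 1
    · have hb1 : b = 1 := orderOf_eq_one_iff.1 hm
      rw [hb1]; exact hone
    · have hm1 : 1 < orderOf b := by have := orderOf_pos b; omega
      obtain ⟨j, -, hj⟩ := Nat.exists_mul_mod_eq_one_of_coprime
        (Nat.Coprime.pow_left k hb.2.symm) hm1
      have h2 := hpow _ h1 j
      have e : (b ^ p ^ k) ^ j = b := by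
        rw [← pow_mul, ← pow_mod_orderOf, hj, pow_one]
      rwa [e] at h2
  | one => exact hone
  | mul a b _ _ iha ihb => exact hmul _ _ iha ihb
  | inv a _ ih =>
    have hpos := orderOf_pos a
    have h1 : a * a ^ (orderOf a - 1) = 1 := by
      rw [← pow_succ', Nat.sub_add_cancel hpos, pow_orderOf_eq_one]
    rw [inv_eq_of_mul_eq_one_right h1]
    exact hpow _ ih _

/-- composites of restrictions of elements of the groups `O^p(Aut_F(R))` between subgroups of `T`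
are elements of the kernel composed with maps of `E`. -/
theorem kmor_ke [Finite S] {p : ℕ} [Fact p.Prime] {F : FusionSystem S} {T : Subgroup Ω}
    {E : FusionSystem T} (hEinv : E.IsInvariantIn F) {Δ : Type*} [Group Δ]
    (χ : ↥(F.autGroup T) →* Δ)
    (hχ : ∀ β : F.autGroup T, (orderOf (β : MulAut T)).Coprime p → χ β = 1)
    {P : Subgroup Ω} {κ : Ω → Ω} (hκ : Helper87.KMor F p P κ) :
    P ≤ T → PChi.KE F E χ P κ := by
  have hTcl := hEinv.2.1
  induction hκ with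
  | @res R P f g hRS hf hPR hfg =>
    intro hPT
    obtain ⟨α, hα, hαf⟩ := hf
    have hQR : R ⊓ T ≤ R := inf_le_left
    have h : ∀ α ∈ F.autGroup R, ∃ α' ∈ F.autGroup (R ⊓ T),
        ∀ z : ↥(R ⊓ T), α (Subgroup.inclusion hQR z) = Subgroup.inclusion hQR (α' z) := by
      intro α hα
      have hm : Mor F R (autFun α) := autFun_mor F hRS hα
      have hmaps : ∀ x ∈ R ⊓ T, autFun α x ∈ R ⊓ T := fun x hx =>
        ⟨autFun_mem_R α hx.1, Helper88.stronglyClosed_mor hTcl inf_le_right (hm.res hQR) x hx⟩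
      obtain ⟨α', hα', hα'x⟩ := (hm.res hQR).exists_aut hmaps
      refine ⟨α', hα', fun z => ?_⟩
      apply Subtype.ext
      show ((α ⟨z, hQR z.2⟩ : R) : Ω) = ((α' z : ↥(R ⊓ T)) : Ω)
      rw [hα'x z, autFun_mem α (hQR z.2)]
    obtain ⟨α', hα', hα'z⟩ := Helper87.pResidual_restrict hQR h hα
    have h2 := opke hEinv χ hχ inf_le_right hα'
    refine (h2.res (le_inf hPR hPT)).congr (fun x hx => ?_)
    have hxQ : x ∈ R ⊓ T := ⟨hPR hx, hPT hx⟩
    have e : ((α ⟨x, hPR hx⟩ : R) : Ω) = ((α' ⟨x, hxQ⟩ : ↥(R ⊓ T)) : Ω) :=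
      congrArg Subtype.val (hα'z ⟨x, hxQ⟩)
    rw [autFun_mem α' hxQ, hfg x hx, ← hαf ⟨x, hPR hx⟩, e]
  | @comp P f g h hf hg hh ihf ihg =>
    intro hPT
    have hfT : ∀ x ∈ P, f x ∈ T := Helper88.stronglyClosed_mor hTcl hPT hf.mor
    have himg : img P f ≤ T := by
      intro y hy
      obtain ⟨x, hx, rfl⟩ := hf.mor.mem_img.1 hy
      exact hfT x hx
    exact (PChi.KE.comp hEinv (ihf hPT) (ihg himg)
      (fun x hx => hf.mor.apply_mem_img hx)).congr (fun x hx => hh x hx)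

/-- **The step of `p`-power index.** -/
theorem ppow_step [Finite Sh] {p : ℕ} [Fact p.Prime] {Fh : FusionSystem Sh} [Finite S]
    (hS : IsPGroup p S) {F : FusionSystem S} (hFn : F.IsNormalIn Fh p) {T : Subgroup Ω}
    {E : FusionSystem T} (hEh : E.IsNormalIn Fh p) (hEF : E.IsWeaklyNormalIn F p)
    (hcen : T ⊔ centralizerIn Sh T ≤ S)
    (hK : Kp p (E.autGroup T) (F.autGroup T) ≠ F.autGroup T) :
    ∃ (S₁ : Subgroup Ω) (F₁ : FusionSystem S₁), T ⊔ centralizerIn Sh T ≤ S₁ ∧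
      F₁.IsNormalIn Fh p ∧ E.IsWeaklyNormalIn F₁ p ∧ F₁.HasPPowerIndexIn F p ∧
      Nat.card S₁ < Nat.card S := by
  have hF : F.IsSaturated p := hFn.1.1
  have hEinv := hEF.2.2
  have hED := Helper88.invData_of_invariant hEinv
  have hTcl : F.StronglyClosed T := hEinv.2.1
  have hTS : T ≤ S := hTcl.1
  haveI : Finite T := Helper84.finite_of_le hTS
  have hD := Helper88.invData_of_invariant hFn.1.2.2
  have hEhD := Helper88.invData_of_invariant hEh.1.2.2
  have hEFaut : E.autGroup T ≤ F.autGroup T := autGroup_mono' hEinv.1 T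
  obtain ⟨K, hKeq⟩ : ∃ K : Subgroup (MulAut T), K = Kp p (E.autGroup T) (F.autGroup T) :=
    ⟨_, rfl⟩
  rw [← hKeq] at hK
  have hKle : K ≤ F.autGroup T := by rw [hKeq]; exact Kp_le hEFaut
  have hEK : E.autGroup T ≤ K := by rw [hKeq]; exact le_Kp
  have hcopK : ∀ b ∈ F.autGroup T, (orderOf b).Coprime p → b ∈ K := by
    rw [hKeq]; exact fun b hb ho => mem_Kp_of_coprime hb ho
  have hclK : Subgroup.closure {b : MulAut T | b ∈ F.autGroup T ∧ (orderOf b).Coprime p} ≤ K :=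
    (Subgroup.closure_le _).2 (fun b hb => hcopK b hb.1 hb.2)
  have hKconj' : ∀ g : MulAut T, (∀ a ∈ E.autGroup T, g * a * g⁻¹ ∈ E.autGroup T) →
      (∀ b ∈ F.autGroup T, g * b * g⁻¹ ∈ F.autGroup T) → ∀ k ∈ K, g * k * g⁻¹ ∈ K := by
    rw [hKeq]; exact fun g hA hB => Kp_conj hA hB
  have hKconj : ∀ (a a' : Ω → Ω) (ā : MulAut T), (∀ x ∈ T, a' (a x) = x) →
      (∀ t ∈ T, autFun ā t = a t) →
      (∀ f, Mor E T f → Mor E T (fun y => a (f (a' y)))) →
      (∀ f, Mor F T f → Mor F T (fun y => a (f (a' y)))) →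
      ∀ κ ∈ K, ā * κ * ā⁻¹ ∈ K := by
    intro a a' ā hl hā hcE hcF κ hκ
    exact hKconj' ā (fun γ hγ => aut_conj_mem le_rfl hl hcE hā hγ)
      (fun γ hγ => aut_conj_mem hTS hl hcF hā hγ) κ hκ
  have hInn : ∀ g : T, MulAut.conj g ∈ K := by
    intro g
    apply hEK
    rw [Helper88.mem_autGroup_iff E le_rfl]
    refine (mor_conj E le_rfl g.2).congr (fun x hx => ?_)
    rw [extFun_mem _ hx]
    rfl
  have hTS₁ : T ≤ NK S T K := T_le_NK hTS hInn
  have hcS₁ : T ⊔ centralizerIn Sh T ≤ NK S T K :=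
    sup_le hTS₁ (fun c hc => cen_le_NK ⟨hcen (Subgroup.mem_sup_right hc), hc.2⟩)
  have hhyp : F.hyperfocalSubgroup p ≤ NK S T K := by
    intro x hx
    obtain ⟨α, hα, hαx⟩ := Helper84.hyperfocal_acts_in p hS F hF T hTcl x hx
    refine ⟨Helper86.hyperfocal_le F p hx, α, ?_, hαx⟩
    have hle : ((Cfsg.pResidual p ↥(F.autGroup T)).map (F.autGroup T).subtype ⊔ Cfsg.Inn ↥T :
        Subgroup (MulAut ↥T)) ≤ K := by
      refine sup_le ?_ ?_
      · rw [Helper87.map_pResidual_eq_closure]; exact hclK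
      · rintro _ ⟨g, rfl⟩; exact hInn g
    exact hle hα
  have hMn : ∀ s ∈ S, ∀ m ∈ NK S T K, s * m * s⁻¹ ∈ NK S T K := by
    rintro s hs m ⟨hm, κ, hκ, hκt⟩
    have hcm : Mor F T (fun x => s * x * s⁻¹) := mor_conj F hTS hs
    have hcT : ∀ x ∈ T, s * x * s⁻¹ ∈ T := Helper88.stronglyClosed_mor hTcl le_rfl hcm
    obtain ⟨σ, hσ, hσx⟩ := hcm.exists_aut hcT
    have hσf : ∀ t ∈ T, autFun σ t = s * t * s⁻¹ := fun t ht => by
      rw [autFun_mem σ ht]; exact hσx ⟨t, ht⟩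
    have hl : ∀ x ∈ T, s⁻¹ * (s * x * s⁻¹) * s = x := fun x _ => by group
    have himgT : img T (fun x => s * x * s⁻¹) = T := hcm.img_eq_self hcT
    have h1 : Mor F T (fun y => s⁻¹ * y * s) :=
      (mor_conj F hTS (S.inv_mem hs)).congr (fun x _ => by rw [inv_inv])
    have h1T : ∀ x ∈ T, s⁻¹ * x * s ∈ T := Helper88.stronglyClosed_mor hTcl le_rfl h1
    have hcE : ∀ f, Mor E T f → Mor E T (fun y => s * f (s⁻¹ * y * s) * s⁻¹) := by
      intro f hf
      have := hED.conj T le_rfl f hf (fun x => s * x * s⁻¹) (fun x => s⁻¹ * x * s) hcm hl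
      rwa [himgT] at this
    have hcF : ∀ f, Mor F T f → Mor F T (fun y => s * f (s⁻¹ * y * s) * s⁻¹) := by
      intro f hf
      exact (h1.comp hf h1T).comp hcm
        (Helper88.stronglyClosed_mor hTcl le_rfl (h1.comp hf h1T))
    have hκ' := hKconj (fun x => s * x * s⁻¹) (fun x => s⁻¹ * x * s) σ hl hσf hcE hcF κ hκ
    refine ⟨S.mul_mem (S.mul_mem hs hm) (S.inv_mem hs), _, hκ', fun t => ?_⟩
    have e1 : (((σ * κ * σ⁻¹) t : T) : Ω) = autFun (σ * κ * σ⁻¹) (t : Ω) :=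
      (autFun_mem _ t.2).symm
    have h2 : s⁻¹ * (t : Ω) * s ∈ T := h1T _ t.2
    have e2 : ((κ ⟨s⁻¹ * (t : Ω) * s, h2⟩ : T) : Ω) = m * (s⁻¹ * (t : Ω) * s) * m⁻¹ :=
      hκt ⟨_, h2⟩
    rw [e1, autFun_conj_eq (a := fun x => s * x * s⁻¹) (a' := fun x => s⁻¹ * x * s) hl hσf κ
      t t.2]
    show s * autFun κ (s⁻¹ * (t : Ω) * s) * s⁻¹ = _
    rw [autFun_mem κ h2, e2]
    group
  have hTn : ((NK S T K).subgroupOf S).Normal :=
    ⟨fun n hn g => Subgroup.mem_subgroupOf.2 (by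
      simpa using hMn g g.2 n (Subgroup.mem_subgroupOf.1 hn))⟩
  obtain ⟨F₁, ⟨hsat₁, hidx₁⟩, -⟩ :=
    Helper87.ppow_exists_unique87 p hS F hF (NK S T K) NK_le hhyp
  have hn1 : F₁.IsNormalIn F p :=
    Helper84.PIdxN.main p hS F hF _ NK_le hTn hhyp F₁ hsat₁ hidx₁
  have hEF₁ : E.IsSubsystemOf F₁ :=
    Helper86.le_of_hasPPowerIndexIn hS F E hEF.1 hEinv.1 F₁ hTS₁ hidx₁
  have hF₁F : F₁.IsSubsystemOf F := hidx₁.1
  haveI : Finite (NK S T K) := Helper84.finite_of_le (NK_le (S := S))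
  have hcard : Nat.card (NK S T K) < Nat.card S := by
    by_contra hc
    have heq : NK S T K = S := Subgroup.eq_of_le_of_card_ge NK_le (not_lt.1 hc)
    apply hK
    refine le_antisymm hKle ?_
    intro α hα
    have hfn : F.IsFullyNormalized T := ⟨hTS, fun Q hQ => by
      obtain ⟨f, hf, rfl⟩ := (Helper88.isConj_iff F).1 hQ
      rw [hf.img_eq_self (Helper88.stronglyClosed_mor hTcl le_rfl hf)]⟩
    have hfa := Helper84.fullyAutomized_of_fullyNormalized p hS F hF hfn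
    obtain ⟨c, hc, β, hβ, rfl⟩ := Helper87.exists_aut_mul_pResidual F hfa hα
    refine K.mul_mem ?_ ?_
    · obtain ⟨g, hg, hgc⟩ := (Helper88.mem_autInducedBy_iff S T c).1 hc
      have hgN : g ∈ NK S T K := by rw [heq]; exact hg
      obtain ⟨-, κ, hκ, hκt⟩ := hgN
      have e : c = κ := by
        apply MulEquiv.ext
        intro t
        apply Subtype.ext
        rw [hgc t, hκt t]
      rw [e]; exact hκ
    · rw [Helper87.map_pResidual_eq_closure] at hβ
      exact hclK hβ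
  have hcen₁ : centralizerIn Sh (NK S T K) ≤ NK S T K := by
    intro c hc
    apply hcS₁
    apply Subgroup.mem_sup_right
    exact ⟨hc.1, Subgroup.mem_centralizer_iff.2
      (fun h hh => Subgroup.mem_centralizer_iff.1 hc.2 h (hTS₁ hh))⟩
  have hTclh : Fh.StronglyClosed T := hEhD.sc
  have hinv : ∀ a a' : Ω → Ω, SAut Fh S a a' → (∀ x ∈ NK S T K, a x ∈ NK S T K) ∧
      ∀ (P : Subgroup Ω), P ≤ NK S T K → ∀ f, Mor F₁ P f →
        Mor F₁ (img P a) (fun y => a (f (a' y))) := by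
    intro a a' hs
    have haT : ∀ x ∈ T, a x ∈ T := Helper88.stronglyClosed_mor hTclh le_rfl (hs.mor.res hTS)
    have ha'T : ∀ x ∈ T, a' x ∈ T := Helper88.stronglyClosed_mor hTclh le_rfl (hs.mor'.res hTS)
    obtain ⟨ā, hā, hāx⟩ := (hs.mor.res hTS).exists_aut haT
    have hāf : ∀ t ∈ T, autFun ā t = a t := fun t ht => by
      rw [autFun_mem ā ht]; exact hāx ⟨t, ht⟩
    have hl : ∀ x ∈ T, a' (a x) = x := fun x hx => hs.left x (hTS hx)
    have himgT : img T a = T := (hs.mor.res hTS).img_eq_self haT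
    have hcE : ∀ f, Mor E T f → Mor E T (fun y => a (f (a' y))) := by
      intro f hf
      have := hEhD.conj T le_rfl f hf a a' (hs.mor.res hTS) hl
      rwa [himgT] at this
    have hcF : ∀ f, Mor F T f → Mor F T (fun y => a (f (a' y))) := by
      intro f hf
      have := hD.conj T hTS f hf a a' hs.mor hs.left
      rwa [himgT] at this
    have hmapsN : ∀ x ∈ NK S T K, a x ∈ NK S T K := by
      rintro x ⟨hx, κ, hκ, hκt⟩
      refine ⟨hs.maps x hx, _, hKconj a a' ā hl hāf hcE hcF κ hκ, fun t => ?_⟩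
      have h2 : a' (t : Ω) ∈ T := ha'T _ t.2
      have e1 : (((ā * κ * ā⁻¹) t : T) : Ω) = autFun (ā * κ * ā⁻¹) (t : Ω) :=
        (autFun_mem _ t.2).symm
      have e2 : ((κ ⟨a' (t : Ω), h2⟩ : T) : Ω) = x * a' (t : Ω) * x⁻¹ := hκt ⟨_, h2⟩
      rw [e1, autFun_conj_eq hl hāf κ t t.2, autFun_mem κ h2, e2,
        mor_conj_apply hs.mor hx (hTS h2), hs.right _ (hTS t.2)]
    refine ⟨hmapsN, fun P hP f hf => ?_⟩
    obtain ⟨-, t, ht, κ, hκ, hfκ⟩ := (mor_ppow_iff hS hF NK_le hMn hsat₁ hidx₁).1 hf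
    have hPS : P ≤ S := hP.trans NK_le
    have himgP : img P a ≤ NK S T K := by
      intro y hy
      obtain ⟨x, hx, rfl⟩ := (hs.mem_img hPS).1 hy
      exact hmapsN x (hP hx)
    refine (mor_ppow_iff hS hF NK_le hMn hsat₁ hidx₁).2
      ⟨himgP, a t, hmapsN t ht, _, kmor_transport hD hs hκ, fun y hy => ?_⟩
    have hy' : a' y ∈ P := hs.back hPS y hy
    show a (f (a' y)) = a t * a (κ (a' y)) * (a t)⁻¹
    rw [hfκ _ hy', mor_conj_apply hs.mor (NK_le ht) (hκ.mor.mem_S hy')]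
  have hnh : F₁.IsNormalIn Fh p := normal_transfer hFn hn1 hinv hcen₁
  -- `E` is weakly normal in `F₁`
  haveI hNn : (K.subgroupOf (F.autGroup T)).Normal := by
    refine ⟨fun n hn g => Subgroup.mem_subgroupOf.2 ?_⟩
    have hgl : ∀ x ∈ T, autFun ((g : MulAut T)⁻¹) (autFun (g : MulAut T) x) = x :=
      fun x hx => autFun_inv _ hx
    have hgm : Mor F T (autFun (g : MulAut T)) := autFun_mor F hTS g.2
    have hgT : ∀ x ∈ T, autFun (g : MulAut T) x ∈ T := fun x hx => autFun_mem_R _ hx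
    have himgT : img T (autFun (g : MulAut T)) = T := hgm.img_eq_self hgT
    have hcE : ∀ f, Mor E T f →
        Mor E T (fun y => autFun (g : MulAut T) (f (autFun ((g : MulAut T)⁻¹) y))) := by
      intro f hf
      have := hED.conj T le_rfl f hf _ _ hgm hgl
      rwa [himgT] at this
    exact hKconj' (g : MulAut T)
      (fun γ hγ => aut_conj_mem le_rfl hgl hcE (fun _ _ => rfl) hγ)
      (fun b hb => (F.autGroup T).mul_mem ((F.autGroup T).mul_mem g.2 hb)
        ((F.autGroup T).inv_mem g.2)) n (Subgroup.mem_subgroupOf.1 hn)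
  have hχ : ∀ β : F.autGroup T, (orderOf (β : MulAut T)).Coprime p →
      (QuotientGroup.mk' (K.subgroupOf (F.autGroup T))) β = 1 := fun β hβ =>
    (QuotientGroup.eq_one_iff β).2 (Subgroup.mem_subgroupOf.2 (hcopK _ β.2 hβ))
  have hχK : ∀ β : F.autGroup T,
      (QuotientGroup.mk' (K.subgroupOf (F.autGroup T))) β = 1 → (β : MulAut T) ∈ K :=
    fun β h => Subgroup.mem_subgroupOf.1 ((QuotientGroup.eq_one_iff β).1 h)
  have hχK' : ∀ β : F.autGroup T, (β : MulAut T) ∈ K →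
      (QuotientGroup.mk' (K.subgroupOf (F.autGroup T))) β = 1 :=
    fun β h => (QuotientGroup.eq_one_iff β).2 (Subgroup.mem_subgroupOf.2 h)
  have hKF₁ : K ≤ F₁.autGroup T := by
    have h0 : Kp p (E.autGroup T) (F.autGroup T) ≤ F₁.autGroup T := by
      refine sup_le (autGroup_mono' hEF₁ T) ?_
      rw [← Helper87.map_pResidual_eq_closure]
      exact hidx₁.2.2 T hTS₁
    intro κ hκ
    rw [hKeq] at hκ
    exact h0 hκ
  have hEw : E.IsWeaklyNormalIn F₁ p := by
    refine ⟨hEF.1, hsat₁, Helper88.invariant_of_invData ⟨hEF₁,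
      ⟨hTS₁, fun R hR φ hφ x => hTcl.2 R hR φ (hF₁F R hφ) x⟩,
      fun P hP f hf a a' ha ha'a =>
        hED.conj P hP f hf a a' (Helper88.subsystem_mor hF₁F ha) ha'a, ?_⟩⟩
    intro P hP f hf
    obtain ⟨-, t, ht, κ, hκ, hfκ⟩ := (mor_ppow_iff hS hF NK_le hMn hsat₁ hidx₁).1 hf
    have hκKE := kmor_ke hEinv (QuotientGroup.mk' (K.subgroupOf (F.autGroup T))) hχ hκ hP
    obtain ⟨-, κ₀, hκ₀, hκ₀t⟩ := ht
    have himgT : img P κ ≤ T := by
      intro y hy
      obtain ⟨x, hx, rfl⟩ := hκ.mor.mem_img.1 hy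
      exact Helper88.stronglyClosed_mor hTcl hP hκ.mor x hx
    have hct : PChi.KE F E (QuotientGroup.mk' (K.subgroupOf (F.autGroup T))) (img P κ)
        (fun x => t * x * t⁻¹) :=
      (PChi.KE.of_ker ⟨κ₀, hKle hκ₀⟩ (hχK' _ hκ₀) himgT).congr (fun x hx => by
        show t * x * t⁻¹ = autFun κ₀ x
        rw [autFun_mem κ₀ (himgT hx)]; exact (hκ₀t ⟨x, himgT hx⟩).symm)
    have hfKE : PChi.KE F E (QuotientGroup.mk' (K.subgroupOf (F.autGroup T))) P f :=
      (PChi.KE.comp hEinv hκKE hct (fun x hx => hκ.mor.apply_mem_img hx)).congr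
        (fun x hx => hfκ x hx)
    obtain ⟨β, hβ, e, he, hfe⟩ := hfKE
    exact ⟨autFun (β : MulAut T), e, autFun_mor F₁ hTS₁ (hKF₁ (hχK β hβ)), he, hfe⟩
  exact ⟨NK S T K, F₁, hcS₁, hnh, hEw, hidx₁, hcard⟩

end Cfsg.Agent.Lib.Helper42.Red
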