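import Mathlib
import Cfsg.Agent.Lib.Helper42.RedE
import Cfsg.Agent.Lib.Helper42.PChiF

/-!
# The step of index prime to `p`

`E` weakly normal in `F` over `T`, `F` normal in `Fh`, and `K` the subgroup of `Aut_F(T)`
generated by `Aut_E(T)` and the elements of `p`-power order: the subsystem of `F` of index prime
to `p` attached to the quotient `Aut_F(T) / K`.
-/

set_option autoImplicit false

namespace Cfsg.Agent.Lib.Helper42.Red

open Cfsg Cfsg.FusionSystem Cfsg.Agent.Lib.Helper84 Cfsg.Agent.Lib.Helper84.SatCrit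
open Cfsg.Agent.Lib.Helper84.PPrimeRes
open Cfsg.Agent.Lib.Helper88 (Mor extFun extFun_mem extFun_apply img mor_of_hom hom_of_mor
  mor_conj mor_id)

universe u

variable {Ω : Type u} [Group Ω] {S Sh : Subgroup Ω}

/-- **The step of index prime to `p`.** -/
theorem prime_step [Finite Sh] {p : ℕ} [Fact p.Prime] {Fh : FusionSystem Sh} [Finite S]
    (hS : IsPGroup p S) {F : FusionSystem S} (hFn : F.IsNormalIn Fh p) {T : Subgroup Ω}
    {E : FusionSystem T} (hEh : E.IsNormalIn Fh p) (hEF : E.IsWeaklyNormalIn F p)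
    (hcen : T ⊔ centralizerIn Sh T ≤ S)
    (hK : Kq p (E.autGroup T) (F.autGroup T) ≠ F.autGroup T) :
    ∃ F₁ : FusionSystem S, F₁.IsNormalIn Fh p ∧ E.IsWeaklyNormalIn F₁ p ∧
      F₁.HasPrimeToPIndexIn F p ∧ Nat.card (F₁.autGroup T) < Nat.card (F.autGroup T) := by
  have hF : F.IsSaturated p := hFn.1.1
  have hEinv := hEF.2.2
  have hED := Helper88.invData_of_invariant hEinv
  have hTcl : F.StronglyClosed T := hEinv.2.1
  have hTS : T ≤ S := hTcl.1
  haveI : Finite T := Helper84.finite_of_le hTS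
  have hD := Helper88.invData_of_invariant hFn.1.2.2
  have hEhD := Helper88.invData_of_invariant hEh.1.2.2
  have hEFaut : E.autGroup T ≤ F.autGroup T := autGroup_mono' hEinv.1 T
  obtain ⟨K, hKeq⟩ : ∃ K : Subgroup (MulAut T), K = Kq p (E.autGroup T) (F.autGroup T) :=
    ⟨_, rfl⟩
  rw [← hKeq] at hK
  have hKle : K ≤ F.autGroup T := by rw [hKeq]; exact Kq_le hEFaut
  have hEK : E.autGroup T ≤ K := by rw [hKeq]; exact le_Kq
  have hppK : ∀ b ∈ F.autGroup T, (∃ k : ℕ, orderOf b = p ^ k) → b ∈ K := by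
    rw [hKeq]; exact fun b hb ho => mem_Kq_of_ppow hb ho
  have hKconj' : ∀ g : MulAut T, (∀ a ∈ E.autGroup T, g * a * g⁻¹ ∈ E.autGroup T) →
      (∀ b ∈ F.autGroup T, g * b * g⁻¹ ∈ F.autGroup T) → ∀ k ∈ K, g * k * g⁻¹ ∈ K := by
    rw [hKeq]; exact fun g hA hB => Kq_conj hA hB
  haveI hNn : (K.subgroupOf (F.autGroup T)).Normal := by
    refine ⟨fun n hn g => Subgroup.mem_subgroupOf.2 ?_⟩
    have hgl : ∀ x ∈ T, autFun ((g : MulAut T)⁻¹) (autFun (g : MulAut T) x) = x :=
      fun x hx => autFun_inv _ hx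
    have hgm : Mor F T (autFun (g : MulAut T)) := autFun_mor F hTS g.2
    have hgT : ∀ x ∈ T, autFun (g : MulAut T) x ∈ T := fun x hx => autFun_mem_R _ hx
    have himgT : img T (autFun (g : MulAut T)) = T := hgm.img_eq_self hgT
    have hcE : ∀ f, Mor E T f →
        Mor E T (fun y => autFun (g : MulAut T) (f (autFun ((g : MulAut T)⁻¹) y))) := by
      intro f hf
      have := hED.conj T le_rfl f hf _ _ hgm hgl
      rwa [himgT] at this
    exact hKconj' (g : MulAut T)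
      (fun γ hγ => aut_conj_mem le_rfl hgl hcE (fun _ _ => rfl) hγ)
      (fun b hb => (F.autGroup T).mul_mem ((F.autGroup T).mul_mem g.2 hb)
        ((F.autGroup T).inv_mem g.2)) n (Subgroup.mem_subgroupOf.1 hn)
  have hTclh : Fh.StronglyClosed T := hEhD.sc
  have main : ∀ {Δ : Type u} [Group Δ] [Finite Δ] (χ : ↥(F.autGroup T) →* Δ),
      (Nat.card Δ).Coprime p → (∀ β : F.autGroup T, χ β = 1 ↔ (β : MulAut T) ∈ K) →
      ∃ F₁ : FusionSystem S, F₁.IsNormalIn Fh p ∧ E.IsWeaklyNormalIn F₁ p ∧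
        F₁.HasPrimeToPIndexIn F p ∧ Nat.card (F₁.autGroup T) < Nat.card (F.autGroup T) := by
    intro Δ _ _ χ hΔ hχ
    have hker : (E.autGroup T).subgroupOf (F.autGroup T) ≤ χ.ker := fun x hx =>
      MonoidHom.mem_ker.2 ((hχ x).2 (hEK (Subgroup.mem_subgroupOf.1 hx)))
    have hA := PChi.AK_inner hS hTcl χ hΔ
    have hsat := PChi.fk_saturated hS hEF hTS χ hΔ hker hA
    have hn1 := PChi.fk_normal hS hEF hTS χ hΔ hker hA
    have hsub := PChi.fk_sub hS hEF hTS χ hΔ hker hA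
    obtain ⟨hidx, -, -⟩ := PChi.fr_facts p hS F hF (PChi.AK F hTS χ) hA
    have hT := PChi.fk_T_iff hS hEF hTS χ hΔ hker hA
    refine ⟨FrSys F p (PChi.AK F hTS χ) hA, ?_, ?_, hidx, ?_⟩
    · -- normal in `Fh`
      have hcen₁ : centralizerIn Sh S ≤ S := fun c hc =>
        hcen (Subgroup.mem_sup_right ⟨hc.1, Subgroup.mem_centralizer_iff.2
          (fun h hh => Subgroup.mem_centralizer_iff.1 hc.2 h (hTS hh))⟩)
      refine normal_transfer hFn hn1 ?_ hcen₁
      intro a a' hs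
      refine ⟨hs.maps, fun P hP f hf => ?_⟩
      have haT : ∀ x ∈ T, a x ∈ T := Helper88.stronglyClosed_mor hTclh le_rfl (hs.mor.res hTS)
      have ha'T : ∀ x ∈ T, a' x ∈ T :=
        Helper88.stronglyClosed_mor hTclh le_rfl (hs.mor'.res hTS)
      obtain ⟨ā, hā, hāx⟩ := (hs.mor.res hTS).exists_aut haT
      have hāf : ∀ t ∈ T, autFun ā t = a t := fun t ht => by
        rw [autFun_mem ā ht]; exact hāx ⟨t, ht⟩
      have hl : ∀ x ∈ T, a' (a x) = x := fun x hx => hs.left x (hTS hx)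
      have himgT : img T a = T := (hs.mor.res hTS).img_eq_self haT
      have hcE : ∀ f, Mor E T f → Mor E T (fun y => a (f (a' y))) := by
        intro f hf
        have := hEhD.conj T le_rfl f hf a a' (hs.mor.res hTS) hl
        rwa [himgT] at this
      have hcF : ∀ f, Mor F T f → Mor F T (fun y => a (f (a' y))) := by
        intro f hf
        have := hD.conj T hTS f hf a a' hs.mor hs.left
        rwa [himgT] at this
      obtain ⟨a₁, ha₁, g₀, hg₀, hfa⟩ := mor_frSys_iff.1 hf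
      have hm₁ : Mor F S (autFun ((a₁ : F.autGroup S) : MulAut S)) := autFun_mor F le_rfl a₁.2
      have himgS : img S a = S := hs.mor.img_eq_self hs.maps
      have hmb : Mor F S (fun y => a (autFun ((a₁ : F.autGroup S) : MulAut S) (a' y))) := by
        have := hD.conj S le_rfl _ hm₁ a a' hs.mor hs.left
        rwa [himgS] at this
      have hmbS : ∀ y ∈ S, a (autFun ((a₁ : F.autGroup S) : MulAut S) (a' y)) ∈ S :=
        fun y hy => hs.maps _ (autFun_mem_R _ (hs.maps' y hy))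
      obtain ⟨b₀, hb₀, hb₀y⟩ := hmb.exists_aut hmbS
      have hb₀f : ∀ y ∈ S, autFun b₀ y = a (autFun ((a₁ : F.autGroup S) : MulAut S) (a' y)) :=
        fun y hy => by rw [autFun_mem b₀ hy]; exact hb₀y ⟨y, hy⟩
      obtain ⟨β, hβ, hres⟩ := ha₁
      have hβ' : ā * (β : MulAut T) * ā⁻¹ ∈ F.autGroup T :=
        aut_conj_mem hTS hl hcF hāf β.2
      have hβ'K : ā * (β : MulAut T) * ā⁻¹ ∈ K :=
        hKconj' ā (fun γ hγ => aut_conj_mem le_rfl hl hcE hāf hγ)
          (fun γ hγ => aut_conj_mem hTS hl hcF hāf hγ) _ ((hχ β).1 hβ)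
      have hbAK : (⟨b₀, hb₀⟩ : F.autGroup S) ∈ PChi.AK F hTS χ := by
        refine ⟨⟨_, hβ'⟩, (hχ _).2 hβ'K, fun t ht => ?_⟩
        show autFun (ā * (β : MulAut T) * ā⁻¹) t = autFun b₀ t
        rw [autFun_conj_eq hl hāf _ t ht, hb₀f t (hTS ht), hres _ (ha'T t ht)]
      refine mor_frSys_iff.2 ⟨⟨b₀, hb₀⟩, hbAK, fun y => a (g₀ (a' y)),
        g0_transport hD hs hg₀, fun y hy => ?_⟩
      have hy' : a' y ∈ P := hs.back hP y hy
      have hg₀S : g₀ (a' y) ∈ S := hg₀.mor.mem_S hy'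
      show a (f (a' y)) = autFun b₀ (a (g₀ (a' y)))
      rw [hb₀f _ (hs.maps _ hg₀S), hs.left _ hg₀S, hfa _ hy']
    · -- `E` weakly normal in the subsystem
      refine ⟨hEF.1, hsat, Helper88.invariant_of_invData ⟨hsub,
        ⟨hTS, fun R hR φ hφ x => hTcl.2 R hR φ (hidx.1 R hφ) x⟩,
        fun P hP f hf a a' ha ha'a =>
          hED.conj P hP f hf a a' (Helper88.subsystem_mor hidx.1 ha) ha'a, ?_⟩⟩
      intro P hP f hf
      obtain ⟨a₁, ha₁, g₀, hg₀, hfa⟩ := mor_frSys_iff.1 hf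
      have hke := PChi.g0_ke hS hF hEinv χ hΔ hg₀
      rw [inf_eq_left.2 hP] at hke
      obtain ⟨β, hβ, e, he, hge⟩ := hke
      obtain ⟨β₁, hβ₁, hres⟩ := ha₁
      refine ⟨autFun ((β₁ * β : F.autGroup T) : MulAut T), e,
        (hT (β₁ * β)).2 (by rw [map_mul, hβ₁, hβ, one_mul]), he, fun x hx => ?_⟩
      rw [hfa x hx, hge x hx]
      show autFun ((a₁ : F.autGroup S) : MulAut S) (autFun (β : MulAut T) (e x)) =
        autFun ((β₁ : MulAut T) * (β : MulAut T)) (e x)
      rw [autFun_mul _ _ (he.mem_S hx), ← hres _ (autFun_mem_R _ (he.mem_S hx))]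
    · have hle : (FrSys F p (PChi.AK F hTS χ) hA).autGroup T ≤ K := by
        intro γ hγ
        have hγF : γ ∈ F.autGroup T := autGroup_mono' hidx.1 T hγ
        have hm : Mor (FrSys F p (PChi.AK F hTS χ) hA) T (autFun γ) := autFun_mor _ hTS hγ
        exact (hχ ⟨γ, hγF⟩).1 ((hT ⟨γ, hγF⟩).1 hm)
      have h1 : Nat.card ((FrSys F p (PChi.AK F hTS χ) hA).autGroup T) ≤ Nat.card K :=
        Subgroup.card_le_of_le hle
      have h2 : Nat.card K < Nat.card (F.autGroup T) := by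
        by_contra hc
        exact hK (Subgroup.eq_of_le_of_card_ge hKle (not_lt.1 hc))
      omega
  refine main (QuotientGroup.mk' (K.subgroupOf (F.autGroup T))) ?_ ?_
  · exact card_quot_coprime _ (fun g hg => by
      obtain ⟨k, hk⟩ := hg
      exact Subgroup.mem_subgroupOf.2 (hppK _ g.2 ⟨k, by rw [Subgroup.orderOf_coe]; exact hk⟩))
  · exact fun β => (QuotientGroup.eq_one_iff β).trans Subgroup.mem_subgroupOf

end Cfsg.Agent.Lib.Helper42.Red
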