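import Mathlib
import Cfsg.Agent.Lib.Helper42.RedF

/-!
# The reduction to a normal subsystem over `T C_S(T)`

For a normal subsystem `E` of `Fh` over `T` with `Aut_Fh(T) / Aut_E(T)` `p`-solvable: a normal
subsystem `F₀` of `Fh` over `T C_S(T)` containing `E`, with `Aut_{F₀}(T) = Aut_E(T)` and the same
residual limit as `Fh`.
-/

set_option autoImplicit false

namespace Cfsg.Agent.Lib.Helper42.Red

open Cfsg Cfsg.FusionSystem Cfsg.Agent.Lib.Helper84 Cfsg.Agent.Lib.Helper84.SatCrit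
open Cfsg.Agent.Lib.Helper88 (Mor extFun extFun_mem extFun_apply img mor_of_hom hom_of_mor
  mor_conj mor_id)

universe u

variable {Ω : Type u} [Group Ω] {S Sh : Subgroup Ω}

theorem conj_iterate (s x : Ω) (n : ℕ) :
    (fun y => s * y * s⁻¹)^[n] x = s ^ n * x * (s ^ n)⁻¹ := by
  induction n with
  | zero => simp
  | succ n ih =>
    rw [Function.iterate_succ_apply', ih, pow_succ']
    group

/-- the base case: if `Aut_F(T) = Aut_E(T)` then `S = T C_S(T)`. -/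
theorem base_le [Finite S] {p : ℕ} [Fact p.Prime] (hS : IsPGroup p S) {F : FusionSystem S}
    {T : Subgroup Ω} {E : FusionSystem T} (hEsat : E.IsSaturated p) (hTcl : F.StronglyClosed T)
    (hB : F.autGroup T = E.autGroup T) : S ≤ T ⊔ centralizerIn S T := by
  have hTS : T ≤ S := hTcl.1
  haveI : Finite T := Helper84.finite_of_le hTS
  intro s hs
  have hcm : Mor F T (fun x => s * x * s⁻¹) := mor_conj F hTS hs
  have hcT : ∀ x ∈ T, s * x * s⁻¹ ∈ T := Helper88.stronglyClosed_mor hTcl le_rfl hcm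
  obtain ⟨σ, hσ, hσx⟩ := hcm.exists_aut hcT
  rw [hB] at hσ
  have hρ : Mor E T (fun x => s * x * s⁻¹) :=
    (autFun_mor E le_rfl hσ).congr (fun x hx => by rw [autFun_mem σ hx]; exact hσx ⟨x, hx⟩)
  obtain ⟨k, hk⟩ := hS ⟨s, hs⟩
  have hsk : s ^ p ^ k = 1 := by
    have := congrArg Subtype.val hk
    simpa using this
  have hiter : ∀ x ∈ T, (fun y => s * y * s⁻¹)^[p ^ k] x = x := by
    intro x _
    rw [conj_iterate, hsk]
    simp
  obtain ⟨ζ, hζ, t, ht, hζt⟩ := PChi.ppow_conj hEsat hρ hcT ⟨k, hiter⟩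
  obtain ⟨ζ', hζ', hζT, hζ'T, hζ'ζ, hζζ'⟩ := Helper88.aut_inverse (invData_self E).sc hζ
  have hconj : ∀ x ∈ T, s * x * s⁻¹ = ζ' t * x * (ζ' t)⁻¹ := by
    intro x hx
    have h1 := congrArg ζ' (hζt x hx)
    rw [hζ'ζ _ (hcT x hx), mor_conj_apply hζ' ht (hζT x hx), hζ'ζ x hx] at h1
    exact h1
  have ht' : ζ' t ∈ T := hζ'T t ht
  have hc : (ζ' t)⁻¹ * s ∈ centralizerIn S T := by
    refine ⟨S.mul_mem (S.inv_mem (hTS ht')) hs, Subgroup.mem_centralizer_iff.2 ?_⟩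
    intro h hh
    have h1 := hconj h hh
    calc h * ((ζ' t)⁻¹ * s) = (ζ' t)⁻¹ * (ζ' t * h * (ζ' t)⁻¹) * s := by group
      _ = (ζ' t)⁻¹ * (s * h * s⁻¹) * s := by rw [h1]
      _ = (ζ' t)⁻¹ * s * h := by group
  have e : s = ζ' t * ((ζ' t)⁻¹ * s) := by group
  rw [e]
  exact Subgroup.mul_mem_sup ht' hc

/-- **The induction.** -/
theorem main_ind [Finite Sh] {p : ℕ} [Fact p.Prime] (hSh : IsPGroup p Sh)
    {Fh : FusionSystem Sh} {T : Subgroup Ω} {E : FusionSystem T} (hEh : E.IsNormalIn Fh p)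
    (hered : ∀ B' : Subgroup (MulAut T), E.autGroup T ≤ B' → B' ≤ Fh.autGroup T →
      B' ≠ E.autGroup T → Kp p (E.autGroup T) B' ≠ B' ∨ Kq p (E.autGroup T) B' ≠ B') :
    ∀ n : ℕ, ∀ (S : Subgroup Ω) (F : FusionSystem S), F.IsNormalIn Fh p →
      E.IsWeaklyNormalIn F p → T ⊔ centralizerIn Sh T ≤ S →
      Nat.card S + Nat.card (F.autGroup T) ≤ n →
      ∃ (S₀ : Subgroup Ω) (F₀ : FusionSystem S₀), S₀ = T ⊔ centralizerIn Sh T ∧
        F₀.IsNormalIn Fh p ∧ E.IsSubsystemOf F₀ ∧ F₀.autGroup T = E.autGroup T ∧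
        ∀ {U : Subgroup Ω} (Finf : FusionSystem U), Finf.IsResidualLimitOf F p →
          Finf.IsSubsystemOf F₀ ∧ ∀ {V : Subgroup Ω} (L : FusionSystem V),
            L.IsResidualLimitOf F₀ p → ∀ P : Subgroup Ω, L.Hom P = Finf.Hom P := by
  have hp : p.Prime := Fact.out
  intro n
  induction n with
  | zero =>
    intro S F hFn _ _ hcard
    have hSSh : S ≤ Sh := hFn.1.2.2.2.1.1
    haveI : Finite S := Helper84.finite_of_le hSSh
    have := Nat.card_pos (α := S)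
    omega
  | succ n ih =>
    intro S F hFn hEF hcen hcard
    have hSSh : S ≤ Sh := hFn.1.2.2.2.1.1
    haveI : Finite S := Helper84.finite_of_le hSSh
    have hS : IsPGroup p S := hSh.to_le hSSh
    have hF : F.IsSaturated p := hFn.1.1
    have hTcl : F.StronglyClosed T := hEF.2.2.2.1
    have hTS : T ≤ S := hTcl.1
    haveI : Finite T := Helper84.finite_of_le hTS
    have hEFaut : E.autGroup T ≤ F.autGroup T := autGroup_mono' hEF.2.2.1 T
    have hFFh : F.autGroup T ≤ Fh.autGroup T := autGroup_mono' hFn.1.2.2.1 T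
    by_cases hB : F.autGroup T = E.autGroup T
    · have hle : S ≤ T ⊔ centralizerIn Sh T := by
        intro s hs
        have h1 := base_le hS hEF.1 hTcl hB hs
        exact (sup_le_sup_left (fun c hc => (⟨hSSh hc.1, hc.2⟩ : c ∈ centralizerIn Sh T)) T) h1
      refine ⟨S, F, le_antisymm hle hcen, hFn, hEF.2.2.1, hB, fun Finf hFinf =>
        ⟨residualLimit_sub Finf F p hFinf, fun L hL P =>
          Helper86.residualLimit_unique L F p hL hp inferInstance hS Finf hFinf P⟩⟩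
    · rcases hered (F.autGroup T) hEFaut hFFh hB with hKp | hKq
      · obtain ⟨S₁, F₁, hc₁, hn₁, hEw₁, hidx₁, hcard₁⟩ := ppow_step hS hFn hEh hEF hcen hKp
        have hS₁Sh : S₁ ≤ Sh := hn₁.1.2.2.2.1.1
        haveI : Finite S₁ := Helper84.finite_of_le hS₁Sh
        have hcardA : Nat.card (F₁.autGroup T) ≤ Nat.card (F.autGroup T) :=
          Subgroup.card_le_of_le (autGroup_mono' hidx₁.1 T)
        obtain ⟨S₀, F₀, hS₀, hn₀, hE₀, hA₀, hres₀⟩ := ih S₁ F₁ hn₁ hEw₁ hc₁ (by omega)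
        refine ⟨S₀, F₀, hS₀, hn₀, hE₀, hA₀, fun Finf hFinf => ?_⟩
        obtain ⟨W, L₁, hL₁⟩ := exists_residualLimit' p (hSh.to_le hS₁Sh) F₁ hn₁.1.1
        have heq : ∀ P, Finf.Hom P = L₁.Hom P :=
          Helper86.residualLimit_eq_of_hasPPowerIndexIn p hS F F₁ hn₁.1.1 hidx₁ Finf hFinf
            L₁ hL₁
        obtain ⟨h1, h2⟩ := hres₀ L₁ hL₁
        exact ⟨fun P => by rw [heq P]; exact h1 P, fun L hL P => by rw [h2 L hL P, heq P]⟩
      · obtain ⟨F₁, hn₁, hEw₁, hidx₁, hcard₁⟩ := prime_step hS hFn hEh hEF hcen hKq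
        obtain ⟨S₀, F₀, hS₀, hn₀, hE₀, hA₀, hres₀⟩ := ih S F₁ hn₁ hEw₁ hcen (by omega)
        refine ⟨S₀, F₀, hS₀, hn₀, hE₀, hA₀, fun Finf hFinf => ?_⟩
        obtain ⟨W, L₁, hL₁⟩ := exists_residualLimit' p hS F₁ hn₁.1.1
        have heq : ∀ P, Finf.Hom P = L₁.Hom P :=
          resLim_primeIdx p hS F F₁ hF hn₁.1.1 hidx₁ Finf hFinf L₁ hL₁
        obtain ⟨h1, h2⟩ := hres₀ L₁ hL₁
        exact ⟨fun P => by rw [heq P]; exact h1 P, fun L hL P => by rw [h2 L hL P, heq P]⟩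

/-- **The reduction theorem.** -/
theorem reduction_main [Finite S] (p : ℕ) [Fact p.Prime] (hS : IsPGroup p S)
    (F : FusionSystem S) (hF : F.IsSaturated p) {T : Subgroup Ω} (E : FusionSystem T)
    (hE : E.IsNormalIn F p) [hn : ((E.autGroup T).subgroupOf (F.autGroup T)).Normal]
    (hsolv : Cfsg.IsPSolvable p (↥(F.autGroup T) ⧸ (E.autGroup T).subgroupOf (F.autGroup T))) :
    ∃ F₀ : FusionSystem (T ⊔ centralizerIn S T), F₀.IsNormalIn F p ∧ E.IsSubsystemOf F₀ ∧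
      F₀.autGroup T = E.autGroup T ∧
      ∀ {U : Subgroup Ω} (Finf : FusionSystem U), Finf.IsResidualLimitOf F p →
        Finf.IsSubsystemOf F₀ ∧ ∀ {V : Subgroup Ω} (L : FusionSystem V),
          L.IsResidualLimitOf F₀ p → ∀ P : Subgroup Ω, L.Hom P = Finf.Hom P := by
  have hEFaut : E.autGroup T ≤ F.autGroup T := autGroup_mono' hE.1.2.2.1 T
  have hered := hered_of_solv hEFaut hsolv
  have hTS : T ≤ S := hE.1.2.2.2.1.1
  obtain ⟨S₀, F₀, hS₀, hn₀, hE₀, hA₀, hres₀⟩ :=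
    main_ind hS hE hered _ S F (normal_self hF) hE.1 (sup_le hTS inf_le_left) le_rfl
  subst hS₀
  exact ⟨F₀, hn₀, hE₀, hA₀, fun Finf hFinf => hres₀ Finf hFinf⟩

end Cfsg.Agent.Lib.Helper42.Red
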