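import Mathlib
import Cfsg.Agent.Lib.Helper42.RedG
import Cfsg.Agent.Lib.Helper42.CenD
import Cfsg.Agent.Lib.Helper87.FusionFactor

/-!
# The reduction to a normal subsystem with small centralizer

For a normal subsystem `E` of `F` over `T` with `Aut_F(T) / Aut_E(T)` `p`-solvable, such that
every subgroup of `C_S(T)` centralized by `E` lies in `T`: the residual limits of `F` and of `E`
have the same maps.
-/

set_option autoImplicit false

namespace Cfsg.Agent.Lib.Helper42.Red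

open Cfsg Cfsg.FusionSystem Cfsg.Agent.Lib.Helper84 Cfsg.Agent.Lib.Helper84.SatCrit
open Cfsg.Agent.Lib.Helper88 (Mor extFun extFun_mem extFun_apply img mor_of_hom hom_of_mor
  mor_conj mor_id)

universe u

variable {Ω : Type u} [Group Ω] {S Sh : Subgroup Ω}

/-- **The induction**, keeping the weak normality of `E` in the final system. -/
theorem main_indW [Finite Sh] {p : ℕ} [Fact p.Prime] (hSh : IsPGroup p Sh)
    {Fh : FusionSystem Sh} {T : Subgroup Ω} {E : FusionSystem T} (hEh : E.IsNormalIn Fh p)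
    (hered : ∀ B' : Subgroup (MulAut T), E.autGroup T ≤ B' → B' ≤ Fh.autGroup T →
      B' ≠ E.autGroup T → Kp p (E.autGroup T) B' ≠ B' ∨ Kq p (E.autGroup T) B' ≠ B') :
    ∀ n : ℕ, ∀ (S : Subgroup Ω) (F : FusionSystem S), F.IsNormalIn Fh p →
      E.IsWeaklyNormalIn F p → T ⊔ centralizerIn Sh T ≤ S →
      Nat.card S + Nat.card (F.autGroup T) ≤ n →
      ∃ (S₀ : Subgroup Ω) (F₀ : FusionSystem S₀), S₀ = T ⊔ centralizerIn Sh T ∧
        F₀.IsNormalIn Fh p ∧ E.IsWeaklyNormalIn F₀ p ∧ F₀.autGroup T = E.autGroup T ∧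
        ∀ {U : Subgroup Ω} (Finf : FusionSystem U), Finf.IsResidualLimitOf F p →
          Finf.IsSubsystemOf F₀ ∧ ∀ {V : Subgroup Ω} (L : FusionSystem V),
            L.IsResidualLimitOf F₀ p → ∀ P : Subgroup Ω, L.Hom P = Finf.Hom P := by
  have hp : p.Prime := Fact.out
  intro n
  induction n with
  | zero =>
    intro S F hFn _ _ hcard
    have hSSh : S ≤ Sh := hFn.1.2.2.2.1.1
    haveI : Finite S := Helper84.finite_of_le hSSh
    have := Nat.card_pos (α := S)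
    omega
  | succ n ih =>
    intro S F hFn hEF hcen hcard
    have hSSh : S ≤ Sh := hFn.1.2.2.2.1.1
    haveI : Finite S := Helper84.finite_of_le hSSh
    have hS : IsPGroup p S := hSh.to_le hSSh
    have hF : F.IsSaturated p := hFn.1.1
    have hTcl : F.StronglyClosed T := hEF.2.2.2.1
    have hTS : T ≤ S := hTcl.1
    haveI : Finite T := Helper84.finite_of_le hTS
    have hEFaut : E.autGroup T ≤ F.autGroup T := autGroup_mono' hEF.2.2.1 T
    have hFFh : F.autGroup T ≤ Fh.autGroup T := autGroup_mono' hFn.1.2.2.1 T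
    by_cases hB : F.autGroup T = E.autGroup T
    · have hle : S ≤ T ⊔ centralizerIn Sh T := by
        intro s hs
        have h1 := base_le hS hEF.1 hTcl hB hs
        exact (sup_le_sup_left (fun c hc => (⟨hSSh hc.1, hc.2⟩ : c ∈ centralizerIn Sh T)) T) h1
      refine ⟨S, F, le_antisymm hle hcen, hFn, hEF, hB, fun Finf hFinf =>
        ⟨residualLimit_sub Finf F p hFinf, fun L hL P =>
          Helper86.residualLimit_unique L F p hL hp inferInstance hS Finf hFinf P⟩⟩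
    · rcases hered (F.autGroup T) hEFaut hFFh hB with hKp | hKq
      · obtain ⟨S₁, F₁, hc₁, hn₁, hEw₁, hidx₁, hcard₁⟩ := ppow_step hS hFn hEh hEF hcen hKp
        have hS₁Sh : S₁ ≤ Sh := hn₁.1.2.2.2.1.1
        haveI : Finite S₁ := Helper84.finite_of_le hS₁Sh
        have hcardA : Nat.card (F₁.autGroup T) ≤ Nat.card (F.autGroup T) :=
          Subgroup.card_le_of_le (autGroup_mono' hidx₁.1 T)
        obtain ⟨S₀, F₀, hS₀, hn₀, hE₀, hA₀, hres₀⟩ := ih S₁ F₁ hn₁ hEw₁ hc₁ (by omega)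
        refine ⟨S₀, F₀, hS₀, hn₀, hE₀, hA₀, fun Finf hFinf => ?_⟩
        obtain ⟨W, L₁, hL₁⟩ := exists_residualLimit' p (hSh.to_le hS₁Sh) F₁ hn₁.1.1
        have heq : ∀ P, Finf.Hom P = L₁.Hom P :=
          Helper86.residualLimit_eq_of_hasPPowerIndexIn p hS F F₁ hn₁.1.1 hidx₁ Finf hFinf
            L₁ hL₁
        obtain ⟨h1, h2⟩ := hres₀ L₁ hL₁
        exact ⟨fun P => by rw [heq P]; exact h1 P, fun L hL P => by rw [h2 L hL P, heq P]⟩
      · obtain ⟨F₁, hn₁, hEw₁, hidx₁, hcard₁⟩ := prime_step hS hFn hEh hEF hcen hKq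
        obtain ⟨S₀, F₀, hS₀, hn₀, hE₀, hA₀, hres₀⟩ := ih S F₁ hn₁ hEw₁ hcen (by omega)
        refine ⟨S₀, F₀, hS₀, hn₀, hE₀, hA₀, fun Finf hFinf => ?_⟩
        obtain ⟨W, L₁, hL₁⟩ := exists_residualLimit' p hS F₁ hn₁.1.1
        have heq : ∀ P, Finf.Hom P = L₁.Hom P :=
          resLim_primeIdx p hS F F₁ hF hn₁.1.1 hidx₁ Finf hFinf L₁ hL₁
        obtain ⟨h1, h2⟩ := hres₀ L₁ hL₁
        exact ⟨fun P => by rw [heq P]; exact h1 P, fun L hL P => by rw [h2 L hL P, heq P]⟩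

/-- **The reduction theorem**, keeping the weak normality of `E` in the final system. -/
theorem reduction_mainW [Finite S] (p : ℕ) [Fact p.Prime] (hS : IsPGroup p S)
    (F : FusionSystem S) (hF : F.IsSaturated p) {T : Subgroup Ω} (E : FusionSystem T)
    (hE : E.IsNormalIn F p) [hn : ((E.autGroup T).subgroupOf (F.autGroup T)).Normal]
    (hsolv : Cfsg.IsPSolvable p (↥(F.autGroup T) ⧸ (E.autGroup T).subgroupOf (F.autGroup T))) :
    ∃ F₀ : FusionSystem (T ⊔ centralizerIn S T), F₀.IsNormalIn F p ∧ E.IsWeaklyNormalIn F₀ p ∧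
      F₀.autGroup T = E.autGroup T ∧
      ∀ {U : Subgroup Ω} (Finf : FusionSystem U), Finf.IsResidualLimitOf F p →
        Finf.IsSubsystemOf F₀ ∧ ∀ {V : Subgroup Ω} (L : FusionSystem V),
          L.IsResidualLimitOf F₀ p → ∀ P : Subgroup Ω, L.Hom P = Finf.Hom P := by
  have hEFaut : E.autGroup T ≤ F.autGroup T := autGroup_mono' hE.1.2.2.1 T
  have hered := hered_of_solv hEFaut hsolv
  have hTS : T ≤ S := hE.1.2.2.2.1.1
  obtain ⟨S₀, F₀, hS₀, hn₀, hE₀, hA₀, hres₀⟩ :=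
    main_indW hS hE hered _ S F (normal_self hF) hE.1 (sup_le hTS inf_le_left) le_rfl
  subst hS₀
  exact ⟨F₀, hn₀, hE₀, hA₀, fun Finf hFinf => hres₀ Finf hFinf⟩

/-- maps of the centralizer system of `T` are trivial modulo `T`, when every subgroup of `C_S(T)`
centralized by `E` lies in `T`. -/
theorem cen_focal_le [Finite S] (p : ℕ) [Fact p.Prime] (hS : IsPGroup p S)
    (F : FusionSystem S) (hF : F.IsSaturated p) {T : Subgroup Ω} (E : FusionSystem T)
    (hE : E.IsNormalIn F p)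
    (hCE : ∀ Y : Subgroup Ω, Y ≤ centralizerIn S T →
      (∀ C : FusionSystem (centralizerIn S Y), F.IsCentralizerSystem Y C → E.IsSubsystemOf C) →
      Y ≤ T)
    (Q : Subgroup Ω) (f : Ω → Ω) (hf : Mor F Q f) (hQ : Q ≤ centralizerIn S T)
    (hfC : ∀ x ∈ Q, f x ∈ centralizerIn S T)
    (hext : ∃ f', Mor F (Q ⊔ T) f' ∧ (∀ x ∈ Q, f' x = f x) ∧ ∀ x ∈ T, f' x = x) :
    ∀ x ∈ Q, x⁻¹ * f x ∈ T := by
  have hTS : T ≤ S := hE.1.2.2.2.1.1
  intro x hx
  have hD := DFac.isCentralizerSystem_centSystem F T hTS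
  have h1 := Cen.focal_cen_le p hS F hF E hE (DFac.centSystem F T hTS) hD
  have h2 : sSup {X : Subgroup Ω | X ≤ centralizerIn S T ∧
      ∀ P : Subgroup Ω, E.Hom P ⊆ F.centralizerHom X P} ≤ T := by
    apply sSup_le
    rintro X ⟨hX, hXE⟩
    exact hCE X hX (fun C hC P => by rw [hC P]; exact hXE P)
  have hm : Mor (DFac.centSystem F T hTS) Q f :=
    (DFac.mor_centSystem_iff F T hTS Q f).2 ⟨hf, hQ, hfC, hext⟩
  obtain ⟨φ, hφ, hφf⟩ := hm
  apply h2
  apply h1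
  apply Subgroup.subset_closure
  exact ⟨Q, φ, ⟨x, hx⟩, hφ, by rw [hφf]⟩

/-- maps of `F₀` defined on subgroups containing `T` are trivial modulo `T`. -/
theorem top_focal [Finite S] (p : ℕ) [Fact p.Prime] (hS : IsPGroup p S)
    (F : FusionSystem S) (hF : F.IsSaturated p) {T : Subgroup Ω} (E : FusionSystem T)
    (hE : E.IsNormalIn F p)
    (hCE : ∀ Y : Subgroup Ω, Y ≤ centralizerIn S T →
      (∀ C : FusionSystem (centralizerIn S Y), F.IsCentralizerSystem Y C → E.IsSubsystemOf C) →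
      Y ≤ T)
    (F₀ : FusionSystem (T ⊔ centralizerIn S T)) (hF₀F : F₀.IsSubsystemOf F)
    (hA : F₀.autGroup T = E.autGroup T)
    (P : Subgroup Ω) (hTP : T ≤ P) (f : Ω → Ω) (hf : Mor F₀ P f) :
    ∀ x ∈ P, x⁻¹ * f x ∈ T := by
  have hTcl : F.StronglyClosed T := hE.1.2.2.2.1
  have hTS : T ≤ S := hTcl.1
  have hsup : T ⊔ centralizerIn S T ≤ S := sup_le hTS inf_le_left
  haveI : Finite T := Helper84.finite_of_le hTS
  haveI : Finite ↥(T ⊔ centralizerIn S T) := Helper84.finite_of_le hsup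
  have hfF : Mor F P f := Helper88.subsystem_mor hF₀F hf
  have hPle : P ≤ T ⊔ centralizerIn S T := hf.le
  have hfT : ∀ x ∈ T, f x ∈ T := Helper88.stronglyClosed_mor hTcl le_rfl (hfF.res hTP)
  obtain ⟨α, hα, hαf⟩ := (hf.res hTP).exists_aut hfT
  rw [hA] at hα
  have hfE : Mor E T f :=
    (autFun_mor E le_rfl hα).congr (fun x hx => by rw [autFun_mem α hx]; exact hαf ⟨x, hx⟩)
  obtain ⟨g, hg, hgs, hgf, hgc⟩ := Helper88.extCond_of_normal hE f hfE hfT
  obtain ⟨g', hg', hg'g⟩ := hg.exists_inv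
  rw [hg.img_eq_self hgs] at hg'
  -- the map `ψ = g⁻¹ f`
  have hψ : Mor F P (fun x => g' (f x)) := hfF.comp hg' (fun x hx => hf.mem_S hx)
  have hψT : ∀ t ∈ T, g' (f t) = t := by
    intro t ht
    rw [← hgf t ht]
    exact hg'g t (Subgroup.mem_sup_left ht)
  have hgg' : ∀ x ∈ P, g (g' (f x)) = f x := by
    intro x hx
    have h1 : f x ∈ img (T ⊔ centralizerIn S T) g := by
      rw [hg.img_eq_self hgs]; exact hf.mem_S hx
    obtain ⟨z, hz, hzx⟩ := hg.mem_img.1 h1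
    rw [← hzx, hg'g z hz]
  -- elements of `P ∩ C_S(T)`
  have hkey : ∀ c ∈ P ⊓ centralizerIn S T, c⁻¹ * f c ∈ T := by
    intro c hc
    have hψC : ∀ y ∈ P ⊓ centralizerIn S T, g' (f y) ∈ centralizerIn S T := by
      intro y hy
      rw [Helper88.mem_centralizerIn]
      refine ⟨hψ.mem_S hy.1, fun t ht => ?_⟩
      have e1 : g' (f (y * t)) = g' (f y) * t := by
        have := hψ.map_mul hy.1 (hTP ht)
        rw [this, hψT t ht]
      have e2 : g' (f (t * y)) = t * g' (f y) := by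
        have := hψ.map_mul (hTP ht) hy.1
        rw [this, hψT t ht]
      have e3 : y * t = t * y := ((Helper88.mem_centralizerIn.1 hy.2).2 t ht).symm
      rw [← e1, ← e2, e3]
    have h1 := cen_focal_le p hS F hF E hE hCE (P ⊓ centralizerIn S T) (fun x => g' (f x))
      (hψ.res inf_le_left) inf_le_right hψC
      ⟨fun x => g' (f x), hψ.res (sup_le inf_le_left hTP), fun x _ => rfl, hψT⟩ c hc
    have hc' : g' (f c) ∈ centralizerIn S T := hψC c hc
    have h2 := (hgc _ hc').1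
    rw [hgg' c hc.1] at h2
    have e : c⁻¹ * f c = (c⁻¹ * g' (f c)) * ((g' (f c))⁻¹ * f c) := by group
    rw [e]
    exact T.mul_mem h1 h2
  intro x hx
  have hcomm : ∀ r ∈ T, ∀ c ∈ centralizerIn S T, r * c = c * r := by
    intro r hr c hc
    exact (Helper88.mem_centralizerIn.1 hc).2 r hr
  obtain ⟨t, ht, c, hc, rfl⟩ := Cen.sup_decomp2 hcomm x (hPle hx)
  have hcP : c ∈ P := by
    have e : c = t⁻¹ * (t * c) := by group
    rw [e]
    exact P.mul_mem (P.inv_mem (hTP ht)) hx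
  have h1 := hkey c ⟨hcP, hc⟩
  have h2 : t⁻¹ * f t ∈ T := T.mul_mem (T.inv_mem ht) (hfT t ht)
  have h3 : f (t * c) = f t * f c := hf.map_mul (hTP ht) hcP
  have h4 : (t⁻¹ * f t) * c = c * (t⁻¹ * f t) := hcomm _ h2 c hc
  have e : (t * c)⁻¹ * f (t * c) = (t⁻¹ * f t) * (c⁻¹ * f c) := by
    rw [h3]
    calc (t * c)⁻¹ * (f t * f c) = c⁻¹ * ((t⁻¹ * f t) * c) * (c⁻¹ * f c) := by group
      _ = c⁻¹ * (c * (t⁻¹ * f t)) * (c⁻¹ * f c) := by rw [h4]
      _ = (t⁻¹ * f t) * (c⁻¹ * f c) := by group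
  rw [e]
  exact T.mul_mem h2 h1

/-- all maps of `F₀` are trivial modulo `T`. -/
theorem all_focal [Finite S] (p : ℕ) [Fact p.Prime] (hS : IsPGroup p S)
    (F : FusionSystem S) (hF : F.IsSaturated p) {T : Subgroup Ω} (E : FusionSystem T)
    (hE : E.IsNormalIn F p)
    (hCE : ∀ Y : Subgroup Ω, Y ≤ centralizerIn S T →
      (∀ C : FusionSystem (centralizerIn S Y), F.IsCentralizerSystem Y C → E.IsSubsystemOf C) →
      Y ≤ T)
    (F₀ : FusionSystem (T ⊔ centralizerIn S T)) (hF₀F : F₀.IsSubsystemOf F)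
    (hF₀sat : F₀.IsSaturated p) (hTcl₀ : F₀.StronglyClosed T)
    (hA : F₀.autGroup T = E.autGroup T)
    (P : Subgroup Ω) (f : Ω → Ω) (hf : Mor F₀ P f) :
    ∀ x ∈ P, x⁻¹ * f x ∈ T := by
  have hTS : T ≤ S := hE.1.2.2.2.1.1
  have hsup : T ⊔ centralizerIn S T ≤ S := sup_le hTS inf_le_left
  haveI : Finite ↥(T ⊔ centralizerIn S T) := Helper84.finite_of_le hsup
  have hS₀ : IsPGroup p ↥(T ⊔ centralizerIn S T) := hS.to_le hsup
  obtain ⟨φ, hφ, hφf⟩ := hf
  obtain ⟨ψ, hψ, hψT⟩ := Helper87.exists_hom_sup_mod hS₀ F₀ hF₀sat hTcl₀ hφ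
  intro x hx
  have h1 := top_focal p hS F hF E hE hCE F₀ hF₀F hA (P ⊔ T) le_sup_right (extFun ψ)
    (mor_of_hom F₀ hψ) x (Subgroup.mem_sup_left hx)
  have h2 := hψT ⟨x, hx⟩
  rw [extFun_mem ψ (Subgroup.mem_sup_left hx)] at h1
  rw [hφf ⟨x, hx⟩] at h2
  have e : x⁻¹ * f x = (x⁻¹ * ψ ⟨x, Subgroup.mem_sup_left hx⟩) *
      ((f x)⁻¹ * ψ (Subgroup.inclusion le_sup_left ⟨x, hx⟩))⁻¹ := by
    show x⁻¹ * f x = (x⁻¹ * ψ ⟨x, Subgroup.mem_sup_left hx⟩) *
      ((f x)⁻¹ * ψ ⟨x, Subgroup.mem_sup_left hx⟩)⁻¹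
    group
  rw [e]
  exact T.mul_mem h1 (T.inv_mem h2)

/-- `E` has `p`-power index in `F₀`. -/
theorem ppow_of_focal [Finite S] (p : ℕ) [Fact p.Prime] (hS : IsPGroup p S)
    (F : FusionSystem S) (hF : F.IsSaturated p) {T : Subgroup Ω} (E : FusionSystem T)
    (hE : E.IsNormalIn F p)
    (hCE : ∀ Y : Subgroup Ω, Y ≤ centralizerIn S T →
      (∀ C : FusionSystem (centralizerIn S Y), F.IsCentralizerSystem Y C → E.IsSubsystemOf C) →
      Y ≤ T)
    (F₀ : FusionSystem (T ⊔ centralizerIn S T)) (hF₀F : F₀.IsSubsystemOf F)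
    (hEF₀ : E.IsWeaklyNormalIn F₀ p) (hA : F₀.autGroup T = E.autGroup T) :
    E.HasPPowerIndexIn F₀ p := by
  have hTS : T ≤ S := hE.1.2.2.2.1.1
  have hsup : T ⊔ centralizerIn S T ≤ S := sup_le hTS inf_le_left
  haveI : Finite T := Helper84.finite_of_le hTS
  haveI : Finite ↥(T ⊔ centralizerIn S T) := Helper84.finite_of_le hsup
  have hED := Helper88.invData_of_invariant hEF₀.2.2
  have hTcl₀ : F₀.StronglyClosed T := hED.sc
  have hall := all_focal p hS F hF E hE hCE F₀ hF₀F hEF₀.2.1 hTcl₀ hA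
  refine ⟨hED.sub, ?_, ?_⟩
  · unfold FusionSystem.hyperfocalSubgroup
    rw [Subgroup.closure_le]
    rintro y ⟨P, α, x, hP, -, rfl⟩
    have hm : Mor F₀ P (autFun (α : MulAut P)) := autFun_mor F₀ hP α.2
    have := hall P _ hm x x.2
    rw [autFun_mem (α : MulAut P) x.2] at this
    exact this
  · intro P hPT α hα
    have hαF : α ∈ F₀.autGroup P := Subgroup.map_subtype_le _ hα
    have hm : Mor F₀ P (autFun α) := autFun_mor F₀ (hPT.trans hTcl₀.1) hαF
    obtain ⟨a, f₀, ha, hf₀, hfa⟩ := hED.frat P hPT _ hm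
    have haT : ∀ x ∈ T, a x ∈ T := Helper88.stronglyClosed_mor hTcl₀ le_rfl ha
    obtain ⟨ā, hā, hāa⟩ := ha.exists_aut haT
    rw [hA] at hā
    have haE : Mor E T a :=
      (autFun_mor E le_rfl hā).congr (fun x hx => by rw [autFun_mem ā hx]; exact hāa ⟨x, hx⟩)
    have hmE : Mor E P (autFun α) :=
      (hf₀.comp haE (fun x hx => hf₀.mem_S hx)).congr (fun x hx => (hfa x hx).symm)
    exact (Helper88.mem_autGroup_iff E hPT α).2 hmE

/-- **The reduction to normal subsystems.** -/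
theorem reduction_cen [Finite S] (p : ℕ) [Fact p.Prime] (hS : IsPGroup p S)
    (F : FusionSystem S) (hF : F.IsSaturated p) {T : Subgroup Ω} (E : FusionSystem T)
    (hE : E.IsNormalIn F p)
    (hCE : ∀ Y : Subgroup Ω, Y ≤ centralizerIn S T →
      (∀ C : FusionSystem (centralizerIn S Y), F.IsCentralizerSystem Y C → E.IsSubsystemOf C) →
      Y ≤ T)
    [hn : ((E.autGroup T).subgroupOf (F.autGroup T)).Normal]
    (hsolv : Cfsg.IsPSolvable p (↥(F.autGroup T) ⧸ (E.autGroup T).subgroupOf (F.autGroup T)))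
    {U V : Subgroup Ω} (Finf : FusionSystem U) (hFinf : Finf.IsResidualLimitOf F p)
    (Einf : FusionSystem V) (hEinf : Einf.IsResidualLimitOf E p) :
    ∀ P : Subgroup Ω, Finf.Hom P = Einf.Hom P := by
  have hTS : T ≤ S := hE.1.2.2.2.1.1
  have hsup : T ⊔ centralizerIn S T ≤ S := sup_le hTS inf_le_left
  haveI : Finite ↥(T ⊔ centralizerIn S T) := Helper84.finite_of_le hsup
  have hS₀ : IsPGroup p ↥(T ⊔ centralizerIn S T) := hS.to_le hsup
  obtain ⟨F₀, hn₀, hEF₀, hA₀, hres₀⟩ := reduction_mainW p hS F hF E hE hsolv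
  have hF₀F : F₀.IsSubsystemOf F := hn₀.1.2.2.1
  have hidx := ppow_of_focal p hS F hF E hE hCE F₀ hF₀F hEF₀ hA₀
  obtain ⟨W, L, hL⟩ := exists_residualLimit' p hS₀ F₀ hn₀.1.1
  have h1 : ∀ P, L.Hom P = Einf.Hom P :=
    Helper86.residualLimit_eq_of_hasPPowerIndexIn p hS₀ F₀ E hEF₀.1 hidx L hL Einf hEinf
  obtain ⟨-, h2⟩ := hres₀ Finf hFinf
  intro P
  rw [← h2 L hL P, h1 P]

end Cfsg.Agent.Lib.Helper42.Red
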